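import Cfsg.Agent.Mrg.Omega.NO1.AB.Beta
import Cfsg.Agent.Mrg.Omega.FF.TvBasic
import Cfsg.Agent.Omega.NO1.B0.Pure

section


/-!
# THEOREM B0 (bb OMEGA 18835, helper970): coordinates on `X`

`Loc`, `Beta` with `C = C_V(L) = 0`: `L` acts on `X = C_V(Q)` as `SL₂(K)`, `|K| = |X₁|`, natural module,
`X₁ = {(x,0)}`.
-/

set_option autoImplicit false
set_option linter.unusedSectionVars false
set_option linter.style.haveILetI false

namespace Cfsg.Agent.Omega.NO1.B0

open Subgroup Cfsg.Agent.Omega.NO1.AB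
open scoped Pointwise MatrixGroups

universe u

variable {L : Type u} [Group L] {V : Type u} [AddCommGroup V] [DistribMulAction L V]

/-- the action on an invariant subgroup -/
@[reducible] def actX {X : AddSubgroup V} (hX : ∀ (l : L), ∀ x ∈ X, l • x ∈ X) : DistribMulAction L X where
  smul l x := ⟨l • (x : V), hX l x x.2⟩
  one_smul x := Subtype.ext (one_smul L (x : V))
  mul_smul l m x := Subtype.ext (mul_smul l m (x : V))
  smul_zero l := Subtype.ext (smul_zero l)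
  smul_add l x y := Subtype.ext (smul_add l (x : V) (y : V))

/-- the endomorphism of `X` -/
def endX {X : AddSubgroup V} (hX : ∀ (l : L), ∀ x ∈ X, l • x ∈ X) : L →* (AddMonoid.End X)ˣ :=
  letI := actX hX
  MonoidHom.toHomUnits (DistribMulAction.toAddMonoidEnd L X)

theorem endX_apply {X : AddSubgroup V} (hX : ∀ (l : L), ∀ x ∈ X, l • x ∈ X) (l : L) (x : X) :
    ((endX hX l • x : X) : V) = l • (x : V) := rfl

section

variable {A : Subgroup L} {E F : AddSubgroup V} {Q L₁ : Subgroup L} {R : Sylow 2 L} {z : V}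
  (h : Loc A E F Q L₁ R z) (hb : Beta A E F (fx V Q) Q L₁)
include h hb

theorem exists_out : ∃ g : L, g ∉ L₁ := by
  by_contra hc
  push Not at hc
  exact h.ne (eq_top_iff.2 fun g _ => hc g)

theorem X1_card_mul [Finite L] [Finite V] (hC : fx V (⊤ : Subgroup L) = ⊥) :
    Nat.card ↥(fx V Q ⊓ F) * Nat.card ↥(A ⊓ Q) = Nat.card A := by
  rw [hb.card, hC, AddSubgroup.card_bot, one_mul]

theorem inf_comp [Finite L] [Finite V] (hC : fx V (⊤ : Subgroup L) = ⊥) {g k : L} (hgk : g⁻¹ * k ∉ L₁) :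
    g • (fx V Q ⊓ F) ⊓ k • (fx V Q ⊓ F) = ⊥ := by
  rw [eq_bot_iff, ← hC]
  rintro v ⟨h1, h2⟩
  exact h.mem_C_of hgk h1 h2

theorem inf_F [Finite L] [Finite V] (hC : fx V (⊤ : Subgroup L) = ⊥) {g : L} (hg : g ∉ L₁) :
    g • F ⊓ F = ⊥ := by
  rw [eq_bot_iff, ← hC]
  rintro v ⟨h1, h2⟩
  exact h.fix_all (x := 1) (y := g) (by simpa using hg) (by simpa using h2) (mem_smul_as.1 h1)

theorem card_X [Finite L] [Finite V] (hC : fx V (⊤ : Subgroup L) = ⊥) :
    Nat.card ↥(fx V Q) = Nat.card ↥(fx V Q ⊓ F) ^ 2 := by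
  obtain ⟨g, hg⟩ := exists_out h hb
  have h1 := card_sup_as (fx V Q ⊓ F) (g • (fx V Q ⊓ F))
  have h2 := inf_comp h hb hC (g := 1) (k := g) (by simpa using hg)
  rw [one_smul] at h2
  rw [h2, ← hb.sup g hg, AddSubgroup.card_bot, mul_one, card_smul_as] at h1
  rw [h1, pow_two]

/-- the elements which act on `X` as an element of `A` -/
theorem conj_act [Finite L] [Finite V] (hC : fx V (⊤ : Subgroup L) = ⊥) {l : L} (hl : l ∈ L₁) {a : L}
    (ha : a ∈ A) : ∃ a' ∈ A, ∀ x ∈ fx V Q, (l * a * l⁻¹) • x = a' • x := by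
  obtain ⟨g, hg⟩ := exists_out h hb
  set m := l * a * l⁻¹ with hm
  have hmL : m ∈ L₁ := mul_mem (mul_mem hl (h.A_le ha)) (inv_mem hl)
  have hmg : m * g ∉ L₁ := fun h1 => hg (by
    have := mul_mem (inv_mem hmL) h1
    rwa [inv_mul_cancel_left] at this)
  obtain ⟨b, hb1, hb2⟩ := hb.tra g hg (m * g) hmg
  refine ⟨b, hb1, ?_⟩
  set X₁ := fx V Q ⊓ F with hX₁
  -- `m` is trivial on `X₁`
  have e1 : ∀ x ∈ X₁, m • x = x := by
    intro x hx
    have h1 : l⁻¹ • x ∈ X₁ := by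
      have h2 := smul_mem_smul_as (g := l⁻¹) hx
      rwa [hb.inv l⁻¹ (inv_mem hl)] at h2
    rw [hm, mul_smul, mul_smul, h.mem.FB a ha _ h1.2, smul_inv_smul]
  have e2 : ∀ x ∈ fx V Q, m • x + x ∈ X₁ := by
    intro x hx
    have h1 : l⁻¹ • x ∈ fx V Q := h.smul_X _ hx
    have h2 : a • (l⁻¹ • x) + l⁻¹ • x ∈ X₁ :=
      ⟨(fx V Q).add_mem (h.smul_X _ h1) h1, h.mem.EB a ha _ (hb.XE h1)⟩
    have h3 := smul_mem_smul_as (g := l) h2
    rw [hb.inv l hl] at h3
    have e : l • (a • (l⁻¹ • x) + l⁻¹ • x) = m • x + x := by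
      rw [smul_add, smul_inv_smul, hm, mul_smul, mul_smul]
    rwa [e] at h3
  -- `k = b⁻¹ m`
  have hbb : b⁻¹ = b := inv_eq_of_mul_eq_one_left (h.mem.sq b hb1)
  have e3 : ∀ x ∈ g • X₁, (b⁻¹ * m) • x = x := by
    intro x hx
    have hxX : x ∈ fx V Q := h.mem_X_of hx
    have h1 : (b⁻¹ * m) • x ∈ g • X₁ := by
      rw [mem_smul_as]
      have h2 := mem_smul_as.1 hx
      have h3 : g⁻¹ • (b⁻¹ * m) • x = ((b * g)⁻¹ * (m * g)) • (g⁻¹ • x) := by
        rw [← mul_smul, ← mul_smul]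
        congr 1
        group
      have h4 := smul_mem_smul_as (g := (b * g)⁻¹ * (m * g)) h2
      rw [hb.inv _ hb2] at h4
      rwa [h3]
    have h2 : (b⁻¹ * m) • x + x ∈ X₁ := by
      have h3 : (b⁻¹ * m) • x + x = b⁻¹ • (m • x + x) + (b⁻¹ • x + x) := by
        rw [smul_add, mul_smul]
        have : b⁻¹ • m • x + b⁻¹ • x + (b⁻¹ • x + x) = b⁻¹ • m • x + (b⁻¹ • x + b⁻¹ • x) + x := by abel
        rw [this, h.two, add_zero]
      rw [h3]
      refine X₁.add_mem ?_ ?_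
      · have h4 := e2 x hxX
        rw [hbb, h.mem.FB b hb1 _ h4.2]
        exact h4
      · rw [hbb]
        exact ⟨(fx V Q).add_mem (h.smul_X _ hxX) hxX, h.mem.EB b hb1 _ (hb.XE hxX)⟩
    have h3 : (b⁻¹ * m) • x + x ∈ fx V (⊤ : Subgroup L) :=
      h.mem_C_of_F hg ((g • X₁).add_mem h1 hx) h2.2
    rw [hC, AddSubgroup.mem_bot] at h3
    rw [← neg_eq_iff_add_eq_zero] at h3
    rw [← neg_eq_of_add_eq_zero_left (h.two ((b⁻¹ * m) • x)), h3]
  intro x hx
  rw [hb.sup g hg, AddSubgroup.mem_sup] at hx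
  obtain ⟨y, hy, w, hw, rfl⟩ := hx
  have h1 : m • w = b • w := by
    have := e3 w hw
    rwa [mul_smul, inv_smul_eq_iff] at this
  rw [smul_add, smul_add, e1 y hy, h.mem.FB b hb1 y hy.2, h1]

/-- **Coordinates on `X`.** -/
theorem exists_coord [Finite L] [Finite V] (hC : fx V (⊤ : Subgroup L) = ⊥) :
    ∃ (K : Type) (_ : Field K) (_ : Fintype K) (_ : CharP K 2) (e : ↥(fx V Q) ≃+ (Fin 2 → K)),
      Nat.card K = Nat.card ↥(fx V Q ⊓ F) ∧ (∀ v : ↥(fx V Q), (v : V) ∈ F ↔ e v 1 = 0) ∧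
      (∀ l : L, ∃ s : Matrix.SpecialLinearGroup (Fin 2) K, ∀ v : ↥(fx V Q),
        e ⟨l • (v : V), h.smul_X l v.2⟩ = s.1.mulVec (e v)) ∧
      (∀ s : Matrix.SpecialLinearGroup (Fin 2) K, ∃ l : L, ∀ v : ↥(fx V Q),
        e ⟨l • (v : V), h.smul_X l v.2⟩ = s.1.mulVec (e v)) ∧
      (∀ a ∈ A, ∃ k : K, ∀ v : ↥(fx V Q),
        e ⟨a • (v : V), h.smul_X a v.2⟩ = (!![1, k; 0, 1] : Matrix (Fin 2) (Fin 2) K).mulVec (e v)) := by
  set X := fx V Q with hX
  have hXi : ∀ (l : L), ∀ x ∈ X, l • x ∈ X := fun l x hx => h.smul_X l hx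
  set ρ : L →* (AddMonoid.End X)ˣ := endX hXi with hρ
  obtain ⟨g₀, hg₀⟩ := exists_out h hb
  -- the group
  set T : Subgroup ρ.range := A.map ρ.rangeRestrict with hT
  set U : AddSubgroup X := F.addSubgroupOf X with hU
  have hTmem : ∀ {t : ρ.range}, t ∈ T ↔ ∃ a ∈ A, ρ.rangeRestrict a = t := fun {t} => Iff.rfl
  have happ : ∀ (l : L) (x : X), ((ρ.rangeRestrict l • x : X) : V) = l • (x : V) := fun l x => rfl
  have htriv : ∀ l : L, (∀ x ∈ X, l • x = x) → ρ.rangeRestrict l = 1 := by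
    intro l hl
    apply Subtype.ext
    apply Units.ext
    apply AddMonoidHom.ext
    intro x
    exact Subtype.ext (hl x x.2)
  have hext : ∀ l m : L, (∀ x ∈ X, l • x = m • x) → ρ.rangeRestrict l = ρ.rangeRestrict m := by
    intro l m hl
    apply Subtype.ext
    apply Units.ext
    apply AddMonoidHom.ext
    intro x
    exact Subtype.ext (hl x x.2)
  have two : ∀ v : X, v + v = 0 := fun v => Subtype.ext (h.two v)
  have hout : ∃ x ∈ X, x ∉ F := by
    refine ⟨g₀ • z, h.smul_X _ h.z_mem.1, fun h1 => ?_⟩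
    have h2 := h.mem_C_of_F hg₀ (smul_mem_smul_as h.z_mem) h1
    rw [hC, AddSubgroup.mem_bot] at h2
    apply h.z_not
    rw [hC, AddSubgroup.mem_bot]
    rwa [smul_eq_zero_iff_eq] at h2
  -- the kernel on `A`
  have hker : ∀ a ∈ A, ρ.rangeRestrict a = 1 → a ∈ Q := by
    intro a ha h1
    obtain ⟨x, hx, hxF⟩ := hout
    apply hb.cen x hx hxF a ha
    have h2 := congrArg (fun t : ρ.range => ((t • (⟨x, hx⟩ : X) : X) : V)) h1
    simpa [happ] using h2
  have hcT : Nat.card T = Nat.card ↥(X ⊓ F) := by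
    let f : A →* ρ.range := ρ.rangeRestrict.comp A.subtype
    have h1 : f.range = T := by
      rw [hT, MonoidHom.range_comp, Subgroup.range_subtype]
    have h2 : Nat.card f.ker = Nat.card ↥(A ⊓ Q) := by
      apply Nat.card_congr
      exact
        { toFun := fun a => ⟨a.1.1, a.1.2, hker _ a.1.2 (MonoidHom.mem_ker.1 a.2)⟩
          invFun := fun a => ⟨⟨a.1, a.2.1⟩, MonoidHom.mem_ker.2 (htriv _ fun x hx => hx a a.2.2)⟩
          left_inv := fun a => rfl
          right_inv := fun a => rfl }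
    have h3 := Subgroup.card_mul_index f.ker
    rw [Subgroup.index_ker, h1, h2, ← X1_card_mul h hb hC, mul_comm] at h3
    exact Nat.eq_of_mul_eq_mul_right Nat.card_pos h3
  have hX1 : 1 < Nat.card ↥(X ⊓ F) := by
    have h1 : z ≠ 0 := by
      intro h1
      apply h.z_not
      rw [h1]; exact AddSubgroup.zero_mem _
    have : Nontrivial ↥(X ⊓ F) := ⟨⟨⟨z, h.z_mem⟩, 0, fun h2 => h1 (congrArg Subtype.val h2)⟩⟩
    exact Finite.one_lt_card
  have hcU : Nat.card U = Nat.card ↥(X ⊓ F) := by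
    apply Nat.card_congr
    exact
      { toFun := fun v => ⟨v.1.1, v.1.2, AddSubgroup.mem_addSubgroupOf.1 v.2⟩
        invFun := fun v => ⟨⟨v.1, v.2.1⟩, AddSubgroup.mem_addSubgroupOf.2 v.2.2⟩
        left_inv := fun v => rfl
        right_inv := fun v => rfl }
  haveI : Finite ρ.range := Finite.of_surjective ρ.rangeRestrict ρ.rangeRestrict_surjective
  obtain ⟨K, i1, i2, i3, φ, e, h1, h2, h3, h4, h5, h6, h7⟩ :=
    Cfsg.Agent.Omega.FF.SpreadEnd.exists_field_add (L := ρ.range) (V := X) T U ⊥ two (by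
      rintro ⟨_, l, rfl⟩ hl
      exact htriv l fun x hx => congrArg Subtype.val (hl ⟨x, hx⟩)) (by
      intro v
      rw [AddSubgroup.mem_addSubgroupOf]
      constructor
      · rintro hv _ ⟨a, ha, rfl⟩
        exact Subtype.ext (h.mem.FB a ha _ hv)
      · intro hv
        exact h.mem.CB _ fun a ha => congrArg Subtype.val (hv _ ⟨a, ha, rfl⟩)) (by
      intro v
      rw [AddSubgroup.mem_bot]
      constructor
      · rintro rfl x
        exact smul_zero x
      · intro hv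
        have h1 : (v : V) ∈ fx V (⊤ : Subgroup L) := fun l _ => congrArg Subtype.val (hv (ρ.rangeRestrict l))
        rw [hC, AddSubgroup.mem_bot] at h1
        exact Subtype.ext h1) (by
      rintro _ ⟨a, ha, rfl⟩
      change ρ.rangeRestrict a * ρ.rangeRestrict a = 1
      rw [← map_mul, h.mem.sq a ha, map_one]) (by
      rintro _ ⟨a, ha, rfl⟩ v
      rw [AddSubgroup.mem_addSubgroupOf]
      exact h.mem.EB a ha _ (hb.XE v.2)) (by
      rintro _ ⟨a, ha, rfl⟩ h1 v hv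
      rw [AddSubgroup.mem_addSubgroupOf]
      by_contra hvF
      apply h1
      have h2 := hb.cen _ v.2 hvF a ha (congrArg Subtype.val hv)
      exact htriv a fun x hx => hx a h2) (by rw [hcT]; exact hX1) (by
      have h1 := AddSubgroup.card_mul_index U
      rw [hcU, card_X h hb hC, pow_two] at h1
      rw [hcT]
      exact Nat.eq_of_mul_eq_mul_left Nat.card_pos h1) (by
      rw [AddSubgroup.relIndex_bot_left, hcU, hcT]) (by
      intro K hK
      have h1 : (⊤ : Subgroup L) ≤ K.comap ρ.rangeRestrict := by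
        rw [← h.top_of hg₀]
        refine sup_le ?_ ?_
        · intro a ha
          have := hK 1 (ρ.rangeRestrict a) ⟨a, ha, rfl⟩
          simpa using this
        · intro a ha
          rw [mem_conj] at ha
          have := hK (ρ.rangeRestrict g₀) (ρ.rangeRestrict (g₀⁻¹ * a * g₀)) ⟨_, ha, rfl⟩
          rw [← map_mul, ← map_inv, ← map_mul] at this
          have e : g₀ * (g₀⁻¹ * a * g₀) * g₀⁻¹ = a := by group
          rwa [e] at this
      rw [eq_top_iff]
      rintro ⟨_, l, rfl⟩ _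
      exact h1 (mem_top l)) (by
      rintro ⟨_, l, rfl⟩ hl v hv hlv
      rw [AddSubgroup.mem_addSubgroupOf] at hv hlv
      rw [AddSubgroup.mem_bot]
      by_cases hlL : l ∈ L₁
      · exfalso
        apply hl
        have key : ∀ l ∈ L₁, ∀ t ∈ T, ρ.rangeRestrict l * t * (ρ.rangeRestrict l)⁻¹ ∈ T := by
          rintro l hl _ ⟨a, ha, rfl⟩
          obtain ⟨a', ha', h1⟩ := conj_act h hb hC hl ha
          refine ⟨a', ha', ?_⟩
          change ρ.rangeRestrict a' = ρ.rangeRestrict l * ρ.rangeRestrict a * (ρ.rangeRestrict l)⁻¹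
          rw [← map_mul, ← map_inv, ← map_mul]
          exact (hext _ _ h1).symm
        change ρ.rangeRestrict l ∈ _
        rw [mem_normalizer_iff]
        intro y
        constructor
        · exact key l hlL y
        · intro hy
          have h1 := key l⁻¹ (inv_mem hlL) _ hy
          have e : ρ.rangeRestrict l⁻¹ * (ρ.rangeRestrict l * y * (ρ.rangeRestrict l)⁻¹) * (ρ.rangeRestrict l⁻¹)⁻¹
              = y := by rw [map_inv]; group
          rwa [e] at h1
      · have h1 : l • (v : V) ∈ fx V (⊤ : Subgroup L) :=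
          h.mem_C_of_F hlL (smul_mem_smul_as ⟨v.2, hv⟩) hlv
        rw [hC, AddSubgroup.mem_bot] at h1
        exact Subtype.ext h1) (by
      rintro ⟨_, l, rfl⟩ _ hl
      by_contra hcon
      push Not at hcon
      apply hl
      apply htriv l
      intro x hx
      have h1 := hcon ⟨x, hx⟩
      rw [AddSubgroup.mem_bot] at h1
      have h2 : l • x + x = 0 := congrArg Subtype.val h1
      have h3 := neg_eq_iff_add_eq_zero.2 h2
      rw [neg_eq_of_add_eq_zero_left (h.two (l • x))] at h3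
      exact h3)
  have hinj : Function.Injective e := by
    intro v w hvw
    have h8 : e (v + w) = 0 := by
      rw [h2, hvw, ← h2, two, (h4 _).2 (AddSubgroup.zero_mem _)]
    rw [h4, AddSubgroup.mem_bot] at h8
    rw [← neg_eq_iff_add_eq_zero, neg_eq_of_add_eq_zero_left (two v)] at h8
    exact h8
  let e' : X ≃+ (Fin 2 → K) := AddEquiv.ofBijective (AddMonoidHom.mk' e h2) ⟨hinj, h3⟩
  refine ⟨K, i1, i2, i3, e', by rw [h1, hcT], fun v => ?_, fun l => ⟨φ (ρ.rangeRestrict l), fun v => ?_⟩,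
    fun s => ?_, fun a ha => ?_⟩
  · rw [← AddSubgroup.mem_addSubgroupOf (K := X)]
    exact h6 v
  · exact h5 (ρ.rangeRestrict l) v
  · obtain ⟨⟨_, l, rfl⟩, hl⟩ := φ.surjective s
    refine ⟨l, fun v => ?_⟩
    rw [← hl]
    exact h5 (ρ.rangeRestrict l) v
  · obtain ⟨k, hk⟩ := (h7 (ρ.rangeRestrict a)).1 ⟨a, ha, rfl⟩
    refine ⟨k, fun v => ?_⟩
    rw [← hk]
    exact h5 (ρ.rangeRestrict a) v

end

end Cfsg.Agent.Omega.NO1.B0

end

section


/-!
# THEOREM B0 (bb OMEGA 18835, helper970): the hypotheses in `Y`, the components, the 2-element `t`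
-/

set_option autoImplicit false
set_option linter.unusedSectionVars false
set_option linter.style.haveILetI false

namespace Cfsg.Agent.Omega.NO1.B0

open Subgroup Cfsg.Agent.Omega.NO1.AB
open scoped Pointwise MatrixGroups

universe u

section

variable {L : Type u} [Group L] {V : Type u} [AddCommGroup V] [DistribMulAction L V]
  {A : Subgroup L} {E F : AddSubgroup V} {Q L₁ : Subgroup L} {R : Sylow 2 L} {z : V}
  (h : Loc A E F Q L₁ R z) (hb : Beta A E F (fx V Q) Q L₁)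
include h hb

/-- Coordinates on `X` with `z = (1,0)`. -/
theorem exists_coord' [Finite L] [Finite V] (hC : fx V (⊤ : Subgroup L) = ⊥) :
    ∃ (K : Type) (_ : Field K) (_ : Fintype K) (_ : CharP K 2) (e : ↥(fx V Q) ≃+ (Fin 2 → K)),
      Nat.card K = Nat.card ↥(fx V Q ⊓ F) ∧ (∀ v : ↥(fx V Q), (v : V) ∈ F ↔ e v 1 = 0) ∧
      (∀ l : L, ∃ s : Matrix.SpecialLinearGroup (Fin 2) K, ∀ v : ↥(fx V Q),
        e ⟨l • (v : V), h.smul_X l v.2⟩ = s.1.mulVec (e v)) ∧
      (∀ s : Matrix.SpecialLinearGroup (Fin 2) K, ∃ l : L, ∀ v : ↥(fx V Q),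
        e ⟨l • (v : V), h.smul_X l v.2⟩ = s.1.mulVec (e v)) ∧
      e ⟨z, h.z_mem.1⟩ = ![1, 0] := by
  obtain ⟨K, i1, i2, i3, e, h1, h2, h3, h4, -⟩ := exists_coord h hb hC
  have hz1 : e ⟨z, h.z_mem.1⟩ 1 = 0 := (h2 _).1 h.z_mem.2
  have hz0 : e ⟨z, h.z_mem.1⟩ 0 ≠ 0 := by
    intro h0
    have h5 : e ⟨z, h.z_mem.1⟩ = 0 := by
      ext i
      fin_cases i
      · exact h0
      · exact hz1
    rw [map_eq_zero_iff e e.injective] at h5
    apply h.z_not
    rw [hC, AddSubgroup.mem_bot]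
    exact congrArg Subtype.val h5
  set c := e ⟨z, h.z_mem.1⟩ 0 with hc
  let sc : (Fin 2 → K) ≃+ (Fin 2 → K) :=
    { toFun := fun v => c⁻¹ • v
      invFun := fun v => c • v
      left_inv := fun v => by
        change c • c⁻¹ • v = v
        rw [smul_smul, mul_inv_cancel₀ hz0, one_smul]
      right_inv := fun v => by
        change c⁻¹ • c • v = v
        rw [smul_smul, inv_mul_cancel₀ hz0, one_smul]
      map_add' := fun v w => smul_add _ _ _ }
  refine ⟨K, i1, i2, i3, e.trans sc, h1, fun v => ?_, fun l => ?_, fun s => ?_, ?_⟩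
  · rw [h2]
    change _ ↔ c⁻¹ * e v 1 = 0
    rw [mul_eq_zero, inv_eq_zero]
    exact ⟨Or.inr, fun h6 => h6.resolve_left hz0⟩
  · obtain ⟨s, hs⟩ := h3 l
    refine ⟨s, fun v => ?_⟩
    change c⁻¹ • e _ = s.1.mulVec (c⁻¹ • e v)
    rw [hs, Matrix.mulVec_smul]
  · obtain ⟨l, hs⟩ := h4 s
    refine ⟨l, fun v => ?_⟩
    change c⁻¹ • e _ = s.1.mulVec (c⁻¹ • e v)
    rw [hs, Matrix.mulVec_smul]
  · change c⁻¹ • e ⟨z, h.z_mem.1⟩ = ![1, 0]
    rw [vec_eq (e ⟨z, h.z_mem.1⟩), ← hc, hz1, smul_vec, inv_mul_cancel₀ hz0, mul_zero]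

/-- `L` is transitive on `X#` -/
theorem trans_z [Finite L] [Finite V] (hC : fx V (⊤ : Subgroup L) = ⊥) {x : V} (hx : x ∈ fx V Q)
    (hx0 : x ≠ 0) : ∃ l : L, l • z = x := by
  obtain ⟨K, i1, i2, i3, e, h1, h2, h3, h4, h5⟩ := exists_coord' h hb hC
  have key : ∃ s : Matrix.SpecialLinearGroup (Fin 2) K, s.1.mulVec ![1, 0] = e ⟨x, hx⟩ := by
    set a := e ⟨x, hx⟩ 0 with ha
    set b := e ⟨x, hx⟩ 1 with hb'
    have hv : e ⟨x, hx⟩ = ![a, b] := vec_eq _
    rw [hv]
    by_cases ha0 : a = 0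
    · have hb0 : b ≠ 0 := by
        intro hb0
        rw [ha0, hb0] at hv
        have h6 : e ⟨x, hx⟩ = 0 := by
          rw [hv]
          ext i
          fin_cases i <;> rfl
        rw [map_eq_zero_iff e e.injective] at h6
        exact hx0 (congrArg Subtype.val h6)
      refine ⟨⟨!![0, -b⁻¹; b, 0], by rw [Matrix.det_fin_two_of]; field_simp; ring⟩, ?_⟩
      ext i
      fin_cases i <;> simp [Matrix.mulVec, dotProduct, Fin.sum_univ_two, ha0]
    · refine ⟨⟨!![a, 0; b, a⁻¹], by rw [Matrix.det_fin_two_of]; field_simp; ring⟩, ?_⟩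
      ext i
      fin_cases i <;> simp [Matrix.mulVec, dotProduct, Fin.sum_univ_two]
  obtain ⟨s, hs⟩ := key
  obtain ⟨l, hl⟩ := h4 s
  refine ⟨l, ?_⟩
  have h6 := hl ⟨z, h.z_mem.1⟩
  rw [h5, hs] at h6
  exact congrArg Subtype.val (e.injective h6)

end

variable {Y : Type u} [Group Y] {V : Type u} [AddCommGroup V] [DistribMulAction Y V]

/-- The hypotheses in `Y` (`X = C_V(Q)`, `C_V(L) = 0`). -/
structure Hyp0 (T : Sylow 2 Y) (M L : Subgroup Y) (A Q L₁ : Subgroup L) (R : Sylow 2 L) (E F : AddSubgroup V)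
    (z : V) : Prop where
  loc : Loc A E F Q L₁ R z
  beta : Beta A E F (fx V Q) Q L₁
  C0 : fx V (⊤ : Subgroup L) = ⊥
  faith : ∀ y : Y, (∀ v : V, y • v = v) → y = 1
  irr : ∀ W : AddSubgroup V, (∀ y : Y, ∀ w ∈ W, y • w ∈ W) → W ≤ E → W = ⊥
  off : ∀ B : Subgroup Y, (∀ b ∈ B, b * b = 1) → B ≠ ⊥ → Nat.card B * Nat.card ↥(fx V B) < Nat.card V
  TM : (T : Subgroup Y) ≤ M
  M_ne : M ≠ ⊤
  uniqM : ∀ H : Subgroup Y, (T : Subgroup Y) ≤ H → H ≠ ⊤ → H ≤ M
  L₁M : ∀ l : L, l ∈ L₁ → (l : Y) ∈ M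
  LM : ¬ L ≤ M
  RT : ∀ r : L, r ∈ R → (r : Y) ∈ T
  zT : ∀ t ∈ T, t • z = z

/-- `N_Y(X)` -/
def NX (L : Subgroup Y) (V : Type u) [AddCommGroup V] [DistribMulAction Y V] (Q : Subgroup L) : Subgroup Y :=
  MulAction.stabilizer Y (fx V Q : AddSubgroup V)

theorem mem_NX {L : Subgroup Y} {Q : Subgroup L} {y : Y} : y ∈ NX L V Q ↔ y • (fx V Q : AddSubgroup V) = fx V Q :=
  Iff.rfl

theorem NX_smul {L : Subgroup Y} {Q : Subgroup L} {y : Y} (hy : y ∈ NX L V Q) {x : V} (hx : x ∈ fx V Q) :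
    y • x ∈ fx V Q := by
  rw [← mem_NX.1 hy]
  exact smul_mem_smul_as hx

theorem mem_NX_of [Finite V] {L : Subgroup Y} {Q : Subgroup L} {y : Y} (hy : ∀ x ∈ fx V Q, y • x ∈ fx V Q) :
    y ∈ NX L V Q := by
  rw [mem_NX]
  apply eq_of_le_as
  · intro v hv
    have := hy _ (mem_smul_as.1 hv)
    rwa [smul_inv_smul] at this
  · exact (card_smul_as y _).ge

namespace Hyp0

variable {T : Sylow 2 Y} {M L : Subgroup Y} {A Q L₁ : Subgroup L} {R : Sylow 2 L} {E F : AddSubgroup V}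
  {z : V} (h : Hyp0 T M L A Q L₁ R E F z)
include h

theorem two (v : V) : v + v = 0 := h.loc.two v

theorem neg (v : V) : -v = v := neg_eq_of_add_eq_zero_left (h.two v)

theorem eq_of_add {v w : V} (hvw : v + w = 0) : v = w := by
  rw [← neg_eq_iff_add_eq_zero, h.neg] at hvw
  exact hvw

theorem z_ne : z ≠ 0 := by
  intro h1
  apply h.loc.z_not
  rw [h1]
  exact AddSubgroup.zero_mem _

theorem L_le_NX [Finite V] : L ≤ NX L V Q := by
  intro l hl
  apply mem_NX_of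
  intro x hx
  exact h.loc.smul_X ⟨l, hl⟩ hx

theorem mem_L₁ {l : L} : l ∈ L₁ ↔ (l : Y) ∈ M := by
  refine ⟨h.L₁M l, fun hl => ?_⟩
  have h1 := h.loc.uniq (M.subgroupOf L) (fun a ha => h.L₁M a (h.loc.A_le ha)) (by
    rw [Ne, subgroupOf_eq_top]
    exact h.LM)
  exact h1 hl

theorem stab_z : MulAction.stabilizer Y z ≤ M := by
  apply h.uniqM
  · intro t ht
    exact h.zT t ht
  · intro h1
    -- `z` fixed by `Y`
    obtain ⟨l, hl⟩ := h.loc.zL
    apply hl
    have : (l : Y) ∈ MulAction.stabilizer Y z := by rw [h1]; exact mem_top _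
    exact this

theorem trans [Finite Y] [Finite V] {x : V} (hx : x ∈ fx V Q) (hx0 : x ≠ 0) : ∃ l : L, l • z = x :=
  trans_z h.loc h.beta h.C0 hx hx0

/-- `N_Y(X)` permutes the components -/
theorem comp [Finite Y] [Finite V] {y : Y} (hy : y ∈ NX L V Q) (l : L) :
    ∃ m : L, ∀ x : V, l⁻¹ • x ∈ fx V Q ⊓ F → m⁻¹ • (y • x) ∈ fx V Q ⊓ F := by
  have hz : l • z ∈ fx V Q := h.loc.smul_X l h.loc.z_mem.1
  have hyz : y • (l • z) ∈ fx V Q := NX_smul hy hz
  obtain ⟨m, hm⟩ := h.trans hyz (by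
    rw [Ne, smul_eq_zero_iff_eq, smul_eq_zero_iff_eq]
    exact h.z_ne)
  refine ⟨m, ?_⟩
  intro x hx
  by_cases hx0 : x = 0
  · rw [hx0, smul_zero, smul_zero]; exact AddSubgroup.zero_mem _
  have hxX : x ∈ fx V Q := h.loc.mem_X_of (mem_smul_as.2 hx)
  obtain ⟨k, hk⟩ := h.trans hxX hx0
  have hk0 : k • z ∉ fx V (⊤ : Subgroup L) := by
    rw [hk, h.C0, AddSubgroup.mem_bot]; exact hx0
  -- `l⁻¹ k ∈ L₁`
  have h1 : l⁻¹ * k ∈ L₁ := by
    by_contra h2
    exact hk0 (h.loc.mem_C_of h2 (by rw [hk]; exact mem_smul_as.2 hx) (smul_mem_smul_as h.loc.z_mem))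
  obtain ⟨n, hn⟩ := h.trans (NX_smul hy hxX) (by rwa [Ne, smul_eq_zero_iff_eq])
  have h2 : ((m : Y)⁻¹ * y * l : Y) ∈ M := by
    apply h.stab_z
    rw [MulAction.mem_stabilizer_iff, mul_smul, mul_smul, inv_smul_eq_iff]
    exact hm.symm
  have h3 : ((n : Y)⁻¹ * y * k : Y) ∈ M := by
    apply h.stab_z
    rw [MulAction.mem_stabilizer_iff, mul_smul, mul_smul, inv_smul_eq_iff]
    have : (k : Y) • z = x := hk
    rw [this]
    exact hn.symm
  have h4 : m⁻¹ * n ∈ L₁ := by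
    rw [h.mem_L₁]
    have e : ((m⁻¹ * n : L) : Y) = ((m : Y)⁻¹ * y * l) * ((l⁻¹ * k : L) : Y) * ((n : Y)⁻¹ * y * k)⁻¹ := by
      rw [coe_mul, coe_mul, coe_inv, coe_inv]; group
    rw [e]
    exact mul_mem (mul_mem h2 (h.mem_L₁.1 h1)) (inv_mem h3)
  have h5 := smul_mem_smul_as (g := m⁻¹ * n) h.loc.z_mem
  rw [h.beta.inv _ h4, mul_smul] at h5
  rw [← hn]
  exact h5

theorem comp_z [Finite Y] [Finite V] {y : Y} (hy : y ∈ NX L V Q) (hyz : y • z = z) {x : V}
    (hx : x ∈ fx V Q ⊓ F) : y • x ∈ fx V Q ⊓ F := by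
  obtain ⟨m, hm⟩ := h.comp hy 1
  have h1 := hm z (by rw [inv_one, one_smul]; exact h.loc.z_mem)
  rw [hyz] at h1
  have h2 : m ∈ L₁ := by
    by_contra h3
    have h4 := h.loc.mem_C_of_F h3 (mem_smul_as.2 h1) h.loc.z_mem.2
    exact h.loc.z_not h4
  have h3 := smul_mem_smul_as (g := m) (hm x (by rw [inv_one, one_smul]; exact hx))
  rwa [h.beta.inv m h2, smul_inv_smul] at h3

end Hyp0

/-- ... and `N_T(X)` is Sylow in `N_Y(X)` -/
structure Hyp (T : Sylow 2 Y) (M L : Subgroup Y) (A Q L₁ : Subgroup L) (R : Sylow 2 L) (E F : AddSubgroup V)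
    (z : V) : Prop extends Hyp0 T M L A Q L₁ R E F z where
  max : ∀ P : Subgroup Y, IsPGroup 2 P → P ≤ NX L V Q → (T : Subgroup Y) ⊓ NX L V Q ≤ P → P ≤ T

theorem Hyp0.exists_hyp [Finite Y] [Finite V] {T : Sylow 2 Y} {M L : Subgroup Y} {A Q L₁ : Subgroup L}
    {R : Sylow 2 L} {E F : AddSubgroup V} {z : V} (h : Hyp0 T M L A Q L₁ R E F z) :
    ∃ (T' : Sylow 2 Y) (z' : V), Hyp T' M L A Q L₁ R E F z' := by
  have : Fact (Nat.Prime 2) := ⟨Nat.prime_two⟩
  set N := NX L V Q with hN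
  set RY : Subgroup Y := (R : Subgroup L).map L.subtype with hRY
  have hRN : RY ≤ N := by
    rintro _ ⟨r, hr, rfl⟩
    exact h.L_le_NX r.2
  have hR2 : IsPGroup 2 RY := R.2.map _
  have hRN2 : IsPGroup 2 (RY.subgroupOf N) := hR2.comap_of_injective N.subtype Subtype.coe_injective
  obtain ⟨P, hP⟩ := hRN2.exists_le_sylow
  have hP2 : IsPGroup 2 ((P : Subgroup N).map N.subtype) := P.2.map _
  obtain ⟨T', hT'⟩ := hP2.exists_le_sylow
  have hRT' : RY ≤ T' := by
    intro r hr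
    exact hT' ⟨⟨r, hRN hr⟩, hP (mem_subgroupOf.2 hr), rfl⟩
  -- `T'` is a conjugate of `T`
  obtain ⟨y, hy⟩ := MulAction.exists_smul_eq Y T T'
  set z' := y • z with hz'
  have hz'T : ∀ t ∈ T', t • z' = z' := by
    intro t ht
    rw [← hy, HE.mem_smul_sylow] at ht
    have h1 := h.zT _ ht
    rw [mul_smul, mul_smul, inv_smul_eq_iff] at h1
    exact h1
  have hz'0 : z' ≠ 0 := by
    rw [hz', Ne, smul_eq_zero_iff_eq]
    exact h.z_ne
  have hz'R : ∀ r ∈ R, (r : L) • z' = z' := fun r hr => hz'T _ (hRT' ⟨r, hr, rfl⟩)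
  have hz'X : z' ∈ fx V Q ⊓ F :=
    ⟨fun q hq => hz'R q (h.loc.Q_le_R hq), h.loc.mem.CB z' fun b hb => hz'R b (h.loc.AR hb)⟩
  obtain ⟨l, hl⟩ := h.trans hz'X.1 hz'0
  have hlL : l ∈ L₁ := by
    by_contra h1
    have h2 := h.loc.mem_C_of_F h1 (smul_mem_smul_as h.loc.z_mem) (by rw [hl]; exact hz'X.2)
    rw [hl, h.C0, AddSubgroup.mem_bot] at h2
    exact hz'0 h2
  -- `y ∈ M`
  have hyM : y ∈ M := by
    have h1 : (l : Y)⁻¹ * y ∈ M := by
      apply h.stab_z
      rw [MulAction.mem_stabilizer_iff, mul_smul, inv_smul_eq_iff]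
      exact hl.symm
    have := mul_mem (h.L₁M l hlL) h1
    rwa [mul_inv_cancel_left] at this
  have hT'M : (T' : Subgroup Y) ≤ M := by
    intro t ht
    have ht' : t ∈ T' := ht
    rw [← hy, HE.mem_smul_sylow] at ht'
    have := mul_mem (mul_mem hyM (h.TM ht')) (inv_mem hyM)
    have e : y * (y⁻¹ * t * y) * y⁻¹ = t := by group
    rwa [e] at this
  refine ⟨T', z', ?_⟩
  exact
    { loc := { h.loc with
        zR := hz'R
        zL := by
          by_contra hc
          push Not at hc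
          apply hz'0
          have : z' ∈ fx V (⊤ : Subgroup L) := fun l _ => hc l
          rwa [h.C0, AddSubgroup.mem_bot] at this }
      beta := h.beta
      C0 := h.C0
      faith := h.faith
      irr := h.irr
      off := h.off
      TM := hT'M
      M_ne := h.M_ne
      uniqM := by
        intro H hH hH1
        -- conjugate
        have h1 : (T : Subgroup Y) ≤ MulAut.conj y⁻¹ • H := by
          intro t ht
          rw [mem_conj, inv_inv]
          apply hH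
          change y * t * y⁻¹ ∈ T'
          rw [← hy, HE.mem_smul_sylow]
          have e : y⁻¹ * (y * t * y⁻¹) * y = t := by group
          rwa [e]
        have h2 := h.uniqM _ h1 fun h3 => hH1 (conj_eq_top h3)
        intro x hx
        have h3 : y⁻¹ * x * y ∈ MulAut.conj y⁻¹ • H := by
          rw [mem_conj]
          have e : y⁻¹⁻¹ * (y⁻¹ * x * y) * y⁻¹ = x := by group
          rwa [e]
        have := mul_mem (mul_mem hyM (h2 h3)) (inv_mem hyM)
        have e : y * (y⁻¹ * x * y) * y⁻¹ = x := by group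
        rwa [e] at this
      L₁M := h.L₁M
      LM := h.LM
      RT := fun r hr => hRT' ⟨r, hr, rfl⟩
      zT := hz'T
      max := by
        intro P' hP'2 hP'N hP'
        have h1 : IsPGroup 2 (P'.subgroupOf N) := hP'2.comap_of_injective N.subtype Subtype.coe_injective
        have h2 : (P : Subgroup N) ≤ P'.subgroupOf N := by
          intro p hp
          rw [mem_subgroupOf]
          exact hP' ⟨hT' ⟨p, hp, rfl⟩, p.2⟩
        have h3 := P.is_maximal' h1 h2
        intro p hp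
        apply hT'
        have h4 : (⟨p, hP'N hp⟩ : N) ∈ (P : Subgroup N) := by
          rw [← h3]
          exact mem_subgroupOf.2 hp
        exact ⟨⟨p, hP'N hp⟩, h4, rfl⟩ }

end Cfsg.Agent.Omega.NO1.B0

end
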