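import Cfsg.Agent.Mrg.Omega.NO1.B0.Nin
import Cfsg.Agent.Mrg.Omega.NO1.AB.Beta


/-!
# THEOREM B0 (bb OMEGA 18835, helper970), (9), `a = 4`: `A ≤ O₂(C_Y(z))` ⟹ `C_Y(z)` normalises `A`
-/

set_option autoImplicit false
set_option linter.unusedSectionVars false

namespace Cfsg.Agent.Omega.NO1.B0

open Subgroup Cfsg.Agent.ClassTwo.Sp4Defs Cfsg.Agent.ClassTwo.Sp4SL2 Matrix

universe u v

variable {Y : Type u} [Group Y] {V : Type u} [AddCommGroup V] [DistribMulAction Y V] {k : Type v} [Field k]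

/-- `A`, `T`, `O` over `Nin` -/
structure NinT (S : Subgroup Y) (ψ : SpecialLinearGroup (Fin 2) k →* Y) (p : k → k → V) (t : Y)
    (A T O : Subgroup Y) (E F : AddSubgroup V) : Prop where
  m : AB.Mem A E F
  memA : ∀ x, x ∈ A ↔ ∃ s ∈ S, ∃ α, x = s * ψ (u α)
  E_le : ∀ v ∈ E, ∃ a b c, v = t • p a b + ψ (w k) • t • p c 0
  memF : ∀ v, v ∈ F ↔ ∃ a, v = t • p a 0
  T2 : ∀ x ∈ T, ∃ n : ℕ, x ^ 2 ^ n = 1
  TA : ∀ x ∈ T, ∀ a ∈ A, x * a * x⁻¹ ∈ A
  CTA : ∀ x ∈ T, (∀ a ∈ A, x * a = a * x) → x ∈ A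
  CTX : ∀ x ∈ T, (∀ a b, x • p a b = p a b) → x ∈ S
  Tz : ∀ x ∈ T, x • p 1 0 = p 1 0
  TX : ∀ x ∈ T, Pr p x ∨ Pr p (t⁻¹ * x)
  cj : ∀ x ∈ T, Pr p x → Pr p (t⁻¹ * x * t)
  tT : t ∈ T
  Oc : ∀ g : Y, g • p 1 0 = p 1 0 → ∀ x ∈ O, g * x * g⁻¹ ∈ O
  OT : O ≤ T
  AO : A ≤ O

namespace Nin

variable [CharP k 2] {S : Subgroup Y} {ψ : SpecialLinearGroup (Fin 2) k →* Y} {p : k → k → V} {t : Y}
  (h : Nin S ψ p t)
include h

/-- the two coordinates on `F` -/
theorem exists_τ : ∃ τ : k → k, (∀ x, p x 0 = t • p (τ x) 0) ∧ (∀ x, p 0 x = ψ (w k) • t • p (τ x) 0) ∧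
    τ 1 = 1 ∧ (∀ x y, τ (x * y) = τ x * τ y) ∧ Function.Bijective τ := by
  have := h.fk
  have h1 : ∀ x, ∃ a, p x 0 = t • p a 0 := by
    intro x
    obtain ⟨a, b, h1⟩ := h.mem_X' (x := p x 0) (fun α => by rw [h.act_u, mul_zero, add_zero])
    refine ⟨a, ?_⟩
    have h2 := h.fix _ (h.t_u 1) x 0
    rw [h1, h.s_X', smul_left_cancel_iff] at h2
    have h3 := (h.p_inj h2).1
    rw [one_mul, add_eq_left] at h3
    rw [h1, h3]
  choose τ hτ using h1
  have h01 : ∀ x, p 0 x = ψ (w k) • t • p (τ x) 0 := by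
    intro x
    rw [← hτ, h.act_w]
  have hone : τ 1 = 1 := by
    have h2 := hτ 1
    nth_rw 1 [← h.tz] at h2
    rw [smul_left_cancel_iff] at h2
    exact (h.p_inj h2).1.symm
  have hinj : Function.Injective τ := by
    intro x y hxy
    have h2 := hτ x
    rw [hxy, ← hτ y] at h2
    exact (h.p_inj h2).1
  obtain ⟨χ, hχ, -, -⟩ := h.exists_χ
  have hz : τ 0 = 0 := by
    have h2 := hτ 0
    rw [h.p0, eq_comm, smul_eq_zero_iff_eq] at h2
    exact (h.inj _ _ h2).1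
  have hl : ∀ (l : kˣ) y, τ (l * y) = χ l * τ y := by
    intro l y
    have h2 : ψ (d l) • p y 0 = p (l * y) 0 := by rw [h.act_d, mul_zero]
    rw [hτ y, hχ, mul_zero, hτ (l * y), smul_left_cancel_iff] at h2
    exact (h.p_inj h2).1.symm
  refine ⟨τ, hτ, h01, hone, ?_, hinj, Finite.surjective_of_injective hinj⟩
  intro x y
  by_cases hx : x = 0
  · rw [hx, zero_mul, hz, zero_mul]
  · have h2 := hl (Units.mk0 x hx) y
    have h3 := hl (Units.mk0 x hx) 1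
    rw [mul_one, hone, mul_one] at h3
    change τ x = _ at h3
    change τ (x * y) = _ at h2
    rw [h2, h3]

variable {A T O : Subgroup Y} {E F : AddSubgroup V} (o : NinT S ψ p t A T O E F)
include o

theorem S_le {s : Y} (hs : s ∈ S) : s ∈ A := by
  rw [o.memA]
  exact ⟨s, hs, 0, by rw [u_zero, map_one, mul_one]⟩

theorem u_mem (α : k) : ψ (u α) ∈ A := by
  rw [o.memA]
  exact ⟨1, one_mem _, α, by rw [one_mul]⟩

theorem A_le_T {a : Y} (ha : a ∈ A) : a ∈ T := o.OT (o.AO ha)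

/-- an element of `T ∩ N(X)` which centralises `S` is in `A` -/
theorem CS {x : Y} (hx : x ∈ T) (hP : Pr p x) (hc : ∀ s ∈ S, x * s = s * x) : x ∈ A := by
  obtain ⟨τ, hτ, hτ', hτ1, hτm, hτb⟩ := h.exists_τ
  obtain ⟨σ, β, δ, hβ, hσ⟩ := h.semi x hP (o.Tz x hx)
  have hτ0 : τ β ≠ 0 := by
    intro h1
    have h2 := hτm β β⁻¹
    rw [mul_inv_cancel₀ hβ, hτ1, h1, zero_mul] at h2
    exact one_ne_zero h2
  obtain ⟨a, b, c', e, hv⟩ := h.P_surj (x • ψ (w k) • t • p 0 1)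
  have key : ∀ y, τ y * e = τ β * τ (σ y) := by
    intro y
    -- `s v + v = p 0 y`
    have h1 : (t * ψ (u (τ y)) * t⁻¹) • ψ (w k) • t • p 0 1 + ψ (w k) • t • p 0 1 = p 0 y := by
      rw [h.s_rX', hτ' y, ← h.add_rt, zero_add, mul_one, add_zero, CharTwo.add_self_eq_zero]
    have h2 : x • ((t * ψ (u (τ y)) * t⁻¹) • ψ (w k) • t • p 0 1 + ψ (w k) • t • p 0 1) = p (δ * σ y) (β * σ y) := by
      rw [h1, hσ, map_zero, zero_add]
    rw [smul_add, ← mul_smul, hc _ (h.t_u _), mul_smul, hv, smul_add, h.s_X', h.s_rX'] at h2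
    have h3 : p (δ * σ y) (β * σ y) = t • p (τ (δ * σ y)) 0 + ψ (w k) • t • p (τ (β * σ y)) 0 := by
      rw [← hτ, ← hτ', ← h.add, add_zero, zero_add]
    have h4 : t • p (τ y * b) 0 + ψ (w k) • t • p (τ y * e) 0 =
        t • p (τ (δ * σ y)) 0 + ψ (w k) • t • p (τ (β * σ y)) 0 := by
      rw [← h3, ← h2]
      have e1 : p (a + τ y * b) b = p (τ y * b) 0 + p a b := by rw [← h.add, zero_add, add_comm]
      have e2 : p (c' + τ y * e) e = p (τ y * e) 0 + p c' e := by rw [← h.add, zero_add, add_comm]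
      rw [e1, e2, smul_add, smul_add, smul_add]
      have e3 : t • p (τ y * b) 0 + t • p a b + (ψ (w k) • t • p (τ y * e) 0 + ψ (w k) • t • p c' e) +
          (t • p a b + ψ (w k) • t • p c' e) = t • p (τ y * b) 0 + ψ (w k) • t • p (τ y * e) 0 +
          ((t • p a b + ψ (w k) • t • p c' e) + (t • p a b + ψ (w k) • t • p c' e)) := by abel
      rw [e3, h.two, add_zero]
    have h5 := (h.P_inj h4).2.2.1
    rw [h5, hτm]
  have hσ1 : ∀ y, σ y = y := by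
    intro y
    have h1 := key 1
    rw [hτ1, one_mul, map_one, hτ1, mul_one] at h1
    have h2 := key y
    rw [h1, mul_comm] at h2
    exact (hτb.1 (mul_left_cancel₀ hτ0 h2)).symm
  have hβ1 : β = 1 := by
    obtain ⟨n, hn⟩ := o.T2 x hx
    have h1 : ∀ m : ℕ, ∃ c, x ^ m • p 0 1 = p c (β ^ m) := by
      intro m
      induction m with
      | zero => exact ⟨0, by rw [pow_zero, one_smul, pow_zero]⟩
      | succ m ih =>
        obtain ⟨c, hc⟩ := ih
        refine ⟨c + δ * β ^ m, ?_⟩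
        rw [pow_succ', mul_smul, hc, hσ, hσ1, hσ1, pow_succ']
    obtain ⟨c, hc'⟩ := h1 (2 ^ n)
    rw [hn, one_smul] at hc'
    have h2 := (h.p_inj hc').2
    have h3 := (ExpChar.pow_prime_pow_mul_eq_one_iff 2 n 1 β).1 (by rw [mul_one]; exact h2.symm)
    rwa [pow_one] at h3
  have h1 : (ψ (u δ))⁻¹ * x ∈ S := by
    apply o.CTX _ (mul_mem (inv_mem (h.A_le_T o (h.u_mem o δ))) hx)
    intro a b
    rw [mul_smul, hσ, hσ1, hσ1, hβ1, one_mul, inv_smul_eq_iff, h.act_u]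
  have h2 := mul_mem (h.u_mem o δ) (h.S_le o h1)
  rwa [mul_inv_cancel_left] at h2

theorem CS' {x : Y} (hx : x ∈ T) (hP : Pr p x) (hc : ∀ α, x * ψ (u α) = ψ (u α) * x) : x ∈ A := by
  have h1 : t⁻¹ * x * t ∈ A := by
    apply h.CS o (mul_mem (mul_mem (inv_mem o.tT) hx) o.tT) (o.cj x hx hP)
    intro s hs
    obtain ⟨α, rfl⟩ := h.t_inv_u_surj hs
    calc t⁻¹ * x * t * (t⁻¹ * ψ (u α) * t) = t⁻¹ * (x * ψ (u α)) * t := by group
      _ = t⁻¹ * (ψ (u α) * x) * t := by rw [hc]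
      _ = _ := by group
  have h2 := o.TA t o.tT _ h1
  have e : t * (t⁻¹ * x * t) * t⁻¹ = x := by group
  rwa [e] at h2

/-- claim 1 -/
theorem claim1 [Finite Y] {g : Y} (hgT : ∀ a ∈ A, g * a * g⁻¹ ∈ T) {s : Y} (hs : s ∈ S) (hs1 : s ≠ 1)
    (hsA : g⁻¹ * s * g ∈ A) {α : k} (hα : α ≠ 0) (hαA : g⁻¹ * ψ (u α) * g ∈ A) :
    ∀ a ∈ A, g * a * g⁻¹ ∈ A := by
  have := h.fV
  obtain ⟨τ, hτ, hτ', hτ1, hτm, hτb⟩ := h.exists_τ
  have hm := o.m
  have hfix : ∀ {y : Y} {v : V}, y • v = v → (g⁻¹ * y * g) • (g⁻¹ • v) = g⁻¹ • v := by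
    intro y v hv
    rw [mul_smul, mul_smul, smul_inv_smul, hv]
  have hgE' : ∀ v ∈ E, g⁻¹ • v ∈ E := by
    intro v hv
    obtain ⟨a, b, c, rfl⟩ := o.E_le v hv
    rw [smul_add]
    refine E.add_mem ?_ ?_
    · refine hm.mem_of_fix h.two hαA ?_ (hfix (h.u_X' α a b))
      intro h1
      have h2 : ψ (u α) = 1 := by
        have : ψ (u α) = g * (g⁻¹ * ψ (u α) * g) * g⁻¹ := by group
        rw [this, h1]; group
      exact hα (u_eq_one.1 (h.ψ_inj h2))
    · refine hm.mem_of_fix h.two hsA ?_ (hfix ?_)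
      · intro h1
        apply hs1
        have : s = g * (g⁻¹ * s * g) * g⁻¹ := by group
        rw [this, h1]; group
      · obtain ⟨β, rfl⟩ := h.t_u_surj hs
        rw [h.s_rX', mul_zero, add_zero]
  have hgE : ∀ v ∈ E, g • v ∈ E := by
    intro v hv
    let f : E → E := fun e => ⟨g⁻¹ • (e : V), hgE' e e.2⟩
    have hf : Function.Injective f := by
      intro e e' hee
      have h1 := congrArg Subtype.val hee
      exact Subtype.ext (smul_left_cancel g⁻¹ h1)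
    obtain ⟨e, he⟩ := Finite.surjective_of_injective hf ⟨v, hv⟩
    have h1 : g⁻¹ • (e : V) = v := congrArg Subtype.val he
    rw [← h1, smul_inv_smul]
    exact e.2
  have hgF : ∀ v ∈ F, g • v ∈ F := by
    intro v hv
    have h1 : s • g • v = g • v := by
      have h2 := hm.FB _ hsA v hv
      rw [mul_smul, mul_smul, inv_smul_eq_iff] at h2
      exact h2
    have h3 : ψ (u α) • g • v = g • v := by
      have h2 := hm.FB _ hαA v hv
      rw [mul_smul, mul_smul, inv_smul_eq_iff] at h2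
      exact h2
    obtain ⟨a, b, h4⟩ := h.Sfix s hs hs1 _ h1
    rw [h4, h.act_u] at h3
    have h5 := (h.p_inj h3).1
    rw [add_eq_left, mul_eq_zero] at h5
    rw [h4, h5.resolve_left hα, hτ, o.memF]
    exact ⟨_, rfl⟩
  intro a ha
  apply o.CTA _ (hgT a ha)
  set f := g * a * g⁻¹ with hf
  have hfV : ∀ v, f • v + v ∈ E := by
    intro v
    have h1 := hgE _ (hm.VB a ha (g⁻¹ • v))
    rw [smul_add, smul_inv_smul] at h1
    rwa [hf, mul_smul, mul_smul]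
  have hfE : ∀ v ∈ E, f • v + v ∈ F := by
    intro v hv
    have h1 := hgF _ (hm.EB a ha (g⁻¹ • v) (hgE' v hv))
    rw [smul_add, smul_inv_smul] at h1
    rwa [hf, mul_smul, mul_smul]
  intro b hb
  have hcA : f * b * f⁻¹ * b⁻¹ ∈ A := mul_mem (o.TA f (hgT a ha) b hb) (inv_mem hb)
  obtain ⟨v, hv⟩ := hm.ne
  have hw : ∀ w : V, f • b • w + b • f • w ∈ F := by
    intro w
    have e1 : f • b • w + b • f • w = (f • (b • w + w) + (b • w + w)) + (b • (f • w + w) + (f • w + w)) := by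
      rw [smul_add, smul_add]
      have e2 : f • b • w + f • w + (b • w + w) + (b • f • w + b • w + (f • w + w)) =
          (f • b • w + b • f • w) + ((f • w + f • w) + (b • w + b • w) + (w + w)) := by abel
      rw [e2, h.two (f • w), h.two (b • w), h.two w, add_zero, add_zero, add_zero]
    rw [e1]
    exact F.add_mem (hfE _ (hm.VB b hb w)) (hm.EB b hb _ (hfV w))
  have h1 : f * b * f⁻¹ * b⁻¹ = 1 := by
    apply hm.inj v hv _ hcA
    have h2 := hw (f⁻¹ • b⁻¹ • v)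
    rw [smul_inv_smul, smul_inv_smul] at h2
    rw [mul_smul, mul_smul, mul_smul]
    exact h2
  rw [mul_inv_eq_one, mul_inv_eq_iff_eq_mul] at h1
  exact h1

/-- **`C_Y(z)` normalises `A`** -/
theorem norm_A [Finite Y] {g : Y} (hg : g • p 1 0 = p 1 0) : ∀ a ∈ A, g * a * g⁻¹ ∈ A := by
  classical
  have := h.fk
  have := h.fS
  by_contra hcon
  -- `B = A^g ≤ O ≤ T`
  have hBO : ∀ a ∈ A, g * a * g⁻¹ ∈ O := fun a ha => o.Oc g hg a (o.AO ha)
  have hBT : ∀ a ∈ A, g * a * g⁻¹ ∈ T := fun a ha => o.OT (hBO a ha)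
  have hg' : g⁻¹ • p 1 0 = p 1 0 := by rw [inv_smul_eq_iff, hg]
  set B : Subgroup Y := A.map (MulAut.conj g).toMonoidHom with hB
  have memB : ∀ y, y ∈ B ↔ g⁻¹ * y * g ∈ A := by
    intro y
    constructor
    · rintro ⟨a, ha, rfl⟩
      change g⁻¹ * (g * a * g⁻¹) * g ∈ A
      have e : g⁻¹ * (g * a * g⁻¹) * g = a := by group
      rwa [e]
    · intro hy
      exact ⟨_, hy, by change g * (g⁻¹ * y * g) * g⁻¹ = y; group⟩
  have B_T : ∀ y ∈ B, y ∈ T := by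
    rintro _ ⟨a, ha, rfl⟩
    exact hBT a ha
  -- `A` normalises `B`
  have hAB : ∀ a ∈ A, ∀ y ∈ B, a * y * a⁻¹ ∈ B := by
    intro a ha y hy
    rw [memB] at hy ⊢
    have h1 : g⁻¹ * a * g ∈ T := by
      have h2 := o.Oc g⁻¹ hg' a (o.AO ha)
      rw [inv_inv] at h2
      exact o.OT h2
    have h3 := o.TA _ h1 _ hy
    have e : g⁻¹ * a * g * (g⁻¹ * y * g) * (g⁻¹ * a * g)⁻¹ = g⁻¹ * (a * y * a⁻¹) * g := by group
    rwa [e] at h3
  -- claim 2
  have c2 : ∀ f ∈ B, Pr p f → f ∈ A := by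
    intro f hf hfP
    by_contra hfA
    have hfT := B_T f hf
    obtain ⟨s, hs, hs1⟩ : ∃ s ∈ S, f * s ≠ s * f := by
      by_contra h1
      push Not at h1
      exact hfA (h.CS o hfT hfP h1)
    obtain ⟨α, hα⟩ : ∃ α, f * ψ (u α) ≠ ψ (u α) * f := by
      by_contra h1
      push Not at h1
      exact hfA (h.CS' o hfT hfP h1)
    have h1 : s * (f * s⁻¹ * f⁻¹) ∈ S := mul_mem hs (h.nS hfP (inv_mem hs))
    have h2 : s * (f * s⁻¹ * f⁻¹) ∈ B := by
      have h3 := mul_mem (hAB s (h.S_le o hs) f hf) (inv_mem hf)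
      have e : s * f * s⁻¹ * f⁻¹ = s * (f * s⁻¹ * f⁻¹) := by group
      rwa [e] at h3
    have h3 : s * (f * s⁻¹ * f⁻¹) ≠ 1 := by
      intro h4
      apply hs1
      have e : s * (f * s⁻¹ * f⁻¹) = (s * f) * (f * s)⁻¹ := by group
      rw [e, mul_inv_eq_one] at h4
      exact h4.symm
    -- the same in `S'`
    have h4 : ∃ α', f * (ψ (u α))⁻¹ * f⁻¹ = ψ (u α') := by
      have h5 : t⁻¹ * (ψ (u α))⁻¹ * t ∈ S := by
        have := inv_mem (h.t_inv_u α)
        have e : (t⁻¹ * ψ (u α) * t)⁻¹ = t⁻¹ * (ψ (u α))⁻¹ * t := by group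
        rwa [e] at this
      have h6 := h.nS (o.cj f hfT hfP) h5
      obtain ⟨α', h7⟩ := h.conj _ h6
      refine ⟨α', ?_⟩
      rw [← h7]; group
    obtain ⟨α', h4⟩ := h4
    have h5 : ψ (u (α + α')) ∈ B := by
      rw [← u_mul, map_mul, ← h4]
      have h6 := mul_mem (hAB _ (h.u_mem o α) f hf) (inv_mem hf)
      have e : ψ (u α) * f * (ψ (u α))⁻¹ * f⁻¹ = ψ (u α) * (f * (ψ (u α))⁻¹ * f⁻¹) := by group
      rwa [e] at h6
    have h6 : α + α' ≠ 0 := by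
      intro h7
      apply hα
      have h8 : α' = α := (CharTwo.add_eq_zero.1 h7).symm
      rw [h8, ← map_inv, u_inv'] at h4
      rw [mul_inv_eq_iff_eq_mul] at h4
      exact h4
    exact hcon (h.claim1 o hBT h1 h3 ((memB _).1 h2) h6 ((memB _).1 h5))
  -- `|B| ≤ 2 |A ∩ B|`
  have c3 : ∀ y ∈ B, ∀ y' ∈ B, y ∉ A → y' ∉ A → y⁻¹ * y' ∈ A := by
    intro y hy y' hy' h1 h2
    apply c2 _ (mul_mem (inv_mem hy) hy')
    have h3 : Pr p (t⁻¹ * y) := (o.TX y (B_T y hy)).resolve_left fun h4 => h1 (c2 y hy h4)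
    have h4 : Pr p (t⁻¹ * y') := (o.TX y' (B_T y' hy')).resolve_left fun h5 => h2 (c2 y' hy' h5)
    have h5 := h.Pr_mul (h.Pr_inv h3) h4
    have e : (t⁻¹ * y)⁻¹ * (t⁻¹ * y') = y⁻¹ * y' := by group
    rwa [e] at h5
  have cardB : Nat.card B = Nat.card A := by
    rw [hB]
    exact (Nat.card_congr (A.equivMapOfInjective _ (MulAut.conj g).injective).toEquiv).symm
  have cardle : Nat.card A ≤ 2 * Nat.card ↥(A ⊓ B) := by
    rw [← cardB]
    by_cases hBA : B ≤ A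
    · rw [inf_eq_right.2 hBA]; omega
    obtain ⟨y₀, hy₀, hy₀A⟩ := Set.not_subset.1 hBA
    have h1 : Nat.card B ≤ Nat.card (Bool × ↥(A ⊓ B)) := by
      refine Nat.card_le_card_of_injective (fun y : B => if hy : (y : Y) ∈ A then
        ((false, ⟨(y : Y), Subgroup.mem_inf.2 ⟨hy, y.2⟩⟩) : Bool × ↥(A ⊓ B)) else
        (true, ⟨y₀⁻¹ * (y : Y), Subgroup.mem_inf.2 ⟨c3 y₀ hy₀ y y.2 hy₀A hy, B.mul_mem (B.inv_mem hy₀) y.2⟩⟩)) ?_
      intro y y' hyy
      by_cases hy : (y : Y) ∈ A <;> by_cases hy' : (y' : Y) ∈ A <;> simp only [hy, hy', dif_pos, dif_neg,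
        not_false_eq_true, Prod.mk.injEq, true_and, reduceCtorEq, false_and] at hyy
      · exact Subtype.ext (congrArg (fun x : ↥(A ⊓ B) => (x : Y)) hyy)
      · exact Subtype.ext (mul_left_cancel (congrArg (fun x : ↥(A ⊓ B) => (x : Y)) hyy))
    rw [Nat.card_prod, Nat.card_eq_fintype_card (α := Bool), Fintype.card_bool] at h1
    exact h1
  -- `|A| = q²`
  have hq := h.q4
  have cardA : Nat.card A = Nat.card k * Nat.card k := by
    let f : S × k → A := fun x => ⟨x.1 * ψ (u x.2), (o.memA _).2 ⟨x.1, x.1.2, x.2, rfl⟩⟩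
    have hf : Function.Bijective f := by
      constructor
      · rintro ⟨s, α⟩ ⟨s', α'⟩ hss
        have h1 : (s : Y) * ψ (u α) = s' * ψ (u α') := congrArg Subtype.val hss
        have h2 : (s' : Y)⁻¹ * s = ψ (u α') * (ψ (u α))⁻¹ := by
          rw [eq_mul_inv_iff_mul_eq, mul_assoc, h1, inv_mul_cancel_left]
        have h3 : ψ (u α' * (u α)⁻¹) ∈ S := by
          rw [map_mul, map_inv, ← h2]
          exact mul_mem (inv_mem s'.2) s.2
        have h4 := h.S_ψ h3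
        have h5 := h.ψ_inj h4
        rw [mul_inv_eq_one] at h5
        have h6 := u_injective h5
        rw [h6] at h1
        have h7 : s = s' := Subtype.ext (mul_right_cancel h1)
        rw [h7, h6]
      · rintro ⟨a, ha⟩
        obtain ⟨s, hs, α, rfl⟩ := (o.memA a).1 ha
        exact ⟨(⟨s, hs⟩, α), rfl⟩
    rw [← Nat.card_congr (Equiv.ofBijective f hf), Nat.card_prod, h.cS]
  -- `S ∩ B ≠ 1`, `S' ∩ B ≠ 1`
  have hS1 : ∃ s ∈ S, s ≠ 1 ∧ s ∈ B := by
    by_contra hn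
    push Not at hn
    have h1 : Nat.card (S × ↥(A ⊓ B)) ≤ Nat.card A := by
      refine Nat.card_le_card_of_injective (fun x => (⟨x.1 * x.2, mul_mem (h.S_le o x.1.2) x.2.2.1⟩ : A)) ?_
      rintro ⟨s, b⟩ ⟨s', b'⟩ hss
      have h1 : (s : Y) * b = s' * b' := congrArg Subtype.val hss
      have h2 : (s' : Y)⁻¹ * s = b' * (b : Y)⁻¹ := by
        rw [eq_mul_inv_iff_mul_eq, mul_assoc, h1, inv_mul_cancel_left]
      have h3 : (s' : Y)⁻¹ * s = 1 := by
        by_contra h4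
        exact hn _ (mul_mem (inv_mem s'.2) s.2) h4 (by rw [h2]; exact mul_mem b'.2.2 (inv_mem b.2.2))
      rw [inv_mul_eq_one] at h3
      have h5 : s = s' := Subtype.ext h3.symm
      rw [h5] at h1
      have h6 : b = b' := Subtype.ext (mul_left_cancel h1)
      rw [h5, h6]
    rw [Nat.card_prod, h.cS, cardA] at h1
    rw [cardA] at cardle
    nlinarith
  have hS2 : ∃ α, α ≠ 0 ∧ ψ (u α) ∈ B := by
    by_contra hn
    push Not at hn
    have h1 : Nat.card (k × ↥(A ⊓ B)) ≤ Nat.card A := by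
      refine Nat.card_le_card_of_injective (fun x => (⟨ψ (u x.1) * x.2, mul_mem (h.u_mem o x.1) x.2.2.1⟩ : A)) ?_
      rintro ⟨α, b⟩ ⟨α', b'⟩ hss
      have h1 : ψ (u α) * (b : Y) = ψ (u α') * b' := congrArg Subtype.val hss
      have h2 : ψ (u (α' + α)) = b' * (b : Y)⁻¹ := by
        rw [← u_mul, map_mul, eq_mul_inv_iff_mul_eq, mul_assoc, h1, ← mul_assoc, ← map_mul, u_mul_self, map_one, one_mul]
      have h3 : α' + α = 0 := by
        by_contra h4
        exact hn _ h4 (by rw [h2]; exact mul_mem b'.2.2 (inv_mem b.2.2))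
      have h5 : α' = α := CharTwo.add_eq_zero.1 h3
      rw [h5] at h1
      have h6 : b = b' := Subtype.ext (mul_left_cancel h1)
      rw [h5, h6]
    rw [Nat.card_prod, cardA] at h1
    rw [cardA] at cardle
    nlinarith
  obtain ⟨s, hs, hs1, hsB⟩ := hS1
  obtain ⟨α, hα, hαB⟩ := hS2
  exact hcon (h.claim1 o hBT hs hs1 ((memB _).1 hsB) hα ((memB _).1 hαB))

/-- `C_Y(z)` normalises `F` -/
theorem norm_F [Finite Y] {g : Y} (hg : g • p 1 0 = p 1 0) (a : k) : ∃ a', g • t • p a 0 = t • p a' 0 := by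
  have hg' : g⁻¹ • p 1 0 = p 1 0 := by rw [inv_smul_eq_iff, hg]
  have h1 : t • p a 0 ∈ F := (o.memF _).2 ⟨a, rfl⟩
  apply (o.memF _).1
  apply o.m.CB
  intro b hb
  have h2 := h.norm_A o hg' b hb
  rw [inv_inv] at h2
  have h3 := o.m.FB _ h2 _ h1
  rw [mul_smul, mul_smul, inv_smul_eq_iff] at h3
  exact h3

/-- **`[K₁, K₂] = 1`** -/
theorem comm_K' [Finite Y] (g g' : SpecialLinearGroup (Fin 2) k) :
    t * ψ g * t⁻¹ * ψ g' = ψ g' * (t * ψ g * t⁻¹) := by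
  obtain ⟨δ, hδ⟩ := h.exists_δ
  have h0 := h.δ_zero_of_F hδ fun g hg a => h.norm_F o hg a
  apply h.comm_of_δ
  intro a b
  rw [hδ, h0, zero_mul, zero_mul, h.p0, smul_zero, zero_add]

end Nin

end Cfsg.Agent.Omega.NO1.B0
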