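import Cfsg.Agent.Mrg.Omega.NO1.B0.Semi
import Cfsg.Agent.Solvable.Gaschutz
import Cfsg.Agent.Mrg.Omega.NO1.AB.Loc

section


/-!
# THEOREM B0 (bb OMEGA 18835, helper970): (7)
-/

set_option autoImplicit false
set_option linter.unusedSectionVars false
set_option linter.style.haveILetI false

namespace Cfsg.Agent.Omega.NO1.B0

open Subgroup Cfsg.Agent.Omega.NO1.AB
open scoped Pointwise

universe u

variable {Y : Type u} [Group Y] {V : Type u} [AddCommGroup V] [DistribMulAction Y V]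

namespace Hyp

variable {T : Sylow 2 Y} {M L : Subgroup Y} {A Q L₁ : Subgroup L} {R : Sylow 2 L} {E F : AddSubgroup V}
  {z : V} (h : Hyp T M L A Q L₁ R E F z)
include h

section t

variable {t : Y} (k : Tk T L V Q t)
include k

theorem X1 [Finite Y] [Finite V] : (fx V Q : AddSubgroup V) ⊓ F = F := inf_eq_right.2 (h.six k)

theorem cF' [Finite Y] [Finite V] : Nat.card F = E.index := by
  rw [← h.ca k, h.X1 k]

theorem tF' [Finite Y] [Finite V] : t • F = F := by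
  have := h.tX1 k
  rwa [h.X1 k] at this

theorem cE' [Finite Y] [Finite V] : Nat.card E = E.index ^ 3 := by
  rw [h.cE k, h.cF' k, h.ca k]; ring

theorem cV' [Finite Y] [Finite V] : Nat.card V = E.index ^ 4 := by
  rw [h.cV k, h.cF' k, h.ca k]; ring

theorem supE' [Finite Y] [Finite V] : E = (fx V Q : AddSubgroup V) ⊔ t • (fx V Q : AddSubgroup V) := by
  symm
  apply eq_of_le_as
  · exact sup_le h.beta.XE fun x hx => h.X'_le_E k hx
  · rw [h.cU k, h.cE' k, h.ca k]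

theorem tE' [Finite Y] [Finite V] : t • E = E := by
  apply eq_of_le_as
  · intro x hx
    rw [mem_smul_as, h.supE' k, AddSubgroup.mem_sup] at hx
    obtain ⟨y, hy, w, hw, he⟩ := hx
    have hx' : x = t • y + t • w := by rw [← smul_add, he, smul_inv_smul]
    rw [hx', h.supE' k]
    refine AddSubgroup.add_mem _ (AddSubgroup.mem_sup_right (smul_mem_smul_as hy)) (AddSubgroup.mem_sup_left ?_)
    rw [mem_smul_as] at hw
    have h1 := NX_smul k.tt hw
    rwa [mul_smul, smul_inv_smul] at h1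
  · exact (card_smul_as t E).ge

/-- `C_D(X') = 1` -/
theorem D0 [Finite Y] [Finite V] {d : Y} (hd : d ∈ Dx Y h.two (fx V Q : AddSubgroup V))
    (hdX : ∀ x ∈ t • (fx V Q : AddSubgroup V), d • x = x) : d = 1 := by
  have hdE : ∀ x ∈ E, d • x = x := by
    intro x hx
    rw [h.supE' k, AddSubgroup.mem_sup] at hx
    obtain ⟨y, hy, w, hw, rfl⟩ := hx
    rw [smul_add, hd.1 y hy, hdX w hw]
  have key : ∀ l : L, l ∉ L₁ → ∀ v : V, l⁻¹ • (d • v + v) ∈ fx V Q ⊓ F := by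
    intro l hl v
    -- `l⁻¹ v = x + e`, `x ∈ X'`, `l e ∈ E`
    obtain ⟨x, hx, he⟩ := h.sup_top k (h.inv_nmem hl) (l⁻¹ • v)
    rw [inv_inv, smul_add, smul_inv_smul] at he
    have h1 : d • v + v = d • (l • x) + l • x := by
      have h2 := hdE _ he
      rw [smul_add] at h2
      have h3 : d • v + v + (d • (l • x) + l • x) = (d • v + d • (l • x)) + (v + l • x) := by abel
      rw [h2, h.two] at h3
      exact h.eq_of_add h3
    have hc : (l : Y)⁻¹ * d * (l : Y) ∈ Dx Y h.two (fx V Q : AddSubgroup V) := by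
      have := h.D_conj (n := (l : Y)⁻¹) (inv_mem (h.AN l)) hd
      rwa [inv_inv] at this
    have h4 := (h.s3 k (h.D_le_T hc) (h.D_le_NX hc) fun x hx => hc.1 x hx.1).1 x hx
    have h5 : l⁻¹ • (d • (l • x) + l • x) = ((l : Y)⁻¹ * d * (l : Y)) • x + x := by
      rw [smul_add, inv_smul_smul, mul_smul, mul_smul]
      rfl
    rw [h1, h5]
    exact h4
  apply h.faith
  intro v
  obtain ⟨l, hl⟩ := exists_out h.loc h.beta
  obtain ⟨a, ha, hal, hal'⟩ := h.second k hl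
  have h1 := key l hl v
  have h2 := key (a * l) hal v
  have h3 : d • v + v ∈ fx V (⊤ : Subgroup L) := h.loc.fix_all hal' h1.2 h2.2
  rw [h.C0, AddSubgroup.mem_bot] at h3
  exact h.eq_of_add h3

theorem cardD [Finite Y] [Finite V] : Nat.card (Dx Y h.two (fx V Q : AddSubgroup V)) ≤ E.index := by
  obtain ⟨D₀, hD₀, hc⟩ := h.count_X' k (P := Dx Y h.two (fx V Q : AddSubgroup V))
    (fun p hp => ⟨h.D_le_T hp, h.D_le_NX hp⟩) (fun p hp x hx => hp.1 x hx.1)
  have h1 : D₀ = ⊥ := by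
    rw [eq_bot_iff]
    intro d hd
    rw [mem_bot]
    exact h.D0 k ((hD₀ d).1 hd).1 ((hD₀ d).1 hd).2
  rwa [h1, Subgroup.card_bot, mul_one, h.ca k] at hc

/-- `Q ≤ D` -/
theorem Q_le_D [Finite Y] [Finite V] {q : L} (hq : q ∈ Q) : (q : Y) ∈ Dx Y h.two (fx V Q : AddSubgroup V) := by
  refine ⟨fun x hx => hx q hq, fun v => ?_⟩
  obtain ⟨l, hl⟩ := exists_out h.loc h.beta
  have h1 : ∀ l : L, ∀ x ∈ t • (fx V Q : AddSubgroup V), q • (l • x) + l • x ∈ fx V Q := by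
    intro l x hx
    have hq' : l⁻¹ * q * l ∈ Q := by simpa using h.loc.Qn.conj_mem q hq l⁻¹
    have h2 := ((h.s3Q k hq').1 x hx).1
    have h3 := h.Xmem (l := l) h2
    rw [smul_add, ← mul_smul] at h3
    have e : l * (l⁻¹ * q * l) = q * l := by group
    rwa [e, mul_smul] at h3
  have hE : ∀ e ∈ E, q • e + e ∈ fx V Q := by
    intro e he
    rw [h.supE' k, AddSubgroup.mem_sup] at he
    obtain ⟨y, hy, w, hw, rfl⟩ := he
    have e1 : q • (y + w) + (y + w) = (q • y + y) + (q • w + w) := by rw [smul_add]; abel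
    rw [e1, hy q hq, h.two, zero_add]
    have := h1 1 w hw
    rwa [one_smul] at this
  obtain ⟨x, hx, he⟩ := h.sup_top k (h.inv_nmem hl) (l⁻¹ • v)
  rw [inv_inv, smul_add, smul_inv_smul] at he
  have h2 := hE _ he
  have h3 := h1 l x hx
  have e1 : q • v + v = (q • (v + l • x) + (v + l • x)) + (q • (l • x) + l • x) := by
    rw [smul_add]
    have : q • v + q • l • x + (v + l • x) + (q • l • x + l • x) =
      q • v + v + (q • l • x + q • l • x) + (l • x + l • x) := by abel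
    rw [this, h.two, h.two, add_zero, add_zero]
  change q • v + v ∈ fx V Q
  rw [e1]
  exact (fx V Q).add_mem h2 h3

theorem Dcard_B [Finite Y] [Finite V] : (A ⊓ Q).map L.subtype = Dx Y h.two (fx V Q : AddSubgroup V) := by
  apply eq_of_le_of_card_ge
  · rintro _ ⟨b, hb, rfl⟩
    exact h.Q_le_D k hb.2
  · have h1 : Nat.card ↥((A ⊓ Q).map L.subtype) = Nat.card ↥(A ⊓ Q) :=
      Nat.card_congr ((A ⊓ Q).equivMapOfInjective _ L.subtype_injective).symm.toEquiv
    rw [h1, h.cB k, h.ca k]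
    exact h.cardD k

theorem DD' [Finite Y] [Finite V] {y : Y} (hy : y ∈ Dx Y h.two (fx V Q : AddSubgroup V)) :
    ∃ q ∈ A ⊓ Q, (q : Y) = y := by
  rw [← h.Dcard_B k] at hy
  obtain ⟨b, hb, h1⟩ := hy
  exact ⟨b, hb, h1⟩

theorem QA' [Finite Y] [Finite V] : Q ≤ A := by
  intro q hq
  obtain ⟨b, hb, h1⟩ := h.DD' k (h.Q_le_D k hq)
  have : b = q := Subtype.ext h1
  rw [← this]
  exact hb.1

theorem AQ [Finite Y] [Finite V] : A ⊓ Q = Q := inf_eq_right.2 (h.QA' k)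

theorem cQ' [Finite Y] [Finite V] : Nat.card Q = E.index := by
  rw [← h.AQ k, h.cB k, h.ca k]

theorem Qz' [Finite Y] [Finite V] {q : L} (hq : q ∈ Q) (l : L) : q * l = l * q := by
  obtain ⟨g, hg⟩ := exists_out h.loc h.beta
  have h1 : (⊤ : Subgroup L) ≤ centralizer {q} := by
    rw [← h.loc.top_of hg]
    refine sup_le ?_ ?_
    · intro a ha
      rw [mem_centralizer_singleton_iff]
      exact h.loc.mem.comm a ha q (h.QA' k hq)
    · intro a ha
      rw [mem_conj] at ha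
      rw [mem_centralizer_singleton_iff]
      have hq' : g⁻¹ * q * g ∈ A := h.QA' k (by simpa using h.loc.Qn.conj_mem q hq g⁻¹)
      have h2 := h.loc.mem.comm _ ha _ hq'
      have h3 : g * (g⁻¹ * a * g * (g⁻¹ * q * g)) * g⁻¹ = g * (g⁻¹ * q * g * (g⁻¹ * a * g)) * g⁻¹ := by rw [h2]
      have e1 : g * (g⁻¹ * a * g * (g⁻¹ * q * g)) * g⁻¹ = a * q := by group
      have e2 : g * (g⁻¹ * q * g * (g⁻¹ * a * g)) * g⁻¹ = q * a := by group
      rwa [e1, e2] at h3
  have h2 := mem_centralizer_singleton_iff.1 (h1 (mem_top l))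
  exact h2.symm

theorem Qfix' [Finite Y] [Finite V] {q : L} (hq : q ∈ Q) (hq1 : q ≠ 1) {v : V} (hv : q • v = v) :
    v ∈ fx V Q := by
  have hqA : q ∈ A ⊓ Q := ⟨h.QA' k hq, hq⟩
  have hvE : v ∈ E := by
    by_contra hvE
    exact hq1 (h.loc.mem.inj v hvE q hqA.1 (by rw [hv, h.two]; exact F.zero_mem))
  have h1 := h.five_d k hqA hq1 hvE hv
  exact (sup_le le_rfl (h.six k)) h1

theorem QV' [Finite Y] [Finite V] {q : L} (hq : q ∈ Q) (v : V) : q • v + v ∈ fx V Q :=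
  (h.Q_le_D k hq).2 v

/-- a subgroup and the image of `v ↦ [v, y]` -/
theorem surj_of [Finite V] {y : Y} {W : AddSubgroup V} (h1 : ∀ v : V, y • v = v → v ∈ W) (h2 : ∀ v : V, y • v + v ∈ W)
    (h3 : Nat.card W * Nat.card W ≤ Nat.card V) {x : V} (hx : x ∈ W) : ∃ v : V, y • v + v = x := by
  have h4 := AddSubgroup.card_mul_index (HE.dl (V := V) y).ker
  rw [AddSubgroup.index_ker] at h4
  have h5 : (HE.dl (V := V) y).ker ≤ W := fun v hv => h1 v (h.eq_of_add hv)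
  have h6 : (HE.dl (V := V) y).range ≤ W := by
    rintro _ ⟨v, rfl⟩
    exact h2 v
  have h7 := card_mono_as h5
  have h8 : (HE.dl (V := V) y).range = W := by
    apply eq_of_le_as h6
    have h9 : 0 < Nat.card W := Nat.card_pos
    apply Nat.le_of_mul_le_mul_left _ h9
    calc Nat.card W * Nat.card W ≤ Nat.card V := h3
      _ = Nat.card (HE.dl (V := V) y).ker * Nat.card (HE.dl (V := V) y).range := h4.symm
      _ ≤ _ := Nat.mul_le_mul_right _ h7
  rw [← h8] at hx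
  exact hx

theorem cX' [Finite Y] [Finite V] : Nat.card ↥(fx V Q : AddSubgroup V) = E.index ^ 2 := by
  rw [h.cX, h.ca k]

theorem Qsurj' [Finite Y] [Finite V] {q : L} (hq : q ∈ Q) (hq1 : q ≠ 1) {x : V} (hx : x ∈ fx V Q) :
    ∃ v : V, q • v + v = x := by
  apply h.surj_of k (y := (q : Y)) (fun v hv => h.Qfix' k hq hq1 hv) (fun v => h.QV' k hq v) _ hx
  rw [h.cX' k, h.cV' k]
  apply le_of_eq
  ring

theorem supXF [Finite Y] [Finite V] : (fx V Q : AddSubgroup V) ⊔ F = fx V Q := sup_eq_left.2 (h.six k)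

theorem exists_q [Finite Y] [Finite V] : ∃ q ∈ Q, q ≠ 1 := by
  obtain ⟨q, hq, hq1⟩ := h.A_ne k
  exact ⟨q, hq.2, hq1⟩

theorem exists_v [Finite Y] [Finite V] : ∃ v ∈ t • (fx V Q : AddSubgroup V), v ∈ E ∧ v ∉ fx V Q := by
  obtain ⟨v, hv, hvX⟩ := h.X'_not_le k
  exact ⟨v, hv, h.X'_le_E k hv, hvX⟩

/-- `[v, Q] = F` for `v ∈ E - X` -/
theorem onto' [Finite Y] [Finite V] {v : V} (hv : v ∈ E) (hvX : v ∉ fx V Q) {x : V} (hx : x ∈ F) :
    ∃ b ∈ Q, b • v + v = x := by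
  obtain ⟨b, hb, h1⟩ := h.onto k hv (by rwa [h.supXF k]) (x := x) (by rw [h.X1 k]; exact hx)
  exact ⟨b, hb.2, h1⟩

/-- `C_A(X') ≤ S^t` -/
theorem CAX [Finite Y] [Finite V] {s : L} (hs : s ∈ A) (hsX : ∀ x ∈ t • (fx V Q : AddSubgroup V), s • x = x) :
    ∃ q ∈ Q, (s : Y) = t * q * t⁻¹ := by
  by_cases hs1 : s = 1
  · exact ⟨1, one_mem _, by rw [hs1]; simp⟩
  -- `[E, s] = F`
  obtain ⟨v₀, -, hv₀E, hv₀X⟩ := h.exists_v k
  have h1 : ∀ x ∈ F, ∃ e ∈ E, s • e + e = x := by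
    intro x hx
    obtain ⟨b, hb, h2⟩ := h.onto' k hv₀E hv₀X hx
    obtain ⟨e', he', h3⟩ := pf_eq h.loc.mem h.two (by rw [h.cA2 k, h.ca k]) hs hs1 (h.QA' k hb) hv₀E
    exact ⟨e', he', by rw [← h3, h2]⟩
  -- `|C_E(s)| = a²`
  let ψ : E →+ V := (HE.dl (V := V) s).comp E.subtype
  have hψr : F ≤ ψ.range := by
    intro x hx
    obtain ⟨e, he, h2⟩ := h1 x hx
    exact ⟨⟨e, he⟩, h2⟩
  have h2 := AddSubgroup.card_mul_index ψ.ker
  rw [AddSubgroup.index_ker, h.cE' k] at h2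
  have h3 := card_mono_as hψr
  rw [h.cF' k] at h3
  have ha0 : 0 < E.index := Nat.pos_of_ne_zero AddSubgroup.index_ne_zero_of_finite
  have h4 : Nat.card ψ.ker ≤ E.index ^ 2 := by
    apply Nat.le_of_mul_le_mul_right _ ha0
    calc Nat.card ψ.ker * E.index ≤ Nat.card ψ.ker * Nat.card ψ.range := Nat.mul_le_mul_left _ h3
      _ = E.index ^ 3 := h2
      _ = E.index ^ 2 * E.index := by ring
  have h5 : t • (fx V Q : AddSubgroup V) = ψ.ker.map E.subtype := by
    apply eq_of_le_as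
    · intro x hx
      refine ⟨⟨x, h.X'_le_E k hx⟩, ?_, rfl⟩
      change s • x + x = 0
      rw [hsX x hx, h.two]
    · rw [card_smul_as, h.cX' k]
      have : Nat.card (ψ.ker.map E.subtype) = Nat.card ψ.ker :=
        Nat.card_congr (ψ.ker.equivMapOfInjective _ E.subtype_injective).symm.toEquiv
      rw [this]
      exact h4
  have h6 : ∀ v : V, s • v = v → v ∈ t • (fx V Q : AddSubgroup V) := by
    intro v hv
    have hvE : v ∈ E := by
      by_contra hvE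
      exact hs1 (h.loc.mem.inj v hvE s hs (by rw [hv, h.two]; exact F.zero_mem))
    rw [h5]
    refine ⟨⟨v, hvE⟩, ?_, rfl⟩
    change s • v + v = 0
    rw [hv, h.two]
  have h7 : t⁻¹ * (s : Y) * t ∈ Dx Y h.two (fx V Q : AddSubgroup V) := by
    have h8 : ∀ v : V, t • ((t⁻¹ * (s : Y) * t) • v) = s • (t • v) := by
      intro v
      rw [mul_smul, mul_smul, smul_inv_smul]
      rfl
    refine ⟨fun x hx => ?_, fun v => ?_⟩
    · have h9 := h8 x
      rw [hsX _ (smul_mem_smul_as hx)] at h9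
      exact smul_left_cancel _ h9
    · have h9 := h6 (s • (t • v) + t • v) (by
        rw [smul_add, ← mul_smul, h.loc.mem.sq s hs, one_smul, add_comm])
      rw [mem_smul_as, ← h8, ← smul_add, inv_smul_smul] at h9
      exact h9
  obtain ⟨q, hq, h8⟩ := h.DD' k h7
  refine ⟨q, hq.2, ?_⟩
  rw [h8]; group

/-- `S^t ≤ A` -/
theorem QtA' [Finite Y] [Finite V] {q : L} (hq : q ∈ Q) :
    ∃ b ∈ A, (b : Y) = t * q * t⁻¹ ∧ ∀ x ∈ t • (fx V Q : AddSubgroup V), b • x = x := by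
  obtain ⟨P₀, hP₀, hcard⟩ := h.count_X' k (P := A.map L.subtype) (by
    rintro _ ⟨a, ha, rfl⟩
    exact ⟨h.AT ha, h.AN a⟩) (by
    rintro _ ⟨a, ha, rfl⟩ x hx
    exact h.loc.mem.FB a ha x hx.2)
  have hA : Nat.card (A.map L.subtype) = Nat.card A :=
    Nat.card_congr (A.equivMapOfInjective _ L.subtype_injective).symm.toEquiv
  rw [hA, h.cA2 k, h.ca k, pow_two] at hcard
  have ha0 : 0 < E.index := Nat.pos_of_ne_zero AddSubgroup.index_ne_zero_of_finite
  have hcard' := Nat.le_of_mul_le_mul_left hcard ha0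
  have h1 : P₀ ≤ MulAut.conj t • Q.map L.subtype := by
    intro p hp
    obtain ⟨⟨a, ha, rfl⟩, hp1⟩ := (hP₀ p).1 hp
    obtain ⟨q, hq, h2⟩ := h.CAX k ha hp1
    change (a : Y) ∈ _
    rw [h2]
    exact conj_mem_conj ⟨q, hq, rfl⟩
  have h2 : P₀ = MulAut.conj t • Q.map L.subtype := by
    apply eq_of_le_of_card_ge h1
    have h3 : Nat.card (MulAut.conj t • Q.map L.subtype : Subgroup Y) = Nat.card Q := by
      rw [← Nat.card_congr (Subgroup.equivSMul (MulAut.conj t) (Q.map L.subtype)).toEquiv]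
      exact (Nat.card_congr (Q.equivMapOfInjective _ L.subtype_injective).toEquiv).symm
    rw [h3, h.cQ' k]
    exact hcard'
  have h3 : t * (q : Y) * t⁻¹ ∈ P₀ := by
    rw [h2]
    exact conj_mem_conj ⟨q, hq, rfl⟩
  obtain ⟨⟨b, hb, h4⟩, h5⟩ := (hP₀ _).1 h3
  refine ⟨b, hb, h4, fun x hx => ?_⟩
  have h6 := h5 x hx
  rw [← h4] at h6
  exact h6

theorem inf1' [Finite Y] [Finite V] {q q' : L} (hq : q ∈ Q) (hq' : q' ∈ Q) (he : (q : Y) = t * q' * t⁻¹) : q = 1 := by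
  by_contra hq1
  obtain ⟨v, hv, -, hvX⟩ := h.exists_v k
  apply hvX
  apply h.Qfix' k hq hq1
  obtain ⟨b, hb, h1, h2⟩ := h.QtA' k hq'
  have h3 : b = q := Subtype.ext (h1.trans he.symm)
  rw [← h3]
  exact h2 v hv

theorem prod' [Finite Y] [Finite V] {b : L} (hb : b ∈ A) : ∃ q ∈ Q, ∃ q' ∈ Q, (b : Y) = q * (t * q' * t⁻¹) := by
  have hex : ∀ q : Q, ∃ b ∈ A, (b : Y) = t * ((q : L) : Y) * t⁻¹ := by
    intro q
    obtain ⟨b, hb, h1, -⟩ := h.QtA' k q.2
    exact ⟨b, hb, h1⟩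
  choose g hg1 hg2 using hex
  let f : Q × Q → A := fun p => ⟨p.1 * g p.2, mul_mem (h.QA' k p.1.2) (hg1 p.2)⟩
  have hf : Function.Injective f := by
    rintro ⟨q₁, q₂⟩ ⟨q₃, q₄⟩ hqq
    have h1 : ((q₁ : L) : Y) * (t * ((q₂ : L) : Y) * t⁻¹) = ((q₃ : L) : Y) * (t * ((q₄ : L) : Y) * t⁻¹) := by
      have := congrArg (fun a : A => ((a : L) : Y)) hqq
      change ((q₁ : L) : Y) * (g q₂ : Y) = ((q₃ : L) : Y) * (g q₄ : Y) at this
      rwa [hg2, hg2] at this
    have h2 : (((q₃ : L)⁻¹ * q₁ : L) : Y) = t * (((q₄ : L) * (q₂ : L)⁻¹ : L) : Y) * t⁻¹ := by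
      rw [coe_mul, coe_mul, coe_inv, coe_inv]
      have h3 : ((q₁ : L) : Y) = ((q₃ : L) : Y) * (t * ((q₄ : L) : Y) * t⁻¹) * (t * ((q₂ : L) : Y) * t⁻¹)⁻¹ := by
        rw [← h1]; group
      rw [h3]; group
    have h3 := h.inf1' k (mul_mem (inv_mem q₃.2) q₁.2) (mul_mem q₄.2 (inv_mem q₂.2)) h2
    have h4 : q₁ = q₃ := Subtype.ext (by rw [inv_mul_eq_one] at h3; exact h3.symm)
    subst h4
    have h5 := mul_left_cancel h1
    have h6 : ((q₂ : L) : Y) = ((q₄ : L) : Y) := mul_left_cancel (mul_right_cancel h5)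
    have h7 : q₂ = q₄ := Subtype.ext (Subtype.ext h6)
    rw [h7]
  have hs : Function.Surjective f := ((Nat.bijective_iff_injective_and_card f).2 ⟨hf, by
    rw [Nat.card_prod, h.cQ' k, h.cA2 k, h.ca k, pow_two]⟩).2
  obtain ⟨⟨q, q'⟩, h1⟩ := hs ⟨b, hb⟩
  refine ⟨q, q.2, q', q'.2, ?_⟩
  have h2 := congrArg (fun a : A => ((a : L) : Y)) h1
  change ((q : L) : Y) * (g q' : Y) = b at h2
  rw [← h2, hg2]

theorem tA' [Finite Y] [Finite V] {b : L} (hb : b ∈ A) : ∃ c ∈ A, (c : Y) = t * b * t⁻¹ := by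
  obtain ⟨q, hq, q', hq', h1⟩ := h.prod' k hb
  obtain ⟨c, hc, h2, -⟩ := h.QtA' k hq
  have h3 := h.D_conj k.tt (h.Q_le_D k hq')
  obtain ⟨q'', hq'', h4⟩ := h.DD' k h3
  refine ⟨c * q'', mul_mem hc hq''.1, ?_⟩
  rw [coe_mul, h2, h4, h1]
  group

/-- `C_Y(E) ∩ C_Y(V/E) = 1` -/
theorem N0 [Finite Y] [Finite V] {n : Y} (hn : n ∈ Dx Y h.two E) : n = 1 := by
  -- `n` commutes with `A`
  have hcomm : ∀ a ∈ A, (a : Y) * n = n * a := by
    intro a ha
    have hc : (a : Y) * n * (n * a)⁻¹ ∈ Dx Y h.two (fx V Q : AddSubgroup V) := by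
      have key : ∀ v : V, ((a : Y) * n * (n * a)⁻¹) • v + v ∈ F := by
        intro v
        obtain ⟨w, rfl⟩ : ∃ w : V, v = (n * (a : Y)) • w := ⟨(n * (a : Y))⁻¹ • v, by rw [smul_inv_smul]⟩
        have e1 : ((a : Y) * n * (n * a)⁻¹) • (n * (a : Y)) • w = ((a : Y) * n) • w := by
          rw [← mul_smul]; congr 1; group
        rw [e1, mul_smul, mul_smul]
        have h1 := hn.1 _ (h.loc.mem.VB a ha w)
        change n • ((a : Y) • w + w) = (a : Y) • w + w at h1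
        rw [smul_add] at h1
        have h2 : (a : Y) • n • w + n • (a : Y) • w = (a : Y) • (n • w + w) + (n • w + w) := by
          have h3 : n • (a : Y) • w = (a : Y) • w + w + n • w := by
            rw [← h1, add_assoc, h.two, add_zero]
          rw [h3, smul_add]
          abel
        rw [h2]
        exact h.loc.mem.EB a ha _ (hn.2 w)
      refine ⟨fun x hx => ?_, fun v => h.six k (key v)⟩
      have hx' : (a : Y)⁻¹ • x ∈ E := h.beta.XE (h.Xmem (l := a⁻¹) hx)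
      rw [mul_inv_rev, mul_smul, mul_smul, mul_smul]
      have hxE : n⁻¹ • x = x := by rw [inv_smul_eq_iff, hn.1 x (h.beta.XE hx)]
      rw [hxE, hn.1 _ hx', smul_inv_smul]
    have h1 := h.D0 k hc (by
      intro x hx
      have hxE := h.X'_le_E k hx
      have hx' : (a : Y)⁻¹ • x ∈ E := by
        have h2 := h.loc.mem.VB a⁻¹ (inv_mem ha) x
        exact (AddSubgroup.add_mem_cancel_right E hxE).1 h2
      rw [mul_inv_rev, mul_smul, mul_smul, mul_smul]
      have hxE' : n⁻¹ • x = x := by rw [inv_smul_eq_iff, hn.1 x hxE]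
      rw [hxE', hn.1 _ hx', smul_inv_smul])
    exact mul_inv_eq_one.1 h1
  apply h.D0 k
  · refine ⟨fun x hx => hn.1 x (h.beta.XE hx), fun v => h.six k ?_⟩
    apply h.loc.mem.CB
    intro a ha
    have h1 := hn.1 _ (h.loc.mem.VB a ha v)
    change n • ((a : Y) • v + v) = (a : Y) • v + v at h1
    change (a : Y) • (n • v + v) = n • v + v
    apply h.eq_of_add
    have h2 : (a : Y) • (n • v + v) + (n • v + v) = n • ((a : Y) • v + v) + ((a : Y) • v + v) := by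
      rw [smul_add, smul_add, ← mul_smul, ← mul_smul, hcomm a ha]
      abel
    rw [h2, h1, h.two]
  · intro x hx
    exact hn.1 x (h.X'_le_E k hx)

/-- `C_Y(E) = 1` -/
theorem CYE [Finite Y] [Finite V] {y : Y} (hy : ∀ x ∈ E, y • x = x) : y = 1 := by
  have hcomm : ∀ a ∈ A, (a : Y) * y = y * a := by
    intro a ha
    apply mul_inv_eq_one.1
    apply h.N0 k
    have hE : ∀ x ∈ E, (a : Y)⁻¹ • x ∈ E := by
      intro x hx
      have h2 := h.loc.mem.VB a⁻¹ (inv_mem ha) x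
      exact (AddSubgroup.add_mem_cancel_right E hx).1 h2
    refine ⟨fun x hx => ?_, fun v => ?_⟩
    · rw [mul_inv_rev, mul_smul, mul_smul, mul_smul]
      have hxE : y⁻¹ • x = x := by rw [inv_smul_eq_iff, hy x hx]
      rw [hxE, hy _ (hE x hx), smul_inv_smul]
    · obtain ⟨w, rfl⟩ : ∃ w : V, v = (y * (a : Y)) • w := ⟨(y * (a : Y))⁻¹ • v, by rw [smul_inv_smul]⟩
      have e1 : ((a : Y) * y * (y * a)⁻¹) • (y * (a : Y)) • w = ((a : Y) * y) • w := by
        rw [← mul_smul]; congr 1; group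
      rw [e1, mul_smul, mul_smul]
      have h1 := hy _ (h.loc.mem.VB a ha w)
      change y • ((a : Y) • w + w) = (a : Y) • w + w at h1
      rw [smul_add] at h1
      have h2 : (a : Y) • y • w + y • (a : Y) • w = ((a : Y) • (y • w) + y • w) + ((a : Y) • w + w) := by
        have h3 : y • (a : Y) • w = (a : Y) • w + w + y • w := by
          rw [← h1, add_assoc, h.two, add_zero]
        rw [h3]
        abel
      rw [h2]
      exact E.add_mem (h.loc.mem.VB a ha _) (h.loc.mem.VB a ha _)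
  apply h.D0 k
  · refine ⟨fun x hx => hy x (h.beta.XE hx), fun v => h.six k ?_⟩
    apply h.loc.mem.CB
    intro a ha
    have h1 := hy _ (h.loc.mem.VB a ha v)
    change y • ((a : Y) • v + v) = (a : Y) • v + v at h1
    change (a : Y) • (y • v + v) = y • v + v
    apply h.eq_of_add
    have h2 : (a : Y) • (y • v + v) + (y • v + v) = y • ((a : Y) • v + v) + ((a : Y) • v + v) := by
      rw [smul_add, smul_add, ← mul_smul, ← mul_smul, hcomm a ha]
      abel
    rw [h2, h1, h.two]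
  · intro x hx
    exact hy x (h.X'_le_E k hx)

/-- `C_T(X) = S` -/
theorem CTX' [Finite Y] [Finite V] {y : Y} (hyT : y ∈ T) (hy : ∀ x ∈ fx V Q, y • x = x) :
    ∃ q ∈ Q, (q : Y) = y := by
  have hyN : y ∈ NX L V Q := mem_NX_of fun x hx => by rw [hy x hx]; exact hx
  obtain ⟨v, hv, hvE, hvX⟩ := h.exists_v k
  have h1 := (h.s3 k hyT hyN fun x hx => hy x hx.1).1 v hv
  obtain ⟨q, hq, h2⟩ := h.onto' k hvE hvX h1.2
  have h3 : (q : Y) • v = y • v := add_right_cancel h2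
  refine ⟨q, hq, ?_⟩
  have h4 : (q : Y)⁻¹ * y = 1 := by
    apply h.CYE k
    have hqT : (q : Y) ∈ T := h.QT hq
    have h5 : (q : Y)⁻¹ * y ∈ T := mul_mem (inv_mem hqT) hyT
    have hqN : (q : Y) ∈ NX L V Q := h.AN q
    have h6 : ∀ x ∈ fx V Q, ((q : Y)⁻¹ * y) • x = x := by
      intro x hx
      rw [mul_smul, hy x hx, inv_smul_eq_iff]
      exact (hx q hq).symm
    have h7 := (h.s3 k h5 (mul_mem (inv_mem hqN) hyN) fun x hx => h6 x hx.1).2 v hv (fun h8 => hvX h8.1) (by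
      rw [mul_smul, ← h3, inv_smul_smul])
    intro x hx
    rw [h.supE' k, AddSubgroup.mem_sup] at hx
    obtain ⟨x₁, hx₁, x₂, hx₂, rfl⟩ := hx
    rw [smul_add, h6 x₁ hx₁, h7 x₂ hx₂]
  exact inv_mul_eq_one.1 h4

/-- `C_T(A) = A` -/
theorem CTA' [Finite Y] [Finite V] {y : Y} (hyT : y ∈ T) (hyA : ∀ b ∈ A, y * (b : Y) = b * y) :
    ∃ b ∈ A, (b : Y) = y := by
  let N : Subgroup Y := (T : Subgroup Y) ⊓ centralizer (A.map L.subtype : Set Y)
  have hN : ∀ {n : Y}, n ∈ N ↔ n ∈ T ∧ ∀ b ∈ A, n * (b : Y) = b * n := by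
    intro n
    constructor
    · rintro ⟨h1, h2⟩
      refine ⟨h1, fun b hb => ?_⟩
      exact ((mem_centralizer_iff.1 h2) _ ⟨b, hb, rfl⟩).symm
    · rintro ⟨h1, h2⟩
      refine ⟨h1, mem_centralizer_iff.2 ?_⟩
      rintro _ ⟨b, hb, rfl⟩
      exact (h2 b hb).symm
  have hcom : ∀ {n : Y}, n ∈ N → ∀ a ∈ A, ∀ v : V, a • (n • v) + n • v = n • (a • v + v) := by
    intro n hn a ha v
    have h1 := (hN.1 hn).2 a ha
    rw [smul_add]
    congr 1
    change (a : Y) • (n • v) = n • ((a : Y) • v)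
    rw [← mul_smul, ← mul_smul, h1]
  have hNF : ∀ {n : Y}, n ∈ N → ∀ f ∈ F, n • f ∈ F := by
    intro n hn f hf
    apply h.loc.mem.CB
    intro a ha
    apply h.eq_of_add
    rw [hcom hn a ha, h.loc.mem.FB a ha f hf, h.two, smul_zero]
  obtain ⟨q₀, hq₀, hq₀1⟩ := h.exists_q k
  have hq₀A := h.QA' k hq₀
  have hEof : ∀ v : V, q₀ • v + v ∈ F → v ∈ E := by
    intro v hv
    by_contra h1
    exact hq₀1 (h.loc.mem.inj v h1 q₀ hq₀A hv)
  have hNE : ∀ {n : Y}, n ∈ N → ∀ e ∈ E, n • e ∈ E := by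
    intro n hn e he
    apply hEof
    rw [hcom hn q₀ hq₀A]
    exact hNF hn _ (h.loc.mem.EB q₀ hq₀A e he)
  have hyN : y ∈ N := hN.2 ⟨hyT, hyA⟩
  -- a fixed point on `V/E`
  obtain ⟨v, -, hvE, hvfix⟩ := exists_fixed_mod h.two (R := N) (T.2.to_le inf_le_left) ⊤ E
    (fun _ _ _ _ => trivial) (fun r hr w hw => hNE hr w hw) (by
      obtain ⟨w, hw⟩ := h.loc.mem.ne
      exact ⟨w, trivial, hw⟩)
  have hu := hvfix y hyN
  -- trivial on `E/F`
  have h1 : ∀ e ∈ E, y • e + e ∈ F := by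
    intro e he
    obtain ⟨a, ha, hf⟩ := h.loc.mem.surj v hvE e he
    have h2 : y • (a • v + v) + (a • v + v) = a • (y • v + v) + (y • v + v) := by
      rw [← hcom hyN a ha, smul_add]
      abel
    have h3 : y • (a • v + v) + (a • v + v) ∈ F := by
      rw [h2]; exact h.loc.mem.EB a ha _ hu
    have h4 : y • e + e = (y • (a • v + v) + (a • v + v)) + (y • (a • v + v + e) + (a • v + v + e)) := by
      rw [smul_add y (a • v + v) e]
      have : y • (a • v + v) + (a • v + v) + (y • (a • v + v) + y • e + (a • v + v + e)) =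
        (y • (a • v + v) + y • (a • v + v)) + ((a • v + v) + (a • v + v)) + (y • e + e) := by abel
      rw [this, h.two, h.two, zero_add, zero_add]
    rw [h4]
    exact F.add_mem h3 (F.add_mem (hNF hyN _ hf) hf)
  -- trivial on `F`
  have h2 : ∀ f ∈ F, y • f = f := by
    intro f hf
    obtain ⟨v₀, -, hv₀E, hv₀X⟩ := h.exists_v k
    obtain ⟨b, hb, rfl⟩ := h.onto' k hv₀E hv₀X hf
    have hbA := h.QA' k hb
    rw [← hcom hyN b hbA]
    have h3 := h.loc.mem.FB b hbA _ (h1 v₀ hv₀E)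
    rw [smul_add] at h3
    have h4 : b • y • v₀ + y • v₀ = (b • y • v₀ + b • v₀) + (y • v₀ + b • v₀) := by
      have : b • y • v₀ + b • v₀ + (y • v₀ + b • v₀) = b • y • v₀ + y • v₀ + (b • v₀ + b • v₀) := by abel
      rw [this, h.two, add_zero]
    rw [h4, h3]
    have : y • v₀ + v₀ + (y • v₀ + b • v₀) = (y • v₀ + y • v₀) + (b • v₀ + v₀) := by abel
    rw [this, h.two, zero_add]
  have hyX : y ∈ NX L V Q := by
    apply mem_NX_of
    intro x hx
    exact (AddSubgroup.add_mem_cancel_right _ hx).1 (h.six k (h1 x (h.beta.XE hx)))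
  -- subtract an element of `A`
  obtain ⟨x, hx, hxF⟩ : ∃ x ∈ fx V Q, x ∉ F := by
    obtain ⟨l, hl⟩ := exists_out h.loc h.beta
    refine ⟨l • z, h.Xmem h.loc.z_mem.1, fun h3 => ?_⟩
    exact h.loc.z_not (by
      have h4 := h.loc.mem_C_of_F hl (smul_mem_smul_as h.loc.z_mem) h3
      rw [h.C0, AddSubgroup.mem_bot, smul_eq_zero_iff_eq] at h4
      exact absurd h4 h.z_ne)
  obtain ⟨a, ha, c, hc, h3⟩ := h.beta.full x hx hxF (y • x + x) ⟨h.six k (h1 x (h.beta.XE hx)), h1 x (h.beta.XE hx)⟩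
  rw [h.C0, AddSubgroup.mem_bot] at hc
  rw [hc, add_zero] at h3
  have h4 : (a : Y) • x = y • x := add_right_cancel h3
  have h5 : (a : Y)⁻¹ * y ∈ T := mul_mem (inv_mem (h.AT ha)) hyT
  have h6 : (a : Y)⁻¹ * y ∈ NX L V Q := mul_mem (inv_mem (h.AN a)) hyX
  have h7 := (h.s2 h5 h6 (by
    intro f hf
    rw [mul_smul, h2 f hf.2, inv_smul_eq_iff]
    exact (h.loc.mem.FB a ha f hf.2).symm)).2 x hx hxF (by rw [mul_smul, ← h4, inv_smul_smul])
  obtain ⟨q, hq, h8⟩ := h.CTX' k h5 h7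
  refine ⟨a * q, mul_mem ha (h.QA' k hq), ?_⟩
  rw [coe_mul, h8]
  group

theorem CL' [Finite Y] [Finite V] {l : L} (hl : ∀ x ∈ fx V Q, l • x = x) : l ∈ Q := by
  obtain ⟨q, hq, hq1⟩ := h.exists_q k
  have h1 : (l : Y) ∈ Dx Y h.two (fx V Q : AddSubgroup V) := by
    refine ⟨hl, fun v => ?_⟩
    apply h.Qfix' k hq hq1
    apply h.eq_of_add
    have h2 : q • (l • v + v) + (l • v + v) = l • (q • v + v) + (q • v + v) := by
      rw [smul_add, smul_add, ← mul_smul, ← mul_smul, h.Qz' k hq l]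
      abel
    have h3 := hl _ (h.QV' k hq v)
    rw [h3, h.two] at h2
    exact h2
  obtain ⟨b, hb, h2⟩ := h.DD' k h1
  have : b = l := Subtype.ext h2
  rw [← this]
  exact hb.2

/-- **THEOREM B0 (1)-(7)** -/
theorem out [Finite Y] [Finite V] : Out T M L A Q L₁ R E F z t where
  hyp := h
  tk := k
  QA := h.QA' k
  cQ := h.cQ' k
  cA := by rw [h.cA2 k, h.ca k]
  cF := h.cF' k
  cX := h.cX' k
  cV := h.cV' k
  FX := h.six k
  supE := h.supE' k
  infF := by
    apply le_antisymm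
    · rintro x ⟨hx, hx'⟩
      exact (h.inf_X' k hx hx').2
    · intro x hx
      exact ⟨h.six k hx, h.X1_le_X' k ⟨h.six k hx, hx⟩⟩
  tF := h.tF' k
  tE := h.tE' k
  Qz := fun _ hq l => h.Qz' k hq l
  Qfix := fun _ hq hq1 _ hv => h.Qfix' k hq hq1 hv
  QV := fun _ hq v => h.QV' k hq v
  Qsurj := fun _ hq hq1 _ hx => h.Qsurj' k hq hq1 hx
  QtA := fun _ hq => by
    obtain ⟨b, hb, h1, -⟩ := h.QtA' k hq
    exact ⟨b, hb, h1⟩
  tA := fun _ hb => h.tA' k hb
  prod := fun _ hb => h.prod' k hb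
  inf1 := fun _ hq _ hq' he => h.inf1' k hq hq' he
  CAX' := fun _ hb hbX => h.CAX k hb hbX
  DD := fun y h1 h2 => by
    obtain ⟨q, hq, h3⟩ := h.DD' k (y := y) ⟨h1, h2⟩
    exact ⟨q, hq.2, h3⟩
  CL := fun _ hl => h.CL' k hl
  CTX := fun _ hy h1 => h.CTX' k hy h1
  CTA := fun _ hy h1 => h.CTA' k hy h1

end t

end Hyp

end Cfsg.Agent.Omega.NO1.B0

end

section


/-!
# THEOREM B0 (bb OMEGA 18835, helper970): `L = S × K`, `K ≅ SL₂(a)` (Gaschütz)
-/

set_option autoImplicit false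
set_option linter.unusedSectionVars false
set_option linter.style.haveILetI false

namespace Cfsg.Agent.Omega.NO1.B0

open Subgroup Cfsg.Agent.Omega.NO1.AB
open scoped Pointwise

universe u

variable {Y : Type u} [Group Y] {V : Type u} [AddCommGroup V] [DistribMulAction Y V]

namespace Out

variable {T : Sylow 2 Y} {M L : Subgroup Y} {A Q L₁ : Subgroup L} {R : Sylow 2 L} {E F : AddSubgroup V}
  {z : V} {t : Y} (o : Out T M L A Q L₁ R E F z t)
include o

/-- `R = A` -/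
theorem R_eq [Finite Y] [Finite V] : (R : Subgroup L) = A := by
  have h := o.hyp
  apply le_antisymm _ h.loc.AR
  intro r hr
  obtain ⟨K, i1, i2, i3, e, hc⟩ := h.exists_co
  have hrz : r • z = z := h.loc.zR r hr
  have hrT : (r : Y) ∈ T := h.RT r hr
  have hrN : (r : Y) ∈ NX L V Q := h.AN r
  obtain ⟨s, hs⟩ := hc.act r
  have hs1 : s.mulVec ![1, 0] = ![1, 0] := by
    have h1 := hs ⟨z, h.loc.z_mem.1⟩ ⟨z, h.loc.z_mem.1⟩ hrz.symm
    rw [hc.ez _ rfl] at h1
    exact h1.symm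
  have h1 : ∀ x ∈ fx V Q ⊓ F, (r : Y) • x = x := by
    intro x hx
    have h2 := hs ⟨x, hx.1⟩ ⟨r • x, h.Xmem hx.1⟩ rfl
    have h3 : e ⟨x, hx.1⟩ = e ⟨x, hx.1⟩ 0 • ![1, 0] := by
      rw [smul_vec, mul_one, mul_zero]
      have h4 := vec_eq (e ⟨x, hx.1⟩)
      rwa [(hc.memF ⟨x, hx.1⟩).1 hx.2] at h4
    rw [h3, Matrix.mulVec_smul, hs1, ← h3] at h2
    exact congrArg Subtype.val (e.injective h2)
  obtain ⟨x, hx, hxF⟩ : ∃ x ∈ fx V Q, x ∉ F := by
    obtain ⟨l, hl⟩ := exists_out h.loc h.beta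
    refine ⟨l • z, h.Xmem h.loc.z_mem.1, fun h3 => ?_⟩
    have h4 := h.loc.mem_C_of_F hl (smul_mem_smul_as h.loc.z_mem) h3
    rw [h.C0, AddSubgroup.mem_bot, smul_eq_zero_iff_eq] at h4
    exact h.z_ne h4
  have h2 := (h.s2 hrT hrN h1).1 x hx
  obtain ⟨a, ha, c, hc', h3⟩ := h.beta.full x hx hxF _ h2
  rw [h.C0, AddSubgroup.mem_bot] at hc'
  rw [hc', add_zero] at h3
  have h4 : (a : Y) • x = (r : Y) • x := add_right_cancel h3
  have h7 := (h.s2 (p := (a : Y)⁻¹ * r) (mul_mem (inv_mem (h.AT ha)) hrT) (mul_mem (inv_mem (h.AN a)) hrN) (by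
    intro f hf
    rw [mul_smul, h1 f hf, inv_smul_eq_iff]
    exact (h.loc.mem.FB a ha f hf.2).symm)).2 x hx hxF (by rw [mul_smul, ← h4, inv_smul_smul])
  have h8 : a⁻¹ * r ∈ Q := o.CL _ h7
  have h9 := mul_mem ha (o.QA h8)
  rwa [mul_inv_cancel_left] at h9

/-- `L = S × K` -/
theorem exists_compl [Finite Y] [Finite V] : ∃ K : Subgroup L, K ⊓ Q = ⊥ ∧ K ⊔ Q = ⊤ ∧ K.Normal := by
  have : Fact (Nat.Prime 2) := ⟨Nat.prime_two⟩
  have h := o.hyp
  haveI := h.loc.Qn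
  haveI : IsMulCommutative Q := ⟨⟨fun a b => Subtype.ext (o.Qz a a.2 b)⟩⟩
  have hb : Function.Bijective fun k : Q => k ^ A.index := by
    have hcop : (Nat.card Q).Coprime A.index := by
      obtain ⟨n, hn⟩ := IsPGroup.iff_card.1 h.loc.Q2
      rw [hn]
      apply Nat.Coprime.pow_left
      rw [Nat.prime_two.coprime_iff_not_dvd, ← o.R_eq]
      exact R.not_dvd_index
    exact hcop.pow_left_bijective
  -- the complement `S^t` in `A`
  let B : Subgroup L :=
    { carrier := {b | ∃ q ∈ Q, (b : Y) = t * q * t⁻¹}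
      mul_mem' := by
        rintro a b ⟨q, hq, h1⟩ ⟨q', hq', h2⟩
        refine ⟨q * q', mul_mem hq hq', ?_⟩
        rw [coe_mul, coe_mul, h1, h2]; group
      one_mem' := ⟨1, one_mem _, by simp⟩
      inv_mem' := by
        rintro a ⟨q, hq, h1⟩
        refine ⟨q⁻¹, inv_mem hq, ?_⟩
        rw [coe_inv, coe_inv, h1]; group }
  have hB1 : B ⊓ Q = ⊥ := by
    rw [eq_bot_iff]
    rintro b ⟨⟨q, hq, h1⟩, hb⟩
    rw [mem_bot]
    exact o.inf1 b hb q hq h1
  have hB2 : Q ⊔ B = A := by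
    apply le_antisymm
    · refine sup_le o.QA ?_
      rintro b ⟨q, hq, h1⟩
      obtain ⟨c, hc, h2⟩ := o.QtA q hq
      have : b = c := Subtype.ext (h1.trans h2.symm)
      rwa [this]
    · intro b hb
      obtain ⟨q, hq, q', hq', h1⟩ := o.prod b hb
      obtain ⟨c, hc, h2⟩ := o.QtA q' hq'
      have h3 : b = q * c := Subtype.ext (by rw [coe_mul, h2, h1])
      rw [h3]
      exact mul_mem (mem_sup_left hq) (mem_sup_right ⟨q', hq', h2⟩)
  obtain ⟨K, hK⟩ := Cfsg.Agent.Solvable.Gaschutz.exists_complement Q A hb B hB1 hB2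
  have hsup : K ⊔ Q = ⊤ := by rw [sup_comm]; exact hK.sup_eq_top
  refine ⟨K, by rw [inf_comm]; exact hK.disjoint.eq_bot, hsup, ?_⟩
  rw [← normalizer_eq_top_iff, eq_top_iff, ← hsup]
  refine sup_le le_normalizer ?_
  intro q hq
  rw [mem_normalizer_iff]
  intro x
  rw [o.Qz q hq x, mul_inv_cancel_right]

/-- **`K ≅ SL₂(a)`** -/
theorem exists_K [Finite Y] [Finite V] :
    ∃ (𝕂 : Type) (_ : Field 𝕂) (_ : Fintype 𝕂) (_ : CharP 𝕂 2) (e : ↥(fx V Q) ≃+ (Fin 2 → 𝕂)) (K : Subgroup L)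
      (φ : K ≃* Matrix.SpecialLinearGroup (Fin 2) 𝕂), OutK o K 𝕂 e φ ∧ ∀ v : ↥(fx V Q), (v : V) = z → e v = ![1, 0] := by
  have h := o.hyp
  obtain ⟨𝕂, i1, i2, i3, e, h1, h2, h3, h4, h5⟩ := exists_coord' h.loc h.beta h.C0
  obtain ⟨K, hK1, hK2, hK3⟩ := o.exists_compl
  choose f hf using h3
  have huniq : ∀ s s' : Matrix.SpecialLinearGroup (Fin 2) 𝕂, (∀ v : ↥(fx V Q), s.1.mulVec (e v) = s'.1.mulVec (e v)) →
      s = s' := by
    intro s s' hss
    apply Subtype.ext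
    apply Matrix.mulVec_injective
    funext w
    have := hss (e.symm w)
    rwa [e.apply_symm_apply] at this
  let ψ : L →* Matrix.SpecialLinearGroup (Fin 2) 𝕂 := MonoidHom.mk' f (by
    intro a b
    apply huniq
    intro v
    rw [← hf, Matrix.SpecialLinearGroup.coe_mul, ← Matrix.mulVec_mulVec, ← hf b v, ← hf a]
    congr 1
    exact Subtype.ext (mul_smul a b (v : V)))
  have hker : ∀ l, ψ l = 1 ↔ l ∈ Q := by
    intro l
    constructor
    · intro hl
      apply o.CL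
      intro x hx
      have h6 := hf l ⟨x, hx⟩
      have h7 : f l = 1 := hl
      rw [h7, Matrix.SpecialLinearGroup.coe_one, Matrix.one_mulVec] at h6
      exact congrArg Subtype.val (e.injective h6)
    · intro hl
      apply huniq
      intro v
      change (f l).1.mulVec (e v) = _
      rw [← hf, Matrix.SpecialLinearGroup.coe_one, Matrix.one_mulVec]
      congr 1
      exact Subtype.ext (v.2 l hl)
  have hsurj : ∀ s, ∃ l, ψ l = s := by
    intro s
    obtain ⟨l, hl⟩ := h4 s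
    refine ⟨l, huniq _ _ fun v => ?_⟩
    rw [← hl v]
    exact (hf l v).symm
  let φ₀ : K →* Matrix.SpecialLinearGroup (Fin 2) 𝕂 := ψ.comp K.subtype
  have hφ₀ : Function.Bijective φ₀ := by
    constructor
    · rw [injective_iff_map_eq_one]
      intro k hk
      have h6 : (k : L) ∈ K ⊓ Q := ⟨k.2, (hker _).1 hk⟩
      rw [hK1, mem_bot] at h6
      exact Subtype.ext h6
    · intro s
      obtain ⟨l, hl⟩ := hsurj s
      have h6 : l ∈ K ⊔ Q := by rw [hK2]; exact mem_top l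
      haveI := h.loc.Qn
      obtain ⟨k, hk, q, hq, rfl⟩ := mem_sup_of_normal_right.1 h6
      refine ⟨⟨k, hk⟩, ?_⟩
      rw [map_mul, (hker q).2 hq, mul_one] at hl
      exact hl
  refine ⟨𝕂, i1, i2, i3, e, K, MulEquiv.ofBijective φ₀ hφ₀, ?_, ?_⟩
  · exact
      { inf := hK1
        sup := hK2
        normal := hK3
        card := by
          rw [h1, inf_eq_right.2 o.FX, o.cF]
        act := by
          intro k v w hw
          change _ = (f k).1.mulVec (e v)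
          rw [← hf]
          congr 1
          exact Subtype.ext hw
        memF := h2 }
  · intro v hv
    rw [← h5]
    congr 1
    exact Subtype.ext hv

end Out

end Cfsg.Agent.Omega.NO1.B0

end

section


/-!
# FIN-BETA ⟹ the hypotheses of THEOREM B0 (bb OMEGA 20935 (C2), 21423 (D4))

`hyp0_of` : the data of `Fin (BETA)` give `Hyp0`; `exists_out_of` : ... and `Out`.
-/

set_option autoImplicit false
set_option linter.unusedSectionVars false
set_option linter.style.haveILetI false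

namespace Cfsg.Agent.Omega.NO1.B0

open Subgroup Cfsg.Agent.Omega.NO1.AB
open scoped Pointwise

universe u

variable {Y : Type u} [Group Y] {V : Type u} [AddCommGroup V] [DistribMulAction Y V]

/-- `Fin (BETA)` ⟹ `Hyp0` -/
theorem hyp0_of [Finite Y] [Finite V] {T : Sylow 2 Y} {M L A : Subgroup Y} {Q : Subgroup L} {R : Sylow 2 L}
    (hLM : ¬ L ≤ M) (hRT : (R : Subgroup L).map L.subtype ≤ (T : Subgroup Y))
    (h0 : Loc0 (A.subgroupOf L) (Ee V A) (fx V A) Q (M.subgroupOf L) R) (hC : fx V L = ⊥)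
    (hne : A.subgroupOf L ⊓ Q ≠ ⊥) (faith : ∀ y : Y, (∀ v : V, y • v = v) → y = 1)
    (irr : ∀ W : AddSubgroup V, (∀ y : Y, ∀ w ∈ W, y • w ∈ W) → W ≤ Ee V A → W = ⊥)
    (off : ∀ B : Subgroup Y, (∀ b ∈ B, b * b = 1) → B ≠ ⊥ → Nat.card B * Nat.card ↥(fx V B) < Nat.card V)
    (TM : (T : Subgroup Y) ≤ M) (Mne : M ≠ ⊤) (max : ∀ K : Subgroup Y, (T : Subgroup Y) ≤ K → K ≠ ⊤ → K ≤ M) :
    ∃ z, Hyp0 T M L (A.subgroupOf L) Q (M.subgroupOf L) R (Ee V A) (fx V A) z := by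
  -- a fixed vector of `T`
  obtain ⟨z, -, hz0, hzT⟩ := exists_fixed_mod h0.two (R := (T : Subgroup Y)) T.2 ⊤ ⊥ (fun _ _ _ _ => trivial)
    (fun r _ w hw => by
      rw [AddSubgroup.mem_bot] at hw ⊢
      rw [hw, smul_zero]) (by
      obtain ⟨v, hv⟩ := h0.mem.ne
      refine ⟨v, trivial, fun h1 => hv ?_⟩
      rw [AddSubgroup.mem_bot] at h1
      rw [h1]; exact AddSubgroup.zero_mem _)
  rw [AddSubgroup.mem_bot] at hz0
  have hzT' : ∀ r ∈ (T : Subgroup Y), r • z = z := by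
    intro r hr
    have h1 := hzT r hr
    rw [AddSubgroup.mem_bot, ← neg_eq_iff_add_eq_zero,
      neg_eq_of_add_eq_zero_left (h0.two (r • z))] at h1
    exact h1
  have hC' : fx V (⊤ : Subgroup L) = ⊥ := by
    rw [← hC]
    ext v
    constructor
    · intro h l hl
      exact h ⟨l, hl⟩ (mem_top _)
    · intro h l _
      exact h l l.2
  have hloc : Loc (A.subgroupOf L) (Ee V A) (fx V A) Q (M.subgroupOf L) R z :=
    { h0 with
      zR := fun r hr => hzT' _ (hRT ⟨r, hr, rfl⟩)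
      zL := by
        by_contra hc
        push Not at hc
        have h1 : z ∈ fx V (⊤ : Subgroup L) := fun l _ => hc l
        rw [hC', AddSubgroup.mem_bot] at h1
        exact hz0 h1 }
  refine ⟨z, ?_⟩
  exact
    { loc := hloc
      beta := hloc.beta (by
        intro g _ x hx
        by_contra h1
        apply hne
        rw [eq_bot_iff]
        intro b hb
        rw [mem_bot]
        apply h0.mem.inj _ h1 b hb.1
        have h2 : g • x ∈ fx V Q := hloc.smul_X g hx.1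
        rw [h2 b hb.2, h0.two]
        exact AddSubgroup.zero_mem _)
      C0 := hC'
      faith := faith
      irr := irr
      off := off
      TM := TM
      M_ne := Mne
      uniqM := max
      L₁M := fun l hl => mem_subgroupOf.1 hl
      LM := hLM
      RT := fun r hr => hRT ⟨r, hr, rfl⟩
      zT := hzT' }

/-- `Fin (BETA)` ⟹ all conclusions of THEOREM B0 (1)-(7) -/
theorem exists_out_of [Finite Y] [Finite V] {T : Sylow 2 Y} {M L A : Subgroup Y} {Q : Subgroup L} {R : Sylow 2 L}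
    (hLM : ¬ L ≤ M) (hRT : (R : Subgroup L).map L.subtype ≤ (T : Subgroup Y))
    (h0 : Loc0 (A.subgroupOf L) (Ee V A) (fx V A) Q (M.subgroupOf L) R) (hC : fx V L = ⊥)
    (hne : A.subgroupOf L ⊓ Q ≠ ⊥) (faith : ∀ y : Y, (∀ v : V, y • v = v) → y = 1)
    (irr : ∀ W : AddSubgroup V, (∀ y : Y, ∀ w ∈ W, y • w ∈ W) → W ≤ Ee V A → W = ⊥)
    (off : ∀ B : Subgroup Y, (∀ b ∈ B, b * b = 1) → B ≠ ⊥ → Nat.card B * Nat.card ↥(fx V B) < Nat.card V)
    (TM : (T : Subgroup Y) ≤ M) (Mne : M ≠ ⊤) (max : ∀ K : Subgroup Y, (T : Subgroup Y) ≤ K → K ≠ ⊤ → K ≤ M) :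
    ∃ (T' : Sylow 2 Y) (z : V) (t : Y), Out T' M L (A.subgroupOf L) Q (M.subgroupOf L) R (Ee V A) (fx V A) z t := by
  obtain ⟨z, hz⟩ := hyp0_of hLM hRT h0 hC hne faith irr off TM Mne max
  obtain ⟨T', z', h⟩ := hz.exists_hyp
  obtain ⟨t, k⟩ := h.exists_t
  exact ⟨T', z', t, h.out k⟩

end Cfsg.Agent.Omega.NO1.B0

end

section


/-!
# THEOREM B0 (bb OMEGA 18835, helper970), (8): coordinates (shortcut, helper321)

`ê : V → 𝕂²` extends the coordinates on `X`; `Q` acts through `𝕂`-scalars `V/X ≅ X`, `Q^t` through `𝕂`-scalars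
`V/X' ≅ X'`; the two `𝕂`-structures agree on `F` (after a field automorphism).
-/

set_option autoImplicit false
set_option linter.unusedSectionVars false
set_option linter.style.haveILetI false

namespace Cfsg.Agent.Omega.NO1.B0

open Subgroup Cfsg.Agent.Omega.NO1.AB
open scoped Pointwise

universe u

/-- Schur: an additive map commuting with `SL₂(k)` is a scalar -/
theorem schur {k : Type*} [Field k] (f : (Fin 2 → k) →+ (Fin 2 → k))
    (hf : ∀ (s : Matrix.SpecialLinearGroup (Fin 2) k) v, f (s.1.mulVec v) = s.1.mulVec (f v)) :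
    ∃ c : k, ∀ v, f v = c • v := by
  -- `f (1,0) = (c,0)`
  have h1 : f ![1, 0] 1 = 0 := by
    have h2 := hf ⟨!![1, 1; 0, 1], by simp⟩ ![1, 0]
    have h3 : (!![1, 1; 0, 1] : Matrix (Fin 2) (Fin 2) k).mulVec ![1, 0] = ![1, 0] := by
      ext i; fin_cases i <;> simp [Matrix.mulVec, dotProduct, Fin.sum_univ_two]
    change f ((!![1, 1; 0, 1] : Matrix (Fin 2) (Fin 2) k).mulVec ![1, 0]) = _ at h2
    rw [h3] at h2
    have h4 := congrFun h2 0
    simp [Matrix.mulVec, dotProduct, Fin.sum_univ_two] at h4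
    exact h4
  set c := f ![1, 0] 0 with hc
  have h2 : f ![1, 0] = ![c, 0] := by
    ext i; fin_cases i
    · rfl
    · exact h1
  have h3 : ∀ x, f ![x, 0] = ![c * x, 0] := by
    intro x
    by_cases hx : x = 0
    · have : (![x, 0] : Fin 2 → k) = 0 := by
        ext i; fin_cases i <;> simp [hx]
      rw [this, map_zero, hx, mul_zero]
      ext i; fin_cases i <;> rfl
    · have h4 := hf ⟨!![x, 0; 0, x⁻¹], by rw [Matrix.det_fin_two_of]; field_simp; ring⟩ ![1, 0]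
      have h5 : (!![x, 0; 0, x⁻¹] : Matrix (Fin 2) (Fin 2) k).mulVec ![1, 0] = ![x, 0] := by
        ext i; fin_cases i <;> simp [Matrix.mulVec, dotProduct, Fin.sum_univ_two]
      have h6 : (!![x, 0; 0, x⁻¹] : Matrix (Fin 2) (Fin 2) k).mulVec ![c, 0] = ![c * x, 0] := by
        ext i; fin_cases i <;> simp [Matrix.mulVec, dotProduct, Fin.sum_univ_two, mul_comm]
      change f ((!![x, 0; 0, x⁻¹] : Matrix (Fin 2) (Fin 2) k).mulVec ![1, 0]) =
        (!![x, 0; 0, x⁻¹] : Matrix (Fin 2) (Fin 2) k).mulVec (f ![1, 0]) at h4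
      rw [h5, h2, h6] at h4
      exact h4
  have h7 : ∀ y, f ![0, y] = ![0, c * y] := by
    intro y
    have h4 := hf ⟨!![0, -1; 1, 0], by rw [Matrix.det_fin_two_of]; ring⟩ ![y, 0]
    have h5 : (!![0, -1; 1, 0] : Matrix (Fin 2) (Fin 2) k).mulVec ![y, 0] = ![0, y] := by
      ext i; fin_cases i <;> simp [Matrix.mulVec, dotProduct, Fin.sum_univ_two]
    have h6 : (!![0, -1; 1, 0] : Matrix (Fin 2) (Fin 2) k).mulVec ![c * y, 0] = ![0, c * y] := by
      ext i; fin_cases i <;> simp [Matrix.mulVec, dotProduct, Fin.sum_univ_two]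
    change f ((!![0, -1; 1, 0] : Matrix (Fin 2) (Fin 2) k).mulVec ![y, 0]) =
      (!![0, -1; 1, 0] : Matrix (Fin 2) (Fin 2) k).mulVec (f ![y, 0]) at h4
    rw [h5, h3, h6] at h4
    exact h4
  refine ⟨c, fun v => ?_⟩
  have h8 : v = ![v 0, 0] + ![0, v 1] := by
    ext i; fin_cases i <;> simp
  rw [h8, map_add, h3, h7, smul_add]
  ext i; fin_cases i <;> simp

variable {Y : Type u} [Group Y] {V : Type u} [AddCommGroup V] [DistribMulAction Y V]

/-- an additive map extends -/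
theorem exists_ext (h2 : ∀ v : V, v + v = 0) {X : AddSubgroup V} {W : Type*} [AddCommGroup W]
    (hW : ∀ w : W, w + w = 0) (e : X →+ W) : ∃ f : V →+ W, ∀ x : X, f x = e x := by
  letI : Module (ZMod 2) V := AddCommGroup.zmodModule (n := 2) fun v => by rw [two_nsmul]; exact h2 v
  letI : Module (ZMod 2) W := AddCommGroup.zmodModule (n := 2) fun v => by rw [two_nsmul]; exact hW v
  let X' : Submodule (ZMod 2) V := AddSubgroup.toZModSubmodule 2 X
  let e' : X' →ₗ[ZMod 2] W := AddMonoidHom.toZModLinearMap 2 (e : X' →+ W)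
  obtain ⟨g, hg⟩ := LinearMap.exists_extend e'
  refine ⟨g.toAddMonoidHom, fun x => ?_⟩
  exact congrArg (fun f : X' →ₗ[ZMod 2] W => f x) hg

/-- the coordinates on `X`, extended to `V` -/
structure Crd {L : Subgroup Y} (Q : Subgroup L) (F : AddSubgroup V) (K : Subgroup L) (k : Type) [Field k]
    (g : V →+ (Fin 2 → k)) : Prop where
  inj : ∀ x ∈ fx V Q, g x = 0 → x = 0
  surj : ∀ w, ∃ x ∈ fx V Q, g x = w
  memF : ∀ x ∈ fx V Q, (x ∈ F ↔ g x 1 = 0)
  act : ∀ l : L, ∃ s : Matrix.SpecialLinearGroup (Fin 2) k, ∀ x ∈ fx V Q, g (l • x) = s.1.mulVec (g x)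
  act' : ∀ s : Matrix.SpecialLinearGroup (Fin 2) k, ∃ l ∈ K, ∀ x ∈ fx V Q, g (l • x) = s.1.mulVec (g x)

namespace Out

variable {T : Sylow 2 Y} {M L : Subgroup Y} {A Q L₁ : Subgroup L} {R : Sylow 2 L} {E F : AddSubgroup V}
  {z : V} {t : Y} (o : Out T M L A Q L₁ R E F z t)
include o

theorem two (v : V) : v + v = 0 := o.hyp.two v

theorem exists_crd [Finite Y] [Finite V] {K : Subgroup L} {k : Type} [Field k] [CharP k 2]
    {e : ↥(fx V Q) ≃+ (Fin 2 → k)} {φ : K ≃* Matrix.SpecialLinearGroup (Fin 2) k} (ok : OutK o K k e φ) :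
    ∃ g : V →+ (Fin 2 → k), Crd Q F K k g ∧ ∀ x : ↥(fx V Q), g x = e x := by
  obtain ⟨g, hg⟩ := exists_ext o.two (fun w => by
    ext i
    exact CharTwo.add_self_eq_zero _) e.toAddMonoidHom
  have hg' : ∀ x : ↥(fx V Q), g x = e x := hg
  have hK : ∀ (κ : K) (x : V), x ∈ fx V Q → g ((κ : L) • x) = (φ κ).1.mulVec (g x) := by
    intro κ x hx
    have h1 := ok.act κ ⟨x, hx⟩ ⟨(κ : L) • x, o.hyp.Xmem hx⟩ rfl
    rw [← hg', ← hg'] at h1
    exact h1
  refine ⟨g, ?_, hg'⟩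
  exact
    { inj := by
        intro x hx h1
        have h2 := hg' ⟨x, hx⟩
        change g x = _ at h2
        rw [h1, eq_comm, map_eq_zero_iff e e.injective] at h2
        exact congrArg Subtype.val h2
      surj := by
        intro w
        refine ⟨e.symm w, (e.symm w).2, ?_⟩
        rw [hg', e.apply_symm_apply]
      memF := by
        intro x hx
        rw [show g x = e ⟨x, hx⟩ from hg' ⟨x, hx⟩]
        exact ok.memF ⟨x, hx⟩
      act := by
        intro l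
        haveI := o.hyp.loc.Qn
        have h1 : l ∈ K ⊔ Q := by rw [ok.sup]; exact mem_top l
        obtain ⟨κ, hκ, q, hq, rfl⟩ := mem_sup_of_normal_right.1 h1
        refine ⟨φ ⟨κ, hκ⟩, fun x hx => ?_⟩
        rw [mul_smul, hx q hq]
        exact hK ⟨κ, hκ⟩ x hx
      act' := by
        intro s
        refine ⟨(φ.symm s : K), (φ.symm s).2, fun x hx => ?_⟩
        rw [hK _ x hx, φ.apply_symm_apply] }

theorem act_eq_one {y : Y} (hy : ∀ v : V, y • v + v = 0) : y = 1 :=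
  o.hyp.faith y fun v => o.hyp.eq_of_add (hy v)

/-- `Q` acts by `𝕂`-scalars `V/X ≅ X` -/
theorem exists_c [Finite Y] [Finite V] {K : Subgroup L} {k : Type} [Field k] [Finite k]
    {g : V →+ (Fin 2 → k)} (hg : Crd Q F K k g) (hcard : Nat.card k = E.index) {q₀ : L} (hq₀ : q₀ ∈ Q)
    (hq₀1 : q₀ ≠ 1) :
    ∃ c : L → k, (∀ q ∈ Q, ∀ v : V, g (q • v + v) = c q • g (q₀ • v + v)) ∧
      (∀ d : k, ∃ q ∈ Q, c q = d) ∧ (∀ q ∈ Q, q ≠ 1 → c q ≠ 0) := by
  classical
  let N : V →+ (Fin 2 → k) := g.comp (HE.dl (V := V) q₀)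
  have hNs : Function.Surjective N := by
    intro w
    obtain ⟨x, hx, hxw⟩ := hg.surj w
    obtain ⟨v, hv⟩ := o.Qsurj q₀ hq₀ hq₀1 x hx
    refine ⟨v, ?_⟩
    change g (q₀ • v + v) = w
    rw [hv, hxw]
  have hNk : ∀ v, N v = 0 → v ∈ fx V Q := by
    intro v hv
    apply o.Qfix q₀ hq₀ hq₀1
    exact o.hyp.eq_of_add (hg.inj _ (o.QV q₀ hq₀ v) hv)
  have key : ∀ q ∈ Q, ∃ c : k, ∀ v : V, g (q • v + v) = c • g (q₀ • v + v) := by
    intro q hq
    let Mq : V →+ (Fin 2 → k) := g.comp (HE.dl (V := V) q)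
    have hker : N.ker ≤ Mq.ker := by
      intro v hv
      have h1 := hNk v hv
      change g (q • v + v) = 0
      rw [h1 q hq, o.two, map_zero]
    let f : (Fin 2 → k) →+ (Fin 2 → k) :=
      N.liftOfRightInverse (Function.surjInv hNs) (Function.rightInverse_surjInv hNs) ⟨Mq, hker⟩
    have hf : ∀ v, f (N v) = Mq v := fun v => AddMonoidHom.liftOfRightInverse_comp_apply _ _ _ _ v
    obtain ⟨c, hc⟩ := schur f (by
      intro s w
      obtain ⟨v, rfl⟩ := hNs w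
      obtain ⟨l, -, hl⟩ := hg.act' s
      have h1 : ∀ q ∈ Q, g (q • (l • v) + l • v) = s.1.mulVec (g (q • v + v)) := by
        intro q hq
        rw [← hl _ (o.QV q hq v), smul_add, ← mul_smul, ← mul_smul, o.Qz q hq l]
      have h2 : s.1.mulVec (N v) = N (l • v) := (h1 q₀ hq₀).symm
      rw [h2, hf, hf]
      exact h1 q hq)
    refine ⟨c, fun v => ?_⟩
    have := hc (N v)
    rw [hf] at this
    exact this
  choose! c hc using key
  have hcn : ∀ q ∈ Q, q ≠ 1 → c q ≠ 0 := by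
    intro q hq hq1 h0
    apply hq1
    have h1 : (q : Y) = 1 := by
      apply o.act_eq_one
      intro v
      have h2 := hc q hq v
      rw [h0, zero_smul] at h2
      exact hg.inj _ (o.QV q hq v) h2
    exact Subtype.ext h1
  refine ⟨c, hc, ?_, hcn⟩
  -- bijection
  let f : Q → k := fun q => c q
  have hN0 : ∃ v : V, g (q₀ • v + v) ≠ 0 := by
    obtain ⟨v, hv⟩ := hNs ![1, 0]
    refine ⟨v, fun h1 => ?_⟩
    have h2 : (![1, 0] : Fin 2 → k) = 0 := hv.symm.trans h1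
    have := congrFun h2 0
    simp at this
  have hf : Function.Injective f := by
    intro q q' hqq
    by_contra hne
    have h1 : (q : L)⁻¹ * q' ∈ Q := mul_mem (inv_mem q.2) q'.2
    have h2 : (q : L)⁻¹ * q' ≠ 1 := by
      rw [Ne, inv_mul_eq_one]
      exact fun h3 => hne (Subtype.ext h3)
    apply h2
    have h3 : (((q : L)⁻¹ * q' : L) : Y) = 1 := by
      apply o.hyp.faith
      intro v
      have h4 := hc q q.2 v
      have h5 := hc q' q'.2 v
      change c q = c q' at hqq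
      rw [hqq, ← h5] at h4
      have h6 : (q : L) • v + v = (q' : L) • v + v := by
        have h7 : g ((q : L) • v + v + ((q' : L) • v + v)) = 0 := by
          rw [map_add, h4, ← map_add, o.two, map_zero]
        exact o.hyp.eq_of_add (hg.inj _ ((fx V Q).add_mem (o.QV _ q.2 v) (o.QV _ q'.2 v)) h7)
      have h7 : (q : L) • v = (q' : L) • v := add_right_cancel h6
      change ((q : L)⁻¹ * q') • v = v
      rw [mul_smul, ← h7, inv_smul_smul]
    exact Subtype.ext h3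
  have hs := ((Nat.bijective_iff_injective_and_card f).2 ⟨hf, by rw [o.cQ, hcard]⟩).2
  intro d
  obtain ⟨q, hq⟩ := hs d
  exact ⟨q, q.2, hq⟩

/-- `A` acts on `X` by transvections -/
theorem exists_κ [Finite Y] [Finite V] {K : Subgroup L} {k : Type} [Field k] [CharP k 2]
    {g : V →+ (Fin 2 → k)} (hg : Crd Q F K k g) :
    ∃ κ : L → k, ∀ b ∈ A, ∀ x ∈ fx V Q, g (b • x + x) = ![κ b * g x 1, 0] := by
  have key : ∀ b ∈ A, ∃ κ : k, ∀ x ∈ fx V Q, g (b • x + x) = ![κ * g x 1, 0] := by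
    intro b hb
    obtain ⟨s, hs⟩ := hg.act b
    obtain ⟨f, hf, hf1⟩ := hg.surj ![1, 0]
    have hfF : f ∈ F := (hg.memF f hf).2 (by rw [hf1]; rfl)
    have h1 := hs f hf
    rw [o.hyp.loc.mem.FB b hb f hfF, hf1] at h1
    have h2 := congrFun h1 0
    have h3 := congrFun h1 1
    simp [Matrix.mulVec, dotProduct, Fin.sum_univ_two] at h2 h3
    have h4 := s.2
    rw [Matrix.det_fin_two, ← h2, ← h3, one_mul, mul_zero, sub_zero] at h4
    refine ⟨s.1 0 1, fun x hx => ?_⟩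
    rw [map_add, hs x hx]
    ext i
    fin_cases i
    · simp [← h2]
      have h5 : g x 0 + g x 0 = 0 := CharTwo.add_self_eq_zero _
      have : g x 0 + s.1 0 1 * g x 1 + g x 0 = (g x 0 + g x 0) + s.1 0 1 * g x 1 := by ring
      rw [this, h5, zero_add]
    · simp [← h3, h4]
      exact CharTwo.add_self_eq_zero _
  choose! κ hκ using key
  exact ⟨κ, hκ⟩

end Out

/-- the abstract computation: `ρ` is semilinear -/
theorem rho_mul {k : Type*} [Field k] {ι W : Type*} (ρ : k → k) (c κ κ' : ι → k)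
    (ν ν' : W → k) (hc : ∀ d, ∃ i, c i = d) (hκ : ∃ i, κ i = 1) (hν : ∀ d, ∃ w, ν w = d)
    (h : ∀ i j w, ρ (κ j * c i * ν w) = κ' i * c j * ν' w) (x y : k) : ρ (x * y) * ρ 1 = ρ x * ρ y := by
  obtain ⟨j, hj⟩ := hκ
  obtain ⟨i, hi⟩ := hc x
  obtain ⟨i₁, hi₁⟩ := hc 1
  obtain ⟨w, hw⟩ := hν y
  obtain ⟨w₁, hw₁⟩ := hν 1
  have h1 := h i j w
  have h2 := h i₁ j w₁
  have h3 := h i j w₁
  have h4 := h i₁ j w
  rw [hj, hi, hw, one_mul] at h1
  rw [hj, hi₁, hw₁, one_mul, mul_one] at h2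
  rw [hj, hi, hw₁, one_mul, mul_one] at h3
  rw [hj, hi₁, hw, one_mul, one_mul] at h4
  rw [h1, h2, h3, h4]
  ring

/-- the coordinates: `S = Q`, `S' = t Q t⁻¹` -/
structure Cd {L : Subgroup Y} (Q : Subgroup L) (E F : AddSubgroup V) (t : Y) (k : Type) [Field k]
    (g g' N N' : V →+ (Fin 2 → k)) (c c' : Y → k) (κ : k) : Prop where
  injX : ∀ x ∈ fx V Q, g x = 0 → x = 0
  injX' : ∀ x ∈ t • (fx V Q : AddSubgroup V), g' x = 0 → x = 0
  surjX : ∀ w, ∃ x ∈ fx V Q, g x = w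
  memF : ∀ x ∈ fx V Q, (x ∈ F ↔ g x 1 = 0)
  memF' : ∀ x ∈ t • (fx V Q : AddSubgroup V), (x ∈ F ↔ g' x 1 = 0)
  gF : ∀ f ∈ F, g' f = g f
  memE : ∀ v, v ∈ E ↔ N v 1 = 0
  surjN : ∀ w, ∃ v, N v = w
  cN : ∀ q ∈ Q, ∀ v : V, g ((q : Y) • v + v) = c q • N v
  cN' : ∀ q ∈ Q, ∀ v : V, g' ((t * (q : Y) * t⁻¹) • v + v) = c' (t * (q : Y) * t⁻¹) • N' v
  c_surj : ∀ d : k, ∃ q ∈ Q, c (q : Y) = d
  c'_surj : ∀ d : k, ∃ q ∈ Q, c' (t * (q : Y) * t⁻¹) = d
  c_ne : ∀ q ∈ Q, (q : Y) ≠ 1 → c (q : Y) ≠ 0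
  c'_ne : ∀ q ∈ Q, (q : Y) ≠ 1 → c' (t * (q : Y) * t⁻¹) ≠ 0
  κ_ne : κ ≠ 0
  κX : ∀ q ∈ Q, ∀ x ∈ fx V Q, g ((t * (q : Y) * t⁻¹) • x + x) = ![κ * c' (t * (q : Y) * t⁻¹) * g x 1, 0]

namespace Out

variable {T : Sylow 2 Y} {M L : Subgroup Y} {A Q L₁ : Subgroup L} {R : Sylow 2 L} {E F : AddSubgroup V}
  {z : V} {t : Y} (o : Out T M L A Q L₁ R E F z t)
include o

/-- `t⁻¹ A t ≤ A` -/
theorem tA_inv [Finite Y] {b : L} (hb : b ∈ A) : ∃ c ∈ A, (c : Y) = t⁻¹ * b * t := by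
  have h1 : ∀ b ∈ A.map L.subtype, t * b * t⁻¹ ∈ A.map L.subtype := by
    rintro _ ⟨b, hb, rfl⟩
    obtain ⟨c, hc, h1⟩ := o.tA b hb
    exact ⟨c, hc, h1⟩
  have h2 : MulAut.conj t • A.map L.subtype = A.map L.subtype := by
    apply conj_eq_self_of_le
    intro y hy
    rw [mem_conj] at hy
    have := h1 _ hy
    have e : t * (t⁻¹ * y * t) * t⁻¹ = y := by group
    rwa [e] at this
  have h3 : (b : Y) ∈ MulAut.conj t • A.map L.subtype := by rw [h2]; exact ⟨b, hb, rfl⟩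
  rw [mem_conj] at h3
  obtain ⟨c, hc, h4⟩ := h3
  exact ⟨c, hc, h4⟩

theorem exists_cd [Finite Y] [Finite V] {K : Subgroup L} {k : Type} [Field k] [Finite k] [CharP k 2]
    {e : ↥(fx V Q) ≃+ (Fin 2 → k)} {φ : K ≃* Matrix.SpecialLinearGroup (Fin 2) k} (ok : OutK o K k e φ) :
    ∃ (g g' N N' : V →+ (Fin 2 → k)) (c c' : Y → k) (κ : k), Cd Q E F t k g g' N N' c c' κ ∧
      (∀ x : ↥(fx V Q), g x = e x) ∧ ∃ q₀ ∈ Q, ∀ v, N v = g (q₀ • v + v) := by
  classical
  have h := o.hyp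
  obtain ⟨g, hg, hge⟩ := o.exists_crd ok
  obtain ⟨q₀, hq₀, hq₀1⟩ := h.exists_q o.tk
  obtain ⟨c, hc, hcs, hcn⟩ := o.exists_c hg ok.card hq₀ hq₀1
  obtain ⟨κ, hκ⟩ := o.exists_κ hg
  set X : AddSubgroup V := fx V Q with hX
  let N : V →+ (Fin 2 → k) := g.comp (HE.dl (V := V) q₀)
  have hN : ∀ v, N v = g (q₀ • v + v) := fun _ => rfl
  have hNs : ∀ w, ∃ v, N v = w := by
    intro w
    obtain ⟨x, hx, hxw⟩ := hg.surj w
    obtain ⟨v, hv⟩ := o.Qsurj q₀ hq₀ hq₀1 x hx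
    exact ⟨v, by rw [hN, hv, hxw]⟩
  have hNE : ∀ v, v ∈ E ↔ N v 1 = 0 := by
    intro v
    rw [hN, ← hg.memF _ (o.QV q₀ hq₀ v)]
    constructor
    · intro hv
      exact h.loc.mem.EB q₀ (o.QA hq₀) v hv
    · intro hv
      by_contra hvE
      exact hq₀1 (h.loc.mem.inj v hvE q₀ (o.QA hq₀) hv)
  -- `t⁻¹ q t ∈ A`
  have htq : ∀ q : Q, ∃ b ∈ A, (b : Y) = t⁻¹ * ((q : L) : Y) * t := fun q => o.tA_inv (o.QA q.2)
  choose tq htqA htq using htq
  have hqt : ∀ q : Q, ∃ b ∈ A, (b : Y) = t * ((q : L) : Y) * t⁻¹ := fun q => o.QtA q q.2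
  choose qt hqtA hqt using hqt
  -- the vector `(α, 0)`
  have hfv : ∀ α : k, ∃ f ∈ F, g f = ![α, 0] := by
    intro α
    obtain ⟨x, hx, hx1⟩ := hg.surj ![α, 0]
    exact ⟨x, (hg.memF x hx).2 (by rw [hx1]; rfl), hx1⟩
  choose fv hfvF hfv using hfv
  have htF : ∀ f ∈ F, t⁻¹ • f ∈ F := by
    intro f hf
    rw [← mem_smul_as, o.tF]
    exact hf
  let ρ : k → k := fun α => g (t⁻¹ • fv α) 0
  have hρ : ∀ f ∈ F, ρ (g f 0) = g (t⁻¹ • f) 0 := by
    intro f hf
    have h1 : fv (g f 0) = f := by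
      have h2 : g (fv (g f 0) + f) = 0 := by
        rw [map_add, hfv]
        ext i
        fin_cases i
        · exact CharTwo.add_self_eq_zero _
        · change 0 + g f 1 = 0
          rw [(hg.memF f (o.FX hf)).1 hf, add_zero]
      exact h.eq_of_add (hg.inj _ ((fx V Q).add_mem (o.FX (hfvF _)) (o.FX hf)) h2)
    change g (t⁻¹ • fv (g f 0)) 0 = _
    rw [h1]
  have hρadd : ∀ α β, ρ (α + β) = ρ α + ρ β := by
    intro α β
    have h1 := hρ (fv α + fv β) (F.add_mem (hfvF α) (hfvF β))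
    have h2 : g (fv α + fv β) 0 = α + β := by
      rw [map_add, hfv, hfv]; rfl
    rw [h2, smul_add, map_add] at h1
    exact h1
  have hρ0 : ∀ α, ρ α = 0 → α = 0 := by
    intro α hα
    have h1 : t⁻¹ • fv α = 0 := by
      apply hg.inj _ (o.FX (htF _ (hfvF α)))
      ext i
      fin_cases i
      · exact hα
      · exact (hg.memF _ (o.FX (htF _ (hfvF α)))).1 (htF _ (hfvF α))
    rw [smul_eq_zero_iff_eq] at h1
    have h2 := hfv α
    rw [h1, map_zero] at h2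
    exact (congrFun h2 0).symm
  -- the key identity
  have hkey : ∀ (i j : Q) (v : V), ρ (κ (qt j) * c i * N v 1) = κ (tq i) * c j * N (t⁻¹ • v) 1 := by
    intro i j v
    -- `f = [[v, q_i], r_j]`
    set y := (i : L) • v + v with hy
    have hyX : y ∈ fx V Q := o.QV i i.2 v
    have hfF : qt j • y + y ∈ F := h.loc.mem.EB _ (hqtA j) y (h.beta.XE hyX)
    have h1 : g (qt j • y + y) 0 = κ (qt j) * c i * N v 1 := by
      rw [hκ _ (hqtA j) y hyX, hc i i.2 v]
      change κ (qt j) * (c i * N v 1) = _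
      ring
    rw [← h1, hρ _ hfF]
    -- the other side
    have hcomm : qt j • y + y = (i : L) • (qt j • v + v) + (qt j • v + v) := by
      rw [hy, smul_add, smul_add, ← mul_smul, ← mul_smul, h.loc.mem.comm _ (hqtA j) _ (o.QA i.2)]
      abel
    have hconj : t⁻¹ • (qt j • y + y) = tq i • ((j : L) • (t⁻¹ • v) + t⁻¹ • v) + ((j : L) • (t⁻¹ • v) + t⁻¹ • v) := by
      have h2 : ∀ w : V, t⁻¹ • (qt j • w) = (j : L) • (t⁻¹ • w) := by
        intro w
        change t⁻¹ • ((qt j : Y) • w) = ((j : L) : Y) • (t⁻¹ • w)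
        rw [hqt j, ← mul_smul, ← mul_smul]
        congr 1
        group
      have h3 : ∀ w : V, t⁻¹ • ((i : L) • w) = tq i • (t⁻¹ • w) := by
        intro w
        change t⁻¹ • (((i : L) : Y) • w) = (tq i : Y) • (t⁻¹ • w)
        rw [htq i, ← mul_smul, ← mul_smul]
        congr 1
        group
      rw [hcomm, smul_add, h3, smul_add t⁻¹ (qt j • v) v, h2]
    have hw := o.QV (j : L) j.2 (t⁻¹ • v)
    rw [hconj, hκ _ (htqA i) _ hw, hc j j.2 (t⁻¹ • v)]
    change κ (tq i) * (c j * N (t⁻¹ • v) 1) = _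
    ring
  -- `κ` is onto on `S'`
  have hκs : ∀ d : k, ∃ j : Q, κ (qt j) = d := by
    let f : Q → k := fun j => κ (qt j)
    have hf : Function.Injective f := by
      intro j j' hjj
      -- `qt j⁻¹ qt j'` is trivial on `X`
      have h1 : ∀ x ∈ fx V Q, qt j • x = qt j' • x := by
        intro x hx
        have h2 : g ((qt j • x + x) + (qt j' • x + x)) = 0 := by
          change κ (qt j) = κ (qt j') at hjj
          rw [map_add, hκ _ (hqtA j) x hx, hκ _ (hqtA j') x hx, hjj]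
          ext i
          fin_cases i
          · exact CharTwo.add_self_eq_zero _
          · exact add_zero _
        have h3 := h.eq_of_add (hg.inj _ ((fx V Q).add_mem ((fx V Q).add_mem (h.Xmem hx) hx)
          ((fx V Q).add_mem (h.Xmem hx) hx)) h2)
        exact add_right_cancel h3
      have h2 : (qt j')⁻¹ * qt j ∈ Q := by
        apply o.CL
        intro x hx
        rw [mul_smul, h1 x hx, inv_smul_smul]
      have h3 : (((qt j')⁻¹ * qt j : L) : Y) = t * (((j' : L)⁻¹ * (j : L) : L) : Y) * t⁻¹ := by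
        rw [coe_mul, coe_inv, hqt, hqt, coe_mul, coe_inv]
        group
      have h4 := o.inf1 _ h2 _ (mul_mem (inv_mem j'.2) j.2) h3
      have h5 : t * (((j' : L)⁻¹ * (j : L) : L) : Y) * t⁻¹ = 1 := by rw [← h3, h4]; rfl
      have h6 : (((j' : L)⁻¹ * (j : L) : L) : Y) = 1 := by
        have h7 : (((j' : L)⁻¹ * (j : L) : L) : Y) = t⁻¹ * (t * (((j' : L)⁻¹ * (j : L) : L) : Y) * t⁻¹) * t := by
          group
        rw [h7, h5]; group
      have h7 : (j' : L)⁻¹ * (j : L) = 1 := Subtype.ext h6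
      rw [inv_mul_eq_one] at h7
      exact Subtype.ext h7.symm
    exact ((Nat.bijective_iff_injective_and_card f).2 ⟨hf, by rw [o.cQ, ok.card]⟩).2
  have hcs' : ∀ d : k, ∃ i : Q, c i = d := by
    intro d
    obtain ⟨q, hq, h1⟩ := hcs d
    exact ⟨⟨q, hq⟩, h1⟩
  have hνs : ∀ d : k, ∃ v : V, N v 1 = d := by
    intro d
    obtain ⟨v, hv⟩ := hNs ![0, d]
    exact ⟨v, by rw [hv]; rfl⟩
  have hmul := rho_mul ρ (fun i : Q => c i) (fun j : Q => κ (qt j)) (fun i : Q => κ (tq i)) (fun v : V => N v 1)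
    (fun v : V => N (t⁻¹ • v) 1) hcs' (hκs 1) hνs hkey
  have hρ1 : ρ 1 ≠ 0 := fun h1 => one_ne_zero (hρ0 1 h1)
  let σ₀ : k →+* k :=
    { toFun := fun x => ρ x / ρ 1
      map_one' := div_self hρ1
      map_mul' := fun x y => by
        have := hmul x y
        field_simp
        rw [mul_comm, ← this]
        ring
      map_zero' := by
        have h1 := hρadd 0 0
        rw [add_zero] at h1
        have h2 : ρ 0 = 0 := by
          have := h1
          rwa [left_eq_add] at this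
        rw [h2, zero_div]
      map_add' := fun x y => by rw [hρadd, add_div] }
  have hσb : Function.Bijective σ₀ := ⟨σ₀.injective, Finite.surjective_of_injective σ₀.injective⟩
  let σ : k ≃+* k := RingEquiv.ofBijective σ₀ hσb
  have hσ : ∀ x, σ x = ρ x / ρ 1 := fun _ => rfl
  -- `g'`
  let τ₀ : (Fin 2 → k) →+ (Fin 2 → k) := AddMonoidHom.mk' (fun w i => σ.symm (w i / ρ 1)) (by
    intro v w
    ext i
    change σ.symm ((v i + w i) / ρ 1) = _
    rw [add_div, map_add]; rfl)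
  have hτ₀ : ∀ w i, τ₀ w i = σ.symm (w i / ρ 1) := fun _ _ => rfl
  have hτ₀inj : ∀ w, τ₀ w = 0 → w = 0 := by
    intro w hw
    ext i
    have h1 := congrFun hw i
    rw [hτ₀] at h1
    have h2 : w i / ρ 1 = 0 := (map_eq_zero_iff σ.symm σ.symm.injective).1 h1
    exact (div_eq_zero_iff.1 h2).resolve_right hρ1
  have hτ₀s : ∀ (d : k) w, τ₀ (d • w) = σ.symm d • τ₀ w := by
    intro d w
    ext i
    change σ.symm (d * w i / ρ 1) = σ.symm d * σ.symm (w i / ρ 1)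
    rw [← map_mul, mul_div_assoc]
  let tm : V →+ V := AddMonoidHom.mk' (fun v => t⁻¹ • v) (smul_add _)
  let g' : V →+ (Fin 2 → k) := (τ₀.comp g).comp tm
  let N' : V →+ (Fin 2 → k) := (τ₀.comp N).comp tm
  have hg' : ∀ v, g' v = τ₀ (g (t⁻¹ • v)) := fun _ => rfl
  have hN' : ∀ v, N' v = τ₀ (N (t⁻¹ • v)) := fun _ => rfl
  let cY : Y → k := fun y => if hy : y ∈ L then c ⟨y, hy⟩ else 0
  have hcY : ∀ q : L, cY q = c q := fun q => dif_pos q.2
  let cY' : Y → k := fun y => σ.symm (cY (t⁻¹ * y * t))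
  have hcY' : ∀ q : L, cY' (t * (q : Y) * t⁻¹) = σ.symm (c q) := by
    intro q
    have e1 : t⁻¹ * (t * (q : Y) * t⁻¹) * t = q := by group
    change σ.symm (cY (t⁻¹ * (t * (q : Y) * t⁻¹) * t)) = _
    rw [e1, hcY]
  have hts : ∀ (q : L) (v : V), t⁻¹ • ((t * (q : Y) * t⁻¹) • v + v) = q • (t⁻¹ • v) + t⁻¹ • v := by
    intro q v
    rw [smul_add]
    congr 1
    change _ = (q : Y) • (t⁻¹ • v)
    rw [← mul_smul, ← mul_smul]
    congr 1
    group
  -- `κ_r = κ₀ c'(r)`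
  obtain ⟨i₁, hi₁⟩ := hcs' 1
  obtain ⟨v₁, hv₁⟩ := hνs 1
  set κ₀ : k := σ.symm (κ (tq i₁) * N (t⁻¹ • v₁) 1 / ρ 1) with hκ₀
  have hκc : ∀ j : Q, κ (qt j) = κ₀ * σ.symm (c j) := by
    intro j
    have h1 := hkey i₁ j v₁
    rw [hi₁, hv₁, mul_one, mul_one] at h1
    have h2 : σ (κ (qt j)) = κ (tq i₁) * N (t⁻¹ • v₁) 1 / ρ 1 * c j := by
      rw [hσ, h1]; ring
    rw [← σ.symm_apply_apply (κ (qt j)), h2, map_mul]
  refine ⟨g, g', N, N', cY, cY', κ₀, ?_, hge, q₀, hq₀, hN⟩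
  exact
    { injX := hg.inj
      injX' := by
        intro x hx h1
        rw [hg'] at h1
        have h2 := hg.inj _ (mem_smul_as.1 hx) (hτ₀inj _ h1)
        rwa [smul_eq_zero_iff_eq] at h2
      surjX := hg.surj
      memF := hg.memF
      memF' := by
        intro x hx
        have h1 : x ∈ F ↔ t⁻¹ • x ∈ F := by
          rw [← mem_smul_as (g := t) (W := F), o.tF]
        rw [h1, hg.memF _ (mem_smul_as.1 hx), hg', hτ₀, map_eq_zero_iff σ.symm σ.symm.injective, div_eq_zero_iff]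
        exact ⟨Or.inl, fun h2 => h2.resolve_right hρ1⟩
      gF := by
        intro f hf
        ext i
        rw [hg', hτ₀]
        fin_cases i
        · change σ.symm (g (t⁻¹ • f) 0 / ρ 1) = g f 0
          rw [← hρ f hf, ← hσ, σ.symm_apply_apply]
        · change σ.symm (g (t⁻¹ • f) 1 / ρ 1) = g f 1
          rw [(hg.memF _ (o.FX (htF f hf))).1 (htF f hf), (hg.memF _ (o.FX hf)).1 hf, zero_div, map_zero]
      memE := hNE
      surjN := hNs
      cN := by
        intro q hq v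
        rw [hcY]
        exact hc q hq v
      cN' := by
        intro q hq v
        rw [hcY', hg', hts, hc q hq, hτ₀s, hN']
        rfl
      c_surj := by
        intro d
        obtain ⟨q, hq, h1⟩ := hcs d
        exact ⟨q, hq, by rw [hcY, h1]⟩
      c'_surj := by
        intro d
        obtain ⟨q, hq, h1⟩ := hcs (σ d)
        exact ⟨q, hq, by rw [hcY', h1, σ.symm_apply_apply]⟩
      c_ne := by
        intro q hq hq1
        rw [hcY]
        exact hcn q hq fun h1 => hq1 (by rw [h1]; rfl)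
      c'_ne := by
        intro q hq hq1
        rw [hcY', Ne, map_eq_zero_iff σ.symm σ.symm.injective]
        exact hcn q hq fun h1 => hq1 (by rw [h1]; rfl)
      κ_ne := by
        intro h1
        obtain ⟨j, hj⟩ := hκs 1
        rw [hκc, h1, zero_mul] at hj
        exact one_ne_zero hj.symm
      κX := by
        intro q hq x hx
        rw [hcY', ← hκc ⟨q, hq⟩, ← hκ _ (hqtA ⟨q, hq⟩) x hx, ← hqt ⟨q, hq⟩]
        rfl }

end Out

end Cfsg.Agent.Omega.NO1.B0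

end

section


/-!
# THEOREM B0 (bb OMEGA 18835, helper970), (8) (shortcut, helper321)

`Sp P` : `P ≤ A` totally isotropic, `|P| ≥ a`, with `v, v₁, v + v₁ ∉ E`, `[v, P] ≤ [v₁, P]`.  `Sp P ⟹ P = S` or `P = S^t`.
So `N_Y(A)` permutes `{S, S^t}`.
-/

set_option autoImplicit false
set_option linter.unusedSectionVars false
set_option linter.style.haveILetI false

namespace Cfsg.Agent.Omega.NO1.B0

open Subgroup Cfsg.Agent.Omega.NO1.AB
open scoped Pointwise

universe u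

variable {Y : Type u} [Group Y] {V : Type u} [AddCommGroup V] [DistribMulAction Y V]

/-- special points -/
structure Sp {L : Subgroup Y} (A : Subgroup L) (E : AddSubgroup V) (P : Subgroup Y) : Prop where
  le : P ≤ A.map L.subtype
  iso : ∀ p ∈ P, ∀ p' ∈ P, ∀ v : V, p' • (p • v + v) = p • v + v
  card : E.index ≤ Nat.card P
  sp : ∃ v v₁ : V, v ∉ E ∧ v₁ ∉ E ∧ v + v₁ ∉ E ∧ ∀ p ∈ P, ∃ p₁ ∈ P, p • v + v = p₁ • v₁ + v₁

theorem card_conj [Finite Y] (g : Y) (P : Subgroup Y) : Nat.card (MulAut.conj g • P : Subgroup Y) = Nat.card P :=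
  (Nat.card_congr (Subgroup.equivSMul (MulAut.conj g) P).toEquiv).symm

theorem conj_inv_conj (g : Y) (P : Subgroup Y) : MulAut.conj g⁻¹ • (MulAut.conj g • P) = P := by
  rw [← mul_smul, ← map_mul, inv_mul_cancel, map_one, one_smul]

theorem conj_conj_inv (g : Y) (P : Subgroup Y) : MulAut.conj g • (MulAut.conj g⁻¹ • P) = P := by
  rw [← mul_smul, ← map_mul, mul_inv_cancel, map_one, one_smul]

namespace Out

variable {T : Sylow 2 Y} {M L : Subgroup Y} {A Q L₁ : Subgroup L} {R : Sylow 2 L} {E F : AddSubgroup V}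
  {z : V} {t : Y} (o : Out T M L A Q L₁ R E F z t)
include o

theorem eq_of_add {v w : V} (h : v + w = 0) : v = w := o.hyp.eq_of_add h

/-- elements of `A` -/
theorem mem_A {p : Y} (hp : p ∈ A.map L.subtype) :
    ∃ q ∈ Q, ∃ q' ∈ Q, p = q * (t * q' * t⁻¹) := by
  obtain ⟨b, hb, rfl⟩ := hp
  exact o.prod b hb

theorem exists_ne_E : ∃ v : V, v ∉ E := o.hyp.loc.mem.ne

/-- `[v, q] ∉ F` -/
theorem comm_not_F {q : L} (hq : q ∈ Q) (hq1 : q ≠ 1) {v : V} (hv : v ∉ E) :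
    q • v + v ∉ F := fun h1 => hq1 (o.hyp.loc.mem.inj v hv q (o.QA hq) h1)

theorem tAY [Finite Y] : MulAut.conj t • A.map L.subtype = A.map L.subtype := by
  apply conj_eq_self_of_le
  intro y hy
  rw [mem_conj] at hy
  obtain ⟨b, hb, h1⟩ := hy
  obtain ⟨c, hc, h2⟩ := o.tA b hb
  refine ⟨c, hc, ?_⟩
  change (c : Y) = y
  have h3 : (b : Y) = t⁻¹ * y * t := h1
  rw [h2, h3]
  group

/-- a totally isotropic subgroup meeting `S` is in `S` -/
theorem le_S {P : Subgroup Y} (hP : P ≤ A.map L.subtype)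
    (iso : ∀ p ∈ P, ∀ p' ∈ P, ∀ v : V, p' • (p • v + v) = p • v + v) {q : L} (hq : q ∈ Q) (hq1 : q ≠ 1)
    (hqP : (q : Y) ∈ P) : P ≤ Q.map L.subtype := by
  intro p hp
  obtain ⟨b, hb, rfl⟩ := hP hp
  obtain ⟨v, hv⟩ := o.exists_ne_E
  refine ⟨b, ?_, rfl⟩
  apply o.hyp.beta.cen (q • v + v) (o.QV q hq v) (o.comm_not_F hq hq1 hv) b hb
  exact iso _ hqP _ hp v

omit o in
theorem iso_conj {P : Subgroup Y} (g : Y) (iso : ∀ p ∈ P, ∀ p' ∈ P, ∀ v : V, p' • (p • v + v) = p • v + v) :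
    ∀ p ∈ MulAut.conj g • P, ∀ p' ∈ MulAut.conj g • P, ∀ v : V, p' • (p • v + v) = p • v + v := by
  intro p hp p' hp' v
  rw [mem_conj] at hp hp'
  have h1 := iso _ hp _ hp' (g⁻¹ • v)
  have e1 : (g⁻¹ * p * g) • (g⁻¹ • v) + g⁻¹ • v = g⁻¹ • (p • v + v) := by
    rw [smul_add, ← mul_smul, ← mul_smul]
    congr 2
    group
  have e2 : ∀ w : V, (g⁻¹ * p' * g) • (g⁻¹ • w) = g⁻¹ • (p' • w) := by
    intro w
    rw [← mul_smul, ← mul_smul]
    congr 1
    group
  rw [e1, e2] at h1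
  exact smul_left_cancel _ h1

/-- a totally isotropic subgroup meeting `S^t` is in `S^t` -/
theorem le_S' [Finite Y] {P : Subgroup Y} (hP : P ≤ A.map L.subtype)
    (iso : ∀ p ∈ P, ∀ p' ∈ P, ∀ v : V, p' • (p • v + v) = p • v + v) {q : L} (hq : q ∈ Q) (hq1 : q ≠ 1)
    (hqP : t * (q : Y) * t⁻¹ ∈ P) : P ≤ MulAut.conj t • Q.map L.subtype := by
  have h1 : MulAut.conj t⁻¹ • P ≤ A.map L.subtype := by
    rw [conj_le_iff, inv_inv, o.tAY]
    exact hP
  have h2 := o.le_S h1 (iso_conj t⁻¹ iso) hq hq1 (by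
    rw [mem_conj, inv_inv]
    exact hqP)
  rw [conj_le_iff, inv_inv] at h2
  exact h2

theorem smul_F {g : Y} (hg : MulAut.conj g • A.map L.subtype = A.map L.subtype) (v : V) : g • v ∈ F ↔ v ∈ F := by
  have key : ∀ g : Y, MulAut.conj g • A.map L.subtype = A.map L.subtype → ∀ v ∈ F, g • v ∈ F := by
    intro g hg v hv
    apply o.hyp.loc.mem.CB
    intro b hb
    have h1 : (b : Y) ∈ MulAut.conj g • A.map L.subtype := by rw [hg]; exact ⟨b, hb, rfl⟩
    rw [mem_conj] at h1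
    obtain ⟨c, hc, h2⟩ := h1
    have h3 := o.hyp.loc.mem.FB c hc v hv
    change (c : Y) • v = v at h3
    have h4 : (c : Y) = g⁻¹ * b * g := h2
    rw [h4, mul_smul, mul_smul, inv_smul_eq_iff] at h3
    exact h3
  refine ⟨fun hv => ?_, key g hg v⟩
  have h1 := key g⁻¹ (by rw [← hg, conj_inv_conj]; exact hg.symm) _ hv
  rwa [inv_smul_smul] at h1

theorem memE_iff {v : V} : v ∈ E ↔ ∀ b ∈ A, b • v + v ∈ F := by
  constructor
  · exact fun hv b hb => o.hyp.loc.mem.EB b hb v hv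
  · intro hv
    by_contra hvE
    apply o.hyp.beta.ne
    rw [eq_bot_iff]
    intro b hb
    rw [mem_bot]
    exact o.hyp.loc.mem.inj v hvE b hb.1 (hv b hb.1)

theorem smul_E {g : Y} (hg : MulAut.conj g • A.map L.subtype = A.map L.subtype) (v : V) : g • v ∈ E ↔ v ∈ E := by
  have key : ∀ g : Y, MulAut.conj g • A.map L.subtype = A.map L.subtype → ∀ v ∈ E, g • v ∈ E := by
    intro g hg v hv
    rw [o.memE_iff]
    intro b hb
    have h1 : (b : Y) ∈ MulAut.conj g • A.map L.subtype := by rw [hg]; exact ⟨b, hb, rfl⟩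
    rw [mem_conj] at h1
    obtain ⟨c, hc, h2⟩ := h1
    have h3 := o.hyp.loc.mem.EB c hc v hv
    rw [← o.smul_F hg] at h3
    have h4 : (c : Y) = g⁻¹ * b * g := h2
    have h5 : g • (c • v + v) = b • (g • v) + g • v := by
      rw [smul_add]
      congr 1
      change g • ((c : Y) • v) = (b : Y) • (g • v)
      rw [h4, ← mul_smul, ← mul_smul]
      congr 1
      group
    rwa [h5] at h3
  refine ⟨fun hv => ?_, key g hg v⟩
  have h1 := key g⁻¹ (by rw [← hg, conj_inv_conj]; exact hg.symm) _ hv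
  rwa [inv_smul_smul] at h1

theorem Sp_conj [Finite Y] {P : Subgroup Y} (h : Sp A E P) {g : Y}
    (hg : MulAut.conj g • A.map L.subtype = A.map L.subtype) : Sp A E (MulAut.conj g • P) where
  le := by
    rw [← hg]
    exact conj_le_conj g h.le
  iso := iso_conj g h.iso
  card := by rw [card_conj]; exact h.card
  sp := by
    obtain ⟨v, v₁, h1, h2, h3, h4⟩ := h.sp
    refine ⟨g • v, g • v₁, fun h5 => h1 ((o.smul_E hg _).1 h5), fun h5 => h2 ((o.smul_E hg _).1 h5), fun h5 => ?_, ?_⟩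
    · rw [← smul_add] at h5
      exact h3 ((o.smul_E hg _).1 h5)
    · intro p hp
      rw [mem_conj] at hp
      obtain ⟨p₁, hp₁, h5⟩ := h4 _ hp
      refine ⟨_, conj_mem_conj hp₁, ?_⟩
      have e : ∀ (p : Y) (w : V), (g * p * g⁻¹) • (g • w) + g • w = g • (p • w + w) := by
        intro p w
        rw [smul_add]
        congr 1
        rw [← mul_smul, ← mul_smul]
        congr 1
        group
      have e2 : p = g * (g⁻¹ * p * g) * g⁻¹ := by group
      rw [e, ← h5, ← e, ← e2]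

section cd

variable {k : Type} [Field k] [Finite k] [CharP k 2] {g g' N N' : V →+ (Fin 2 → k)} {c c' : Y → k} {κ : k}
  (cd : Cd Q E F t k g g' N N' c c' κ)
include cd

theorem rX' {q : L} (hq : q ∈ Q) {x : V} (hx : x ∈ t • (fx V Q : AddSubgroup V)) : (t * (q : Y) * t⁻¹) • x = x := by
  rw [mem_smul_as] at hx
  rw [mul_smul, mul_smul]
  have := hx q hq
  change (q : Y) • (t⁻¹ • x) = _ at this
  rw [this, smul_inv_smul]

theorem rVX' {q : L} (hq : q ∈ Q) (v : V) : (t * (q : Y) * t⁻¹) • v + v ∈ t • (fx V Q : AddSubgroup V) := by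
  rw [mem_smul_as, smul_add, mul_smul, mul_smul, inv_smul_smul]
  exact o.QV q hq _

theorem rX_mem {q : L} (hq : q ∈ Q) {x : V} (hx : x ∈ fx V Q) : (t * (q : Y) * t⁻¹) • x + x ∈ F := by
  obtain ⟨b, hb, h1⟩ := o.QtA q hq
  rw [← h1]
  exact o.hyp.loc.mem.EB b hb x (o.hyp.beta.XE hx)

theorem rcomm {q q' : L} (hq : q ∈ Q) (hq' : q' ∈ Q) : (q : Y) * (t * (q' : Y) * t⁻¹) = t * (q' : Y) * t⁻¹ * q := by
  obtain ⟨b, hb, h1⟩ := o.QtA q' hq'
  rw [← h1]
  exact congrArg Subtype.val (o.hyp.loc.mem.comm q (o.QA hq) b hb)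

theorem expand {q q' : L} (hq : q ∈ Q) (hq' : q' ∈ Q) (v : V) :
    ((q : Y) * (t * (q' : Y) * t⁻¹)) • v + v = ((q : Y) • v + v) + ((t * (q' : Y) * t⁻¹) • v + v) +
      ((t * (q' : Y) * t⁻¹) • ((q : Y) • v + v) + ((q : Y) • v + v)) := by
  set r := t * (q' : Y) * t⁻¹ with hr
  rw [o.rcomm cd hq hq', mul_smul, smul_add]
  have h1 := o.two (r • v)
  have h2 := o.two ((q : Y) • v)
  have h3 := o.two v
  have : (q : Y) • v + v + (r • v + v) + (r • (q : Y) • v + r • v + ((q : Y) • v + v)) =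
    r • (q : Y) • v + v + (((q : Y) • v + (q : Y) • v) + (r • v + r • v) + (v + v)) := by abel
  rw [this, h1, h2, h3, add_zero, add_zero, add_zero]

/-- `[[v, q], r]` in coordinates -/
theorem g_qr {q q' : L} (hq : q ∈ Q) (hq' : q' ∈ Q) (v : V) :
    g ((t * (q' : Y) * t⁻¹) • ((q : Y) • v + v) + ((q : Y) • v + v)) =
      ![κ * c' (t * (q' : Y) * t⁻¹) * (c (q : Y) * N v 1), 0] := by
  have hx : (q : Y) • v + v ∈ fx V Q := o.QV q hq v
  rw [cd.κX q' hq' _ hx, cd.cN q hq v]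
  rfl

theorem c_inj {q q₁ : L} (hq : q ∈ Q) (hq₁ : q₁ ∈ Q) (h : c (q : Y) = c (q₁ : Y)) : q = q₁ := by
  have h1 : ∀ v : V, (q : Y) • v = (q₁ : Y) • v := by
    intro v
    have h2 : g (((q : Y) • v + v) + ((q₁ : Y) • v + v)) = 0 := by
      rw [map_add, cd.cN q hq, cd.cN q₁ hq₁, h, ← cd.cN q₁ hq₁, ← map_add, o.two, map_zero]
    have h3 := o.eq_of_add (cd.injX _ ((fx V Q).add_mem (o.QV q hq v) (o.QV q₁ hq₁ v)) h2)
    exact add_right_cancel h3
  have h4 : (q : Y)⁻¹ * q₁ = 1 := by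
    apply o.hyp.faith
    intro v
    rw [mul_smul, ← h1, inv_smul_smul]
  exact Subtype.ext (inv_mul_eq_one.1 h4)

theorem c'_inj {q q₁ : L} (hq : q ∈ Q) (hq₁ : q₁ ∈ Q)
    (h : c' (t * (q : Y) * t⁻¹) = c' (t * (q₁ : Y) * t⁻¹)) : q = q₁ := by
  have h1 : ∀ v : V, (t * (q : Y) * t⁻¹) • v = (t * (q₁ : Y) * t⁻¹) • v := by
    intro v
    have h2 : g' (((t * (q : Y) * t⁻¹) • v + v) + ((t * (q₁ : Y) * t⁻¹) • v + v)) = 0 := by
      rw [map_add, cd.cN' q hq, cd.cN' q₁ hq₁, h, ← cd.cN' q₁ hq₁, ← map_add, o.two, map_zero]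
    have h3 := o.eq_of_add (cd.injX' _ ((t • (fx V Q : AddSubgroup V)).add_mem (o.rVX' cd hq v) (o.rVX' cd hq₁ v)) h2)
    exact add_right_cancel h3
  have h4 : (t * (q : Y) * t⁻¹)⁻¹ * (t * (q₁ : Y) * t⁻¹) = 1 := by
    apply o.hyp.faith
    intro v
    rw [mul_smul, ← h1, inv_smul_smul]
  have h5 := inv_mul_eq_one.1 h4
  have h6 : (q : Y) = q₁ := mul_left_cancel (mul_right_cancel h5)
  exact Subtype.ext h6

/-- isotropy in coordinates -/
theorem iso_iff {q q' q₁ q₁' : L} (hq : q ∈ Q) (hq' : q' ∈ Q) (hq₁ : q₁ ∈ Q) (hq₁' : q₁' ∈ Q)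
    (iso : ∀ v : V, ((q₁ : Y) * (t * (q₁' : Y) * t⁻¹)) • (((q : Y) * (t * (q' : Y) * t⁻¹)) • v + v) =
      ((q : Y) * (t * (q' : Y) * t⁻¹)) • v + v) :
    c' (t * (q₁' : Y) * t⁻¹) * c (q : Y) = c' (t * (q' : Y) * t⁻¹) * c (q₁ : Y) := by
  obtain ⟨v, hv⟩ := o.exists_ne_E
  have hν : N v 1 ≠ 0 := fun h1 => hv ((cd.memE v).2 h1)
  set r := t * (q' : Y) * t⁻¹ with hr
  set r₁ := t * (q₁' : Y) * t⁻¹ with hr₁
  set x := (q : Y) • v + v with hx
  set x' := r • v + v with hx'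
  set f := r • x + x with hf
  have hxX : x ∈ fx V Q := o.QV q hq v
  have hx'X : x' ∈ t • (fx V Q : AddSubgroup V) := o.rVX' cd hq' v
  have hfF : f ∈ F := o.rX_mem cd hq' hxX
  have h1 : ((q : Y) * r) • v + v = x + x' + f := o.expand cd hq hq' v
  have h2 := iso v
  rw [h1, smul_add, smul_add] at h2
  -- `p₁ x = r₁ x`
  have h3 : ((q₁ : Y) * r₁) • x = r₁ • x := by
    rw [mul_smul]
    have h4 : r₁ • x ∈ fx V Q := by
      have := o.rX_mem cd hq₁' hxX
      exact (AddSubgroup.add_mem_cancel_right _ hxX).1 (o.FX this)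
    exact h4 q₁ hq₁
  have h4 : ((q₁ : Y) * r₁) • x' = (q₁ : Y) • x' := by
    rw [mul_smul, o.rX' cd hq₁' hx'X]
  have h5 : ((q₁ : Y) * r₁) • f = f := by
    have h6 : r₁ • f = f := by
      obtain ⟨b, hb, h7⟩ := o.QtA q₁' hq₁'
      rw [hr₁, ← h7]
      exact o.hyp.loc.mem.FB b hb f hfF
    rw [mul_smul, h6]
    exact o.FX hfF q₁ hq₁
  rw [h3, h4, h5] at h2
  have h6 : (r₁ • x + x) + ((q₁ : Y) • x' + x') = 0 := by
    have h7 : r₁ • x + (q₁ : Y) • x' = x + x' := add_right_cancel h2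
    have : r₁ • x + x + ((q₁ : Y) • x' + x') = (r₁ • x + (q₁ : Y) • x') + (x + x') := by abel
    rw [this, h7, o.two]
  -- `[[v, r], q₁] = [[v, q₁], r]`
  have h7 : (q₁ : Y) • x' + x' = r • ((q₁ : Y) • v + v) + ((q₁ : Y) • v + v) := by
    rw [hx', smul_add, smul_add, ← mul_smul, ← mul_smul, hr, o.rcomm cd hq₁ hq']
    abel
  rw [h7] at h6
  have h8 := congrArg g h6
  rw [map_zero, map_add, hr₁, hx, hr, o.g_qr cd hq hq₁', o.g_qr cd hq₁ hq'] at h8
  have h9 := congrFun h8 0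
  change κ * c' (t * (q₁' : Y) * t⁻¹) * (c (q : Y) * N v 1) + κ * c' (t * (q' : Y) * t⁻¹) * (c (q₁ : Y) * N v 1) = 0 at h9
  have h10 : (κ * N v 1) * (c' (t * (q₁' : Y) * t⁻¹) * c (q : Y)) =
      (κ * N v 1) * (c' (t * (q' : Y) * t⁻¹) * c (q₁ : Y)) := by
    have h11 := CharTwo.add_eq_zero.1 h9
    calc (κ * N v 1) * (c' (t * (q₁' : Y) * t⁻¹) * c (q : Y))
        = κ * c' (t * (q₁' : Y) * t⁻¹) * (c (q : Y) * N v 1) := by ring
      _ = _ := h11
      _ = _ := by ring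
  exact mul_left_cancel₀ (mul_ne_zero cd.κ_ne hν) h10

/-- the computation: `p = q r`, `p₁ = q₁ r₁` with `[v, p] = [v₁, p₁]` -/
theorem comp_eq [Finite Y] [Finite V] {q q' q₁ q₁' : L} (hq : q ∈ Q) (hq' : q' ∈ Q) (hq₁ : q₁ ∈ Q) (hq₁' : q₁' ∈ Q)
    {v v₁ : V} (he : ((q : Y) * (t * (q' : Y) * t⁻¹)) • v + v = ((q₁ : Y) * (t * (q₁' : Y) * t⁻¹)) • v₁ + v₁) :
    c (q : Y) * N v 1 + c (q₁ : Y) * N v₁ 1 = 0 ∧
      (c (q : Y) * N v 0 + c (q₁ : Y) * N v₁ 0) +
        (c' (t * (q' : Y) * t⁻¹) * N' v 0 + c' (t * (q₁' : Y) * t⁻¹) * N' v₁ 0) +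
        (κ * c' (t * (q' : Y) * t⁻¹) * (c (q : Y) * N v 1) +
          κ * c' (t * (q₁' : Y) * t⁻¹) * (c (q₁ : Y) * N v₁ 1)) = 0 := by
  rw [o.expand cd hq hq', o.expand cd hq₁ hq₁'] at he
  set x := (q : Y) • v + v with hx
  set x₁ := (q₁ : Y) • v₁ + v₁ with hx₁
  set r := t * (q' : Y) * t⁻¹ with hr
  set r₁ := t * (q₁' : Y) * t⁻¹ with hr₁
  set x' := r • v + v with hx'
  set x₁' := r₁ • v₁ + v₁ with hx₁'
  set f := r • x + x with hf
  set f₁ := r₁ • x₁ + x₁ with hf₁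
  have hxX : x ∈ fx V Q := o.QV q hq v
  have hx₁X : x₁ ∈ fx V Q := o.QV q₁ hq₁ v₁
  have hx'X : x' ∈ t • (fx V Q : AddSubgroup V) := o.rVX' cd hq' v
  have hx₁'X : x₁' ∈ t • (fx V Q : AddSubgroup V) := o.rVX' cd hq₁' v₁
  have hfF : f ∈ F := o.rX_mem cd hq' hxX
  have hf₁F : f₁ ∈ F := o.rX_mem cd hq₁' hx₁X
  have hFX' : F ≤ t • (fx V Q : AddSubgroup V) := by
    rw [← o.infF]; exact inf_le_right
  -- `u + u' + w = 0`
  have hsum : (x + x₁) + (x' + x₁') + (f + f₁) = 0 := by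
    have : (x + x₁) + (x' + x₁') + (f + f₁) = (x + x' + f) + (x₁ + x₁' + f₁) := by abel
    rw [this, he, o.two]
  have hu : x + x₁ ∈ F := by
    rw [← o.infF]
    refine ⟨(fx V Q).add_mem hxX hx₁X, ?_⟩
    have h1 : x + x₁ = (x' + x₁') + (f + f₁) := o.eq_of_add (by rw [← add_assoc]; exact hsum)
    rw [h1]
    exact AddSubgroup.add_mem _ (AddSubgroup.add_mem _ hx'X hx₁'X) (hFX' (F.add_mem hfF hf₁F))
  have hu' : x' + x₁' ∈ F := by
    have h1 : x' + x₁' = (x + x₁) + (f + f₁) := by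
      apply o.eq_of_add
      have : x' + x₁' + (x + x₁ + (f + f₁)) = (x + x₁) + (x' + x₁') + (f + f₁) := by abel
      rw [this, hsum]
    rw [h1]
    exact F.add_mem hu (F.add_mem hfF hf₁F)
  have g1 : g (x + x₁) = c (q : Y) • N v + c (q₁ : Y) • N v₁ := by
    rw [map_add, hx, hx₁, cd.cN q hq, cd.cN q₁ hq₁]
  have g2 : g (x' + x₁') = c' r • N' v + c' r₁ • N' v₁ := by
    rw [← cd.gF _ hu', map_add, hx', hx₁', hr, hr₁, cd.cN' q' hq', cd.cN' q₁' hq₁']
  have g3 : g (f + f₁) = ![κ * c' r * (c (q : Y) * N v 1) + κ * c' r₁ * (c (q₁ : Y) * N v₁ 1), 0] := by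
    rw [map_add, hf, hf₁, hx, hx₁, hr, hr₁, o.g_qr cd hq hq', o.g_qr cd hq₁ hq₁', add_vec, add_zero]
  constructor
  · have h1 := (cd.memF _ (o.FX hu)).1 hu
    rw [g1] at h1
    exact h1
  · have h1 := congrArg g hsum
    rw [map_zero, map_add, map_add, g1, g2, g3] at h1
    exact congrFun h1 0

/-- **special points are `S` and `S^t`** -/
theorem sp_cases [Finite Y] [Finite V] (ha : 4 ≤ E.index) (hk : Nat.card k = E.index) {P : Subgroup Y}
    (h : Sp A E P) : P = Q.map L.subtype ∨ P = MulAut.conj t • Q.map L.subtype := by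
  have hcQ : Nat.card (Q.map L.subtype) = E.index := by
    rw [← o.cQ]
    exact Nat.card_congr (Q.equivMapOfInjective _ L.subtype_injective).symm.toEquiv
  by_cases h1 : ∃ q ∈ Q, q ≠ 1 ∧ (q : Y) ∈ P
  · obtain ⟨q, hq, hq1, hqP⟩ := h1
    left
    exact eq_of_le_of_card_ge (o.le_S h.le h.iso hq hq1 hqP) (by rw [hcQ]; exact h.card)
  by_cases h2 : ∃ q ∈ Q, q ≠ 1 ∧ t * (q : Y) * t⁻¹ ∈ P
  · obtain ⟨q, hq, hq1, hqP⟩ := h2
    right
    exact eq_of_le_of_card_ge (o.le_S' h.le h.iso hq hq1 hqP) (by rw [card_conj, hcQ]; exact h.card)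
  exfalso
  push Not at h1 h2
  -- `p₀`
  have hPc : 1 < Nat.card P := by have := h.card; omega
  haveI hPn : Nontrivial P := Finite.one_lt_card_iff_nontrivial.1 hPc
  obtain ⟨⟨p₀, hp₀⟩, hp₀1⟩ := exists_ne (1 : P)
  have hp₀1' : p₀ ≠ 1 := fun h3 => hp₀1 (Subtype.ext h3)
  obtain ⟨q, hq, q', hq', he₀⟩ := o.mem_A (h.le hp₀)
  have hq1 : q ≠ 1 := by
    rintro rfl
    rw [coe_one, one_mul] at he₀
    by_cases hq'1 : q' = 1
    · apply hp₀1'
      rw [he₀, hq'1]; simp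
    · exact h2 q' hq' hq'1 (by rw [← he₀]; exact hp₀)
  have hcq : c (q : Y) ≠ 0 := cd.c_ne q hq fun h3 => hq1 (Subtype.ext h3)
  have hq'1 : q' ≠ 1 := by
    rintro rfl
    have h3 : p₀ = q := by rw [he₀]; simp
    exact h1 q hq hq1 (by rw [← h3]; exact hp₀)
  have hc'q : c' (t * (q' : Y) * t⁻¹) ≠ 0 := cd.c'_ne q' hq' fun h3 => hq'1 (Subtype.ext h3)
  -- decomposition of the elements of `P`
  have hdec : ∀ p : P, ∃ q₁ ∈ Q, ∃ q₁' ∈ Q, (p : Y) = q₁ * (t * q₁' * t⁻¹) := fun p => o.mem_A (h.le p.2)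
  choose a haQ b hbQ hab using hdec
  have hrel : ∀ p : P, c' (t * (b p : Y) * t⁻¹) * c (q : Y) = c' (t * (q' : Y) * t⁻¹) * c (a p : Y) := by
    intro p
    apply o.iso_iff cd hq hq' (haQ p) (hbQ p)
    intro v
    rw [← hab, ← he₀]
    exact h.iso _ hp₀ _ p.2 v
  let f : P → k := fun p => c (a p : Y) / c (q : Y)
  have hf : Function.Injective f := by
    intro p p₁ hpp
    have h3 : c (a p : Y) = c (a p₁ : Y) := by
      have : c (a p : Y) / c (q : Y) = c (a p₁ : Y) / c (q : Y) := hpp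
      field_simp at this
      exact this
    have h4 := o.c_inj cd (haQ p) (haQ p₁) h3
    have h5 : c' (t * (b p : Y) * t⁻¹) = c' (t * (b p₁ : Y) * t⁻¹) := by
      apply mul_right_cancel₀ hcq
      rw [hrel, hrel, h3]
    have h6 := o.c'_inj cd (hbQ p) (hbQ p₁) h5
    apply Subtype.ext
    rw [hab p, hab p₁, h4, h6]
  have hfs : Function.Surjective f := (hf.bijective_of_nat_card_le (by rw [hk]; exact h.card)).2
  have hca : ∀ p : P, c (a p : Y) = f p * c (q : Y) := fun p => (div_mul_cancel₀ _ hcq).symm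
  have hc'b : ∀ p : P, c' (t * (b p : Y) * t⁻¹) = f p * c' (t * (q' : Y) * t⁻¹) := by
    intro p
    apply mul_right_cancel₀ hcq
    rw [hrel, hca]; ring
  obtain ⟨v, v₁, hv, hv₁, hvv, hsp⟩ := h.sp
  have hν : N v 1 ≠ 0 := fun h3 => hv ((cd.memE v).2 h3)
  have hν₁ : N v₁ 1 ≠ 0 := fun h3 => hv₁ ((cd.memE v₁).2 h3)
  set ν := N v 1 with hνd
  set ν₁ := N v₁ 1 with hν₁d
  set cq := c (q : Y) with hcqd
  set cr := c' (t * (q' : Y) * t⁻¹) with hcrd
  -- the polynomial identity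
  have hpoly : ∀ d : k, d * (cq * (N v 0 + ν / ν₁ * N v₁ 0) + cr * (N' v 0 + ν / ν₁ * N' v₁ 0)) +
      d ^ 2 * (κ * cr * cq * (ν * (1 + ν / ν₁))) = 0 := by
    intro d
    obtain ⟨p, hp⟩ := hfs d
    obtain ⟨p₁, hp₁, he⟩ := hsp p p.2
    have he' := he
    rw [hab p, show p₁ = ((⟨p₁, hp₁⟩ : P) : Y) from rfl, hab ⟨p₁, hp₁⟩] at he'
    obtain ⟨h3, h4⟩ := o.comp_eq cd (haQ p) (hbQ p) (haQ ⟨p₁, hp₁⟩) (hbQ ⟨p₁, hp₁⟩) he'
    set d₁ := f ⟨p₁, hp₁⟩ with hd₁
    rw [hca, hca, hp, ← hd₁, ← hνd, ← hν₁d] at h3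
    rw [hca, hca, hc'b, hc'b, hp, ← hd₁, ← hνd, ← hν₁d] at h4
    have h5 : d₁ = d * (ν / ν₁) := by
      have h6 : d * ν = d₁ * ν₁ := by
        apply mul_right_cancel₀ hcq
        have h7 := CharTwo.add_eq_zero.1 h3
        calc d * ν * cq = d * cq * ν := by ring
          _ = d₁ * cq * ν₁ := h7
          _ = _ := by ring
      field_simp
      exact h6.symm
    rw [h5] at h4
    rw [← h4]
    field_simp
  -- `d₀ ≠ 0, 1`
  obtain ⟨d₀, hd₀, hd₀1⟩ : ∃ d₀ : k, d₀ ≠ 0 ∧ d₀ ≠ 1 := by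
    by_contra hc
    push Not at hc
    have h3 : (Set.univ : Set k) ⊆ {0, 1} := by
      intro d _
      by_cases h4 : d = 0
      · exact Or.inl h4
      · exact Or.inr (hc d h4)
    have h4 := Set.ncard_le_ncard h3 (Set.toFinite _)
    rw [Set.ncard_univ, hk] at h4
    have h5 : ({0, 1} : Set k).ncard ≤ 2 := (Set.ncard_insert_le _ _).trans (by rw [Set.ncard_singleton])
    omega
  set m := cq * (N v 0 + ν / ν₁ * N v₁ 0) + cr * (N' v 0 + ν / ν₁ * N' v₁ 0) with hm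
  set bb := κ * cr * cq * (ν * (1 + ν / ν₁)) with hbb
  have e1 := hpoly 1
  have e2 := hpoly d₀
  have h3 : bb = 0 := by
    have h4 : m = bb := by
      rw [one_mul, one_pow, one_mul] at e1
      exact CharTwo.add_eq_zero.1 e1
    rw [h4] at e2
    have h5 : d₀ * (1 + d₀) * bb = 0 := by rw [← e2]; ring
    have h6 : (1 : k) + d₀ ≠ 0 := fun h7 => hd₀1 (CharTwo.add_eq_zero.1 h7).symm
    exact (mul_eq_zero.1 h5).resolve_left (mul_ne_zero hd₀ h6)
  have h4 : 1 + ν / ν₁ = 0 := by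
    have h5 : κ * cr * cq * ν ≠ 0 := mul_ne_zero (mul_ne_zero (mul_ne_zero cd.κ_ne hc'q) hcq) hν
    have h6 : κ * cr * cq * ν * (1 + ν / ν₁) = 0 := by rw [← h3, hbb]; ring
    exact (mul_eq_zero.1 h6).resolve_left h5
  apply hvv
  rw [cd.memE, map_add]
  change N v 1 + N v₁ 1 = 0
  rw [← hνd, ← hν₁d]
  have h5 : (1 + ν / ν₁) * ν₁ = 0 := by rw [h4, zero_mul]
  rw [add_mul, one_mul, div_mul_cancel₀ _ hν₁] at h5
  rw [add_comm]; exact h5

/-- `S` is special -/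
theorem sp_S [Finite Y] [Finite V] (ha : 4 ≤ E.index) (hk : Nat.card k = E.index) :
    Sp A E (Q.map L.subtype) where
  le := map_mono o.QA
  iso := by
    rintro _ ⟨q, hq, rfl⟩ _ ⟨q', hq', rfl⟩ v
    exact o.QV q hq v q' hq'
  card := by
    rw [← o.cQ]
    exact (Nat.card_congr (Q.equivMapOfInjective _ L.subtype_injective).symm.toEquiv).ge
  sp := by
    obtain ⟨d₀, hd₀, hd₀1⟩ : ∃ d₀ : k, d₀ ≠ 0 ∧ d₀ ≠ 1 := by
      by_contra hc
      push Not at hc
      have h3 : (Set.univ : Set k) ⊆ {0, 1} := by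
        intro d _
        by_cases h4 : d = 0
        · exact Or.inl h4
        · exact Or.inr (hc d h4)
      have h4 := Set.ncard_le_ncard h3 (Set.toFinite _)
      rw [Set.ncard_univ, hk] at h4
      have h5 : ({0, 1} : Set k).ncard ≤ 2 := (Set.ncard_insert_le _ _).trans (by rw [Set.ncard_singleton])
      omega
    obtain ⟨v, hv⟩ := o.exists_ne_E
    have hν : N v 1 ≠ 0 := fun h3 => hv ((cd.memE v).2 h3)
    obtain ⟨v₁, hv₁⟩ := cd.surjN (d₀ • N v)
    refine ⟨v, v₁, hv, fun h1 => ?_, fun h1 => ?_, ?_⟩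
    · rw [cd.memE, hv₁] at h1
      exact mul_ne_zero hd₀ hν h1
    · rw [cd.memE, map_add, hv₁] at h1
      have h2 : N v 1 + d₀ * N v 1 = 0 := h1
      have h3 : (1 + d₀) * N v 1 = 0 := by rw [← h2]; ring
      exact hd₀1 (CharTwo.add_eq_zero.1 ((mul_eq_zero.1 h3).resolve_right hν)).symm
    · rintro _ ⟨q, hq, rfl⟩
      obtain ⟨q₁, hq₁, h1⟩ := cd.c_surj (c (q : Y) * d₀⁻¹)
      refine ⟨q₁, ⟨q₁, hq₁, rfl⟩, ?_⟩
      apply o.eq_of_add
      apply cd.injX _ ((fx V Q).add_mem (o.QV q hq v) (o.QV q₁ hq₁ v₁))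
      change g (((q : Y) • v + v) + ((q₁ : Y) • v₁ + v₁)) = 0
      rw [map_add, cd.cN q hq, cd.cN q₁ hq₁, h1, hv₁, smul_smul, mul_assoc, inv_mul_cancel₀ hd₀, mul_one]
      ext i
      exact CharTwo.add_self_eq_zero _

/-- **`N_Y(A)` permutes `{S, S^t}`** -/
theorem perm [Finite Y] [Finite V] (ha : 4 ≤ E.index) (hk : Nat.card k = E.index) {y : Y}
    (hy : MulAut.conj y • A.map L.subtype = A.map L.subtype) :
    MulAut.conj y • Q.map L.subtype = Q.map L.subtype ∨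
      MulAut.conj y • Q.map L.subtype = MulAut.conj t • Q.map L.subtype :=
  o.sp_cases cd ha hk (o.Sp_conj (o.sp_S cd ha hk) hy)

theorem perm' [Finite Y] [Finite V] (ha : 4 ≤ E.index) (hk : Nat.card k = E.index) {y : Y}
    (hy : MulAut.conj y • A.map L.subtype = A.map L.subtype) :
    MulAut.conj y • MulAut.conj t • Q.map L.subtype = Q.map L.subtype ∨
      MulAut.conj y • MulAut.conj t • Q.map L.subtype = MulAut.conj t • Q.map L.subtype := by
  apply o.sp_cases cd ha hk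
  exact o.Sp_conj (o.Sp_conj (o.sp_S cd ha hk) o.tAY) hy

end cd

/-- **`N_Y(A)` permutes `{S, S^t}`** -/
theorem perm_S [Finite Y] [Finite V] (ha : 4 ≤ E.index) {y : Y}
    (hy : MulAut.conj y • A.map L.subtype = A.map L.subtype) :
    (MulAut.conj y • Q.map L.subtype = Q.map L.subtype ∧
      MulAut.conj y • MulAut.conj t • Q.map L.subtype = MulAut.conj t • Q.map L.subtype) ∨
    (MulAut.conj y • Q.map L.subtype = MulAut.conj t • Q.map L.subtype ∧
      MulAut.conj y • MulAut.conj t • Q.map L.subtype = Q.map L.subtype) := by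
  obtain ⟨k, i1, i2, i3, e, K, φ, ok, -⟩ := o.exists_K
  obtain ⟨g, g', N, N', c, c', κ, cd, -, -⟩ := o.exists_cd ok
  have hne : Q.map L.subtype ≠ MulAut.conj t • Q.map L.subtype := by
    intro h1
    obtain ⟨q, hq, hq1⟩ := o.hyp.exists_q o.tk
    have h2 : (q : Y) ∈ Q.map L.subtype := ⟨q, hq, rfl⟩
    rw [h1, mem_conj] at h2
    obtain ⟨q', hq', h3⟩ := h2
    apply hq1
    apply o.inf1 q hq q' hq'
    have h4 : (q' : Y) = t⁻¹ * q * t := h3
    rw [h4]; group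
  rcases o.perm cd ha ok.card hy with h1 | h1 <;> rcases o.perm' cd ha ok.card hy with h2 | h2
  · exfalso
    rw [← h1] at h2
    have h3 := congrArg (fun P => MulAut.conj y⁻¹ • P) h2
    simp only [conj_inv_conj] at h3
    rw [h1] at h3
    exact hne h3.symm
  · exact Or.inl ⟨h1, h2⟩
  · exact Or.inr ⟨h1, h2⟩
  · exfalso
    rw [← h1] at h2
    have h3 := congrArg (fun P => MulAut.conj y⁻¹ • P) h2
    simp only [conj_inv_conj] at h3
    exact hne (h3.symm.trans h1)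

end Out

end Cfsg.Agent.Omega.NO1.B0

end
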