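import Cfsg.Agent.Mrg.Omega.NO1.B0.NinE
import Cfsg.Agent.Mrg.Omega.NO1.B0.OutTwo
import Cfsg.Agent.Mrg.Omega.NO1.B0.Seven
import Cfsg.Agent.Mrg.Omega.NO1.AB.Beta
import Cfsg.Agent.ZN.ChoiceSit
import Cfsg.Prelude.Def_Local
import Cfsg.Agent.SignalizersComponents.SLQuasisimple
import Cfsg.Agent.SignalizersComponents.QsBasic
import Cfsg.Agent.Mrg.Omega.NO1.TH.Fin

section


/-!
# THEOREM B0 (bb OMEGA 18835, helper970), (9): `Out` + `OutK` ⟹ `Nin`, `NinT`
-/

set_option autoImplicit false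
set_option linter.unusedSectionVars false
set_option linter.style.haveILetI false

namespace Cfsg.Agent.Omega.NO1.B0

open Subgroup Cfsg.Agent.Omega.NO1.AB
open Cfsg.Agent.ClassTwo.Sp4Defs (u v d w)
open Cfsg.Agent.ClassTwo.Sp4SL2 (det_eq u_zero u_eq_one)
open scoped Pointwise

universe u₁

/-- `SL₂(k) → Y` -/
def ps {Y : Type u₁} [Group Y] {L : Subgroup Y} {K : Subgroup L} {k : Type} [Field k]
    (φ : K ≃* Matrix.SpecialLinearGroup (Fin 2) k) : Matrix.SpecialLinearGroup (Fin 2) k →* Y :=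
  (L.subtype.comp K.subtype).comp φ.symm.toMonoidHom

variable {Y : Type u₁} [Group Y] {V : Type u₁} [AddCommGroup V] [DistribMulAction Y V]

/-- the coordinates -/
def pc {L : Subgroup Y} {Q : Subgroup L} {k : Type} [Field k] (e : ↥(fx V Q) ≃+ (Fin 2 → k)) (x y : k) : V :=
  (e.symm ![x, y] : V)

theorem ps_apply {L : Subgroup Y} {K : Subgroup L} {k : Type} [Field k]
    (φ : K ≃* Matrix.SpecialLinearGroup (Fin 2) k) (g : Matrix.SpecialLinearGroup (Fin 2) k) :
    ps φ g = ((φ.symm g : L) : Y) := rfl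

section pc

variable {L : Subgroup Y} {Q : Subgroup L} {k : Type} [Field k] (e : ↥(fx V Q) ≃+ (Fin 2 → k))

theorem mem_pc {v : V} : v ∈ fx V Q ↔ ∃ x y, v = pc e x y := by
  constructor
  · intro hv
    refine ⟨e ⟨v, hv⟩ 0, e ⟨v, hv⟩ 1, ?_⟩
    unfold pc
    have h1 : ![e ⟨v, hv⟩ 0, e ⟨v, hv⟩ 1] = e ⟨v, hv⟩ := by
      ext i
      fin_cases i <;> rfl
    rw [h1, e.symm_apply_apply]
  · rintro ⟨x, y, rfl⟩
    exact (e.symm ![x, y]).2

theorem pc_e {x y : k} {w : ↥(fx V Q)} (h : (w : V) = pc e x y) : e w = ![x, y] := by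
  have : w = e.symm ![x, y] := Subtype.ext h
  rw [this, e.apply_symm_apply]

theorem Pr_iff [Finite V] {g : Y} : Pr (pc e) g ↔ g ∈ NX L V Q := by
  constructor
  · intro h
    apply mem_NX_of
    intro x hx
    obtain ⟨a, b, rfl⟩ := (mem_pc e).1 hx
    obtain ⟨a', b', h1⟩ := h a b
    rw [h1]
    exact (mem_pc e).2 ⟨_, _, rfl⟩
  · intro h x y
    exact (mem_pc e).1 (NX_smul h ((mem_pc e).2 ⟨x, y, rfl⟩))

end pc

theorem mem_map_of {L : Subgroup Y} {A : Subgroup L} {E F : AddSubgroup V} (h : Mem A E F) :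
    Mem (A.map L.subtype) E F where
  comm := by
    rintro _ ⟨b, hb, rfl⟩ _ ⟨c, hc, rfl⟩
    exact congrArg Subtype.val (h.comm b hb c hc)
  sq := by
    rintro _ ⟨b, hb, rfl⟩
    exact congrArg Subtype.val (h.sq b hb)
  FE := h.FE
  VB := by
    rintro _ ⟨b, hb, rfl⟩ v
    exact h.VB b hb v
  EB := by
    rintro _ ⟨b, hb, rfl⟩ v hv
    exact h.EB b hb v hv
  FB := by
    rintro _ ⟨b, hb, rfl⟩ v hv
    exact h.FB b hb v hv
  CB := fun v hv => h.CB v fun b hb => hv _ ⟨b, hb, rfl⟩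
  inj := by
    rintro w hw _ ⟨b, hb, rfl⟩ hbw
    exact congrArg Subtype.val (h.inj w hw b hb hbw)
  surj := fun w hw x hx => by
    obtain ⟨b, hb, h1⟩ := h.surj w hw x hx
    exact ⟨_, ⟨b, hb, rfl⟩, h1⟩
  ne := h.ne

namespace Out

variable {T : Sylow 2 Y} {M L : Subgroup Y} {A Q L₁ : Subgroup L} {R : Sylow 2 L} {E F : AddSubgroup V}
  {z : V} {t : Y} (o : Out T M L A Q L₁ R E F z t)
include o

section K

variable {K : Subgroup L} {k : Type} [Field k] [Finite k] [CharP k 2] {e : ↥(fx V Q) ≃+ (Fin 2 → k)}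
  {φ : K ≃* Matrix.SpecialLinearGroup (Fin 2) k} (ok : OutK o K k e φ)
  (ez : ∀ v : ↥(fx V Q), (v : V) = z → e v = ![1, 0])
include ok ez

theorem pc_z [Finite Y] [Finite V] : pc e 1 0 = z := by
  have h1 : (⟨z, o.hyp.loc.z_mem.1⟩ : ↥(fx V Q)) = e.symm ![1, 0] := by
    rw [← ez ⟨z, o.hyp.loc.z_mem.1⟩ rfl, e.symm_apply_apply]
  unfold pc
  rw [← h1]

/-- **`Nin`** -/
theorem nin [Finite Y] [Finite V] (ha : 4 ≤ E.index) : Nin (Q.map L.subtype) (ps φ) (pc e) t := by
  have h := o.hyp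
  have hact : ∀ (g : Matrix.SpecialLinearGroup (Fin 2) k) (x y : k), ps φ g • pc e x y =
      pc e (g.1 0 0 * x + g.1 0 1 * y) (g.1 1 0 * x + g.1 1 1 * y) := by
    intro g x y
    have hX : pc e x y ∈ fx V Q := (mem_pc e).2 ⟨x, y, rfl⟩
    have h1 := ok.act (φ.symm g) (e.symm ![x, y]) ⟨(φ.symm g : L) • pc e x y, o.hyp.Xmem hX⟩ rfl
    rw [e.apply_symm_apply, φ.apply_symm_apply, Cfsg.Agent.ClassTwo.Sp4SL2.mulVec_apply] at h1
    have h2 : (⟨(φ.symm g : L) • pc e x y, o.hyp.Xmem hX⟩ : ↥(fx V Q)) =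
        e.symm ![g.1 0 0 * x + g.1 0 1 * y, g.1 1 0 * x + g.1 1 1 * y] := by
      rw [e.eq_symm_apply]
      exact h1
    exact congrArg Subtype.val h2
  have hco := o.co_of ok ez
  exact
    { two := o.two
      faith := h.faith
      add := by
        intro x y x' y'
        unfold pc
        rw [← add_vec, map_add]
        rfl
      inj := by
        intro x y hxy
        have h1 : e.symm ![x, y] = 0 := Subtype.ext hxy
        rw [map_eq_zero_iff e.symm e.symm.injective] at h1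
        exact ⟨congrFun h1 0, congrFun h1 1⟩
      act := hact
      fix := by
        rintro _ ⟨q, hq, rfl⟩ x y
        exact (e.symm ![x, y]).2 q hq
      comm := by
        rintro _ ⟨q, hq, rfl⟩ g
        exact congrArg Subtype.val (o.Qz q hq (φ.symm g : L))
      SV := by
        rintro _ ⟨q, hq, rfl⟩ v
        exact (mem_pc e).1 (o.QV q hq v)
      Sfix := by
        rintro _ ⟨q, hq, rfl⟩ hq1 v hv
        exact (mem_pc e).1 (o.Qfix q hq (fun h1 => hq1 (by rw [h1]; rfl)) v hv)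
      DD := by
        intro g h1 h2
        obtain ⟨q, hq, h3⟩ := o.DD g (fun x hx => by
          obtain ⟨a, b, rfl⟩ := (mem_pc e).1 hx
          exact h1 a b) (fun v => (mem_pc e).2 (h2 v))
        exact ⟨q, hq, h3⟩
      Sab := by
        rintro _ ⟨q, hq, rfl⟩ _ ⟨q', hq', rfl⟩
        exact congrArg Subtype.val (o.Qz q hq q')
      cS := by
        rw [ok.card, ← o.cQ]
        exact (Nat.card_congr (Q.equivMapOfInjective _ L.subtype_injective).toEquiv).symm
      cV := by rw [o.cV, ok.card]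
      conj := by
        rintro _ ⟨q, hq, rfl⟩
        obtain ⟨b, hbA, hbK, hb⟩ := o.SK ha ok hq
        set m := φ ⟨b, hbK⟩ with hm
        have hmb : ps φ m = b := by
          rw [ps_apply, hm, φ.symm_apply_apply]
        have h1 := hact m 1 0
        have h2 : pc e 1 0 ∈ F := by rw [o.pc_z ok ez]; exact h.loc.z_mem.2
        have h3 : ps φ m • pc e 1 0 = pc e 1 0 := by
          rw [hmb]
          exact h.loc.mem.FB b hbA _ h2
        rw [h3] at h1
        have h4 := pc_e e (w := e.symm ![1, 0]) h1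
        rw [e.apply_symm_apply] at h4
        obtain ⟨h5, h6⟩ := vec_inj h4
        simp only [mul_one, mul_zero, add_zero] at h5 h6
        refine ⟨m.1 0 1, ?_⟩
        have h7 : m = u (m.1 0 1) := by
          rw [Cfsg.Agent.ClassTwo.Sp4SL2.ext_iff]
          have h8 := det_eq m
          rw [← h5, ← h6, mul_zero, sub_zero, one_mul] at h8
          simp [← h5, ← h6, h8]
        rw [← h7, hmb]
        exact hb.symm
      tt := (Pr_iff e).2 o.tk.tt
      tz := by
        rw [o.pc_z ok ez]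
        exact h.zT t o.tk.tT
      line := by
        intro g hg x y c
        have hg' := (Pr_iff e).1 hg
        obtain ⟨c', hc'⟩ := h.line hco hg' ![x, y] c
        refine ⟨c', fun x' y' h1 => ?_⟩
        have h2 : ge e hg' ![x, y] = ![x', y'] := by
          rw [ge_apply]
          exact pc_e e h1
        rw [h2, smul_vec, smul_vec, ge_apply, ← e.eq_symm_apply] at hc'
        exact congrArg Subtype.val hc'
      semi := by
        intro g hg hgz
        have hg' := (Pr_iff e).1 hg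
        rw [o.pc_z ok ez] at hgz
        obtain ⟨α, β, δ, hβ, h1⟩ := h.semi hco hg' hgz
        refine ⟨α, β, δ, hβ, fun x y => ?_⟩
        have h2 := h1 x y
        rw [ge_apply, ← e.eq_symm_apply] at h2
        exact congrArg Subtype.val h2
      q4 := by rw [ok.card]; exact ha }

/-- `v ∈ F` in coordinates -/
theorem mem_F_pc [Finite Y] [Finite V] (ha : 4 ≤ E.index) (v : V) : v ∈ F ↔ ∃ a, v = t • pc e a 0 := by
  have h := o.nin ok ez ha
  obtain ⟨τ, hτ, -, -, -, hτb⟩ := h.exists_τ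
  constructor
  · intro hv
    have h1 := (ok.memF ⟨v, o.FX hv⟩).1 hv
    obtain ⟨x, y, h2⟩ := (mem_pc e).1 (o.FX hv)
    have h3 := pc_e e (w := ⟨v, o.FX hv⟩) h2
    rw [h3] at h1
    have h4 : y = 0 := h1
    exact ⟨τ x, by rw [h2, h4, hτ]⟩
  · rintro ⟨a, rfl⟩
    obtain ⟨x, rfl⟩ := hτb.2 a
    rw [← hτ]
    refine (ok.memF ⟨pc e x 0, (mem_pc e).2 ⟨_, _, rfl⟩⟩).2 ?_
    rw [pc_e e (w := ⟨pc e x 0, (mem_pc e).2 ⟨_, _, rfl⟩⟩) rfl]
    rfl

theorem memA_pc [Finite Y] [Finite V] (ha : 4 ≤ E.index) (x : Y) :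
    x ∈ A.map L.subtype ↔ ∃ s ∈ Q.map L.subtype, ∃ α, x = s * ps φ (u α) := by
  have h := o.nin ok ez ha
  constructor
  · rintro ⟨b, hb, rfl⟩
    obtain ⟨q, hq, q', hq', h1⟩ := o.prod b hb
    obtain ⟨α, h2⟩ := h.conj _ ⟨q', hq', rfl⟩
    refine ⟨q, ⟨q, hq, rfl⟩, α, ?_⟩
    rw [← h2]
    exact h1
  · rintro ⟨_, ⟨q, hq, rfl⟩, α, rfl⟩
    obtain ⟨_, ⟨q', hq', rfl⟩, h2⟩ := h.conj_surj α
    obtain ⟨b, hb, h3⟩ := o.QtA q' hq'
    refine ⟨q * b, mul_mem (o.QA hq) hb, ?_⟩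
    rw [← h2]
    change (q : Y) * (b : Y) = _
    rw [h3]
    rfl

theorem E_pc [Finite Y] [Finite V] (ha : 4 ≤ E.index) (x : V) (hx : x ∈ E) :
    ∃ a b c, x = t • pc e a b + ps φ (w k) • t • pc e c 0 := by
  have h := o.nin ok ez ha
  obtain ⟨τ, hτ, hτ', -, -, -⟩ := h.exists_τ
  rw [o.supE] at hx
  obtain ⟨y, hy, y', hy', rfl⟩ := AddSubgroup.mem_sup.1 hx
  obtain ⟨a, b, rfl⟩ := (mem_pc e).1 hy
  rw [mem_smul_as] at hy'
  obtain ⟨a', b', h1⟩ := (mem_pc e).1 hy'
  have h2 : y' = t • pc e a' b' := by rw [← h1, smul_inv_smul]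
  refine ⟨τ a + a', b', τ b, ?_⟩
  have h3 : pc e a b = pc e a 0 + pc e 0 b := by rw [← h.add, add_zero, zero_add]
  have h4 : pc e (τ a + a') b' = pc e (τ a) 0 + pc e a' b' := by rw [← h.add, zero_add]
  rw [h3, h2, h4, hτ a, hτ' b, smul_add]
  abel

/-- `O₂(C_Y(z))` -/
theorem o2_conj [Finite Y] [Finite V] {g : Y} (hg : g • pc e 1 0 = pc e 1 0) {x : Y}
    (hx : x ∈ ZN.o2 (MulAction.stabilizer Y z)) : g * x * g⁻¹ ∈ ZN.o2 (MulAction.stabilizer Y z) := by
  rw [o.pc_z ok ez] at hg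
  have h1 := ZN.ChoiceSit.le_normalizer_o2 (MulAction.stabilizer Y z) (show g ∈ MulAction.stabilizer Y z from hg)
  exact (mem_normalizer_iff.1 h1 x).1 hx

omit ok ez in
theorem o2_le_T [Finite Y] [Finite V] : ZN.o2 (MulAction.stabilizer Y z) ≤ (T : Subgroup Y) := by
  have f2 : Fact (Nat.Prime 2) := ⟨Nat.prime_two⟩
  have hT : (T : Subgroup Y) ≤ MulAction.stabilizer Y z := fun x hx => o.hyp.zT x hx
  have h1 : IsPGroup 2 ((T : Subgroup Y) ⊔ ZN.o2 (MulAction.stabilizer Y z) : Subgroup Y) :=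
    IsPGroup.to_sup_of_normal_right' T.2 (ZN.ChoiceSit.isPGroup_o2 _)
      (hT.trans (ZN.ChoiceSit.le_normalizer_o2 _))
  have h2 := T.3 h1 le_sup_left
  rw [← h2]
  exact le_sup_right

/-- (Soc5) in coordinates -/
theorem soc_pc [Finite Y] [Finite V] (ha : 4 ≤ E.index)
    (h5 : ∃ x : V, x ∉ F ∧ ∀ y : V, y ∉ E → ∃ s ∈ A.map L.subtype, s ∈ ZN.o2 (MulAction.stabilizer Y z) ∧
      s • y + y + x ∈ F) :
    ∃ a₀ b₀ c₀ e₀ : k, (b₀ ≠ 0 ∨ c₀ ≠ 0 ∨ e₀ ≠ 0) ∧ ∀ m : k, m ≠ 0 → ∃ β α f : k,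
      t * ps φ (u β) * t⁻¹ * ps φ (u α) ∈ ZN.o2 (MulAction.stabilizer Y z) ∧
      (t * ps φ (u β) * t⁻¹ * ps φ (u α)) • ps φ (w k) • t • pc e 0 m + ps φ (w k) • t • pc e 0 m +
        (t • pc e a₀ b₀ + ps φ (w k) • t • pc e c₀ e₀) = t • pc e f 0 := by
  have h := o.nin ok ez ha
  obtain ⟨x, hxF, hx⟩ := h5
  obtain ⟨a₀, b₀, c₀, e₀, rfl⟩ := h.P_surj x
  refine ⟨a₀, b₀, c₀, e₀, ?_, fun m hm => ?_⟩
  · by_contra hcon
    push Not at hcon
    obtain ⟨rfl, rfl, rfl⟩ := hcon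
    apply hxF
    rw [o.mem_F_pc ok ez ha]
    exact ⟨a₀, by rw [h.p0, smul_zero, smul_zero, add_zero]⟩
  · obtain ⟨s, hsA, hsO, hs⟩ := hx (ps φ (w k) • t • pc e 0 m) (by
      intro h1
      obtain ⟨a, b, c, h2⟩ := o.E_pc ok ez ha _ h1
      have h3 : t • pc e 0 0 + ps φ (w k) • t • pc e 0 m = t • pc e a b + ps φ (w k) • t • pc e c 0 := by
        rw [h.p0, smul_zero, zero_add]
        exact h2
      exact hm (h.P_inj h3).2.2.2)
    obtain ⟨s₁, hs₁, α, rfl⟩ := (o.memA_pc ok ez ha s).1 hsA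
    obtain ⟨β, rfl⟩ := h.t_u_surj hs₁
    obtain ⟨f, hf⟩ := (o.mem_F_pc ok ez ha _).1 hs
    exact ⟨β, α, f, hsO, hf⟩

/-- **`NinT`** -/
theorem ninT [Finite Y] [Finite V] (ha : 4 ≤ E.index)
    (h5 : ∃ x : V, x ∉ F ∧ ∀ y : V, y ∉ E → ∃ s ∈ A.map L.subtype, s ∈ ZN.o2 (MulAction.stabilizer Y z) ∧
      s • y + y + x ∈ F) :
    NinT (Q.map L.subtype) (ps φ) (pc e) t (A.map L.subtype) (T : Subgroup Y)
      (ZN.o2 (MulAction.stabilizer Y z)) E F := by
  have h := o.nin ok ez ha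
  obtain ⟨h1, h2⟩ := h.le_o2 (ZN.o2 (MulAction.stabilizer Y z)) (fun g hg x hx => o.o2_conj ok ez hg hx)
    (o.soc_pc ok ez ha h5)
  exact
    { m := mem_map_of o.hyp.loc.mem
      memA := o.memA_pc ok ez ha
      E_le := o.E_pc ok ez ha
      memF := o.mem_F_pc ok ez ha
      T2 := by
        intro x hx
        obtain ⟨n, hn⟩ := T.2 ⟨x, hx⟩
        exact ⟨n, congrArg Subtype.val hn⟩
      TA := by
        intro x hx a ha'
        have h3 := o.TA ha hx
        rw [← h3]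
        exact conj_mem_conj ha'
      CTA := by
        intro x hx hc
        obtain ⟨b, hb, h3⟩ := o.CTA x hx fun b hb => hc _ ⟨b, hb, rfl⟩
        exact ⟨b, hb, h3⟩
      CTX := by
        intro x hx hc
        obtain ⟨b, hb, h3⟩ := o.CTX x hx fun v hv => by
          obtain ⟨a, b, rfl⟩ := (mem_pc e).1 hv
          exact hc a b
        exact ⟨b, hb, h3⟩
      Tz := by
        intro x hx
        rw [o.pc_z ok ez]
        exact o.hyp.zT x hx
      TX := by
        intro x hx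
        rw [Pr_iff, Pr_iff]
        exact o.T_cases ha hx
      cj := by
        intro x hx hP
        rw [Pr_iff] at hP ⊢
        exact o.tk.cj' x hx hP
      tT := o.tk.tT
      Oc := fun g hg x hx => o.o2_conj ok ez hg hx
      OT := o.o2_le_T
      AO := by
        intro x hx
        obtain ⟨s, hs, α, rfl⟩ := (o.memA_pc ok ez ha x).1 hx
        obtain ⟨β, rfl⟩ := h.t_u_surj hs
        exact mul_mem (h2 β) (h1 α) }

end K

end Out

end Cfsg.Agent.Omega.NO1.B0

end

section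


/-!
# THEOREM B0 (bb OMEGA 18835, helper970), the end: `[K₁, K₂] = 1`; `Y` permutes `{K₁, K₂}`

`K₂ = (ps φ).range`, `K₁ = conj t • K₂`.
-/

set_option autoImplicit false
set_option linter.unusedSectionVars false
set_option linter.style.haveILetI false

namespace Cfsg.Agent.Omega.NO1.B0

open Subgroup Cfsg.Agent.Omega.NO1.AB
open Cfsg.Agent.ClassTwo.Sp4Defs (u v d w)
open scoped Pointwise

universe u₁

variable {Y : Type u₁} [Group Y] {V : Type u₁} [AddCommGroup V] [DistribMulAction Y V]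

namespace Out

variable {T : Sylow 2 Y} {M L : Subgroup Y} {A Q L₁ : Subgroup L} {R : Sylow 2 L} {E F : AddSubgroup V}
  {z : V} {t : Y} (o : Out T M L A Q L₁ R E F z t)
  {K : Subgroup L} {k : Type} [Field k] [Finite k] [CharP k 2] {e : ↥(fx V Q) ≃+ (Fin 2 → k)}
  {φ : K ≃* Matrix.SpecialLinearGroup (Fin 2) k} (ok : OutK o K k e φ)
  (ez : ∀ v : ↥(fx V Q), (v : V) = z → e v = ![1, 0])
include ok ez

/-- **`[K₁, K₂] = 1`** -/
theorem comm_ps [Finite Y] [Finite V] (ha : 4 ≤ E.index)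
    (h5 : ∃ x : V, x ∉ F ∧ ∀ y : V, y ∉ E → ∃ s ∈ A.map L.subtype, s ∈ ZN.o2 (MulAction.stabilizer Y z) ∧
      s • y + y + x ∈ F) (g g' : Matrix.SpecialLinearGroup (Fin 2) k) :
    t * ps φ g * t⁻¹ * ps φ g' = ps φ g' * (t * ps φ g * t⁻¹) :=
  (o.nin ok ez ha).comm_K' (o.ninT ok ez ha h5) g g'

theorem norm_K [Finite Y] [Finite V] (ha : 4 ≤ E.index) {y : Y} (hy : y ∈ T) (hyX : y ∈ NX L V Q) :
    MulAut.conj y • (ps φ).range = (ps φ).range := by
  apply conj_eq_self_of_le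
  intro x hx
  rw [mem_conj] at hx
  obtain ⟨m, hm⟩ := hx
  obtain ⟨m', hm'⟩ := (o.nin ok ez ha).nrm ((Pr_iff e).2 hyX) (by
    rw [o.pc_z ok ez]
    exact o.hyp.zT y hy) m
  refine ⟨m', ?_⟩
  rw [← hm', hm]; group

theorem norm_K₁ [Finite Y] [Finite V] (ha : 4 ≤ E.index) {y : Y} (hy : y ∈ T) (hyX : y ∈ NX L V Q) :
    MulAut.conj y • MulAut.conj t • (ps φ).range = MulAut.conj t • (ps φ).range := by
  have h1 := o.norm_K ok ez ha (mul_mem (mul_mem (inv_mem o.tk.tT) hy) o.tk.tT) (o.tk.cj' y hy hyX)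
  rw [conj_smul_smul]
  have e1 : y * t = t * (t⁻¹ * y * t) := by group
  rw [e1, ← conj_smul_smul, h1]

theorem tt_K [Finite Y] [Finite V] (ha : 4 ≤ E.index) :
    MulAut.conj t • MulAut.conj t • (ps φ).range = (ps φ).range := by
  rw [conj_smul_smul]
  exact o.norm_K ok ez ha (mul_mem o.tk.tT o.tk.tT) o.tk.tt

/-- **`Y` permutes `{K₁, K₂}`** -/
theorem perm_K [Finite Y] [Finite V] (ha : 4 ≤ E.index)
    (hc : ∀ g g' : Matrix.SpecialLinearGroup (Fin 2) k, t * ps φ g * t⁻¹ * ps φ g' = ps φ g' * (t * ps φ g * t⁻¹))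
    (y : Y) :
    (MulAut.conj y • (ps φ).range = (ps φ).range ∧
      MulAut.conj y • MulAut.conj t • (ps φ).range = MulAut.conj t • (ps φ).range) ∨
    (MulAut.conj y • (ps φ).range = MulAut.conj t • (ps φ).range ∧
      MulAut.conj y • MulAut.conj t • (ps φ).range = (ps φ).range) := by
  have h := o.nin ok ez ha
  set K₂ : Subgroup Y := (ps φ).range with hK₂
  set K₁ : Subgroup Y := MulAut.conj t • K₂ with hK₁
  let N : Subgroup Y :=
    { carrier := {y | (MulAut.conj y • K₂ = K₂ ∧ MulAut.conj y • K₁ = K₁) ∨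
        (MulAut.conj y • K₂ = K₁ ∧ MulAut.conj y • K₁ = K₂)}
      mul_mem' := by
        intro a b ha hb
        rcases ha with ⟨h1, h2⟩ | ⟨h1, h2⟩ <;> rcases hb with ⟨h3, h4⟩ | ⟨h3, h4⟩
        · left; rw [← conj_smul_smul, ← conj_smul_smul, h3, h4]; exact ⟨h1, h2⟩
        · right; rw [← conj_smul_smul, ← conj_smul_smul, h3, h4]; exact ⟨h2, h1⟩
        · right; rw [← conj_smul_smul, ← conj_smul_smul, h3, h4]; exact ⟨h1, h2⟩
        · left; rw [← conj_smul_smul, ← conj_smul_smul, h3, h4]; exact ⟨h2, h1⟩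
      one_mem' := by
        left
        rw [map_one, one_smul, one_smul]
        exact ⟨rfl, rfl⟩
      inv_mem' := by
        intro a ha
        have hi : ∀ P : Subgroup Y, MulAut.conj a⁻¹ • MulAut.conj a • P = P := by
          intro P
          rw [conj_smul_smul, inv_mul_cancel, map_one, one_smul]
        rcases ha with ⟨h1, h2⟩ | ⟨h1, h2⟩
        · left
          constructor
          · nth_rw 1 [← h1]; exact hi _
          · nth_rw 1 [← h2]; exact hi _
        · right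
          constructor
          · nth_rw 1 [← h2]; exact hi _
          · nth_rw 1 [← h1]; exact hi _ }
  have hT : (T : Subgroup Y) ≤ N := by
    intro x hx
    rcases o.T_cases ha hx with h1 | h1
    · exact Or.inl ⟨o.norm_K ok ez ha hx h1, o.norm_K₁ ok ez ha hx h1⟩
    · right
      have hx' : t⁻¹ * x ∈ T := mul_mem (inv_mem o.tk.tT) hx
      obtain ⟨x', rfl⟩ : ∃ x', x = t * x' := ⟨t⁻¹ * x, by group⟩
      rw [inv_mul_cancel_left] at h1 hx'
      have n1 := o.norm_K ok ez ha hx' h1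
      have n2 := o.norm_K₁ ok ez ha hx' h1
      constructor
      · rw [← conj_smul_smul, n1]
      · rw [← conj_smul_smul, n2, o.tt_K ok ez ha]
  have hL : L ≤ N := by
    intro x hx
    left
    constructor
    · apply conj_eq_self_of_le
      intro y hy
      rw [mem_conj] at hy
      obtain ⟨m, hm⟩ := hy
      rw [ps_apply] at hm
      have h1 := ok.normal.conj_mem (φ.symm m : L) (φ.symm m).2 (⟨x, hx⟩ : L)
      refine ⟨φ ⟨_, h1⟩, ?_⟩
      rw [ps_apply, φ.symm_apply_apply]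
      change x * ((φ.symm m : L) : Y) * x⁻¹ = y
      rw [hm]; group
    · apply conj_eq_self_of_le
      intro y hy
      rw [mem_conj, hK₁, mem_conj] at hy
      obtain ⟨m, hm⟩ := hy
      have e0 : y = x * (t * ps φ m * t⁻¹) * x⁻¹ := by rw [hm]; group
      haveI := o.hyp.loc.Qn
      have h1 : (⟨x, hx⟩ : L) ∈ K ⊔ Q := by rw [ok.sup]; exact mem_top _
      obtain ⟨κ, hκ, q, hq, hκq⟩ := mem_sup_of_normal_right.1 h1
      have e1 : x = (κ : Y) * (q : Y) := (congrArg Subtype.val hκq).symm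
      obtain ⟨β, hβ⟩ := h.t_u_surj (s := (q : Y)) ⟨q, hq, rfl⟩
      have e2 : (κ : Y) = ps φ (φ ⟨κ, hκ⟩) := by rw [ps_apply, φ.symm_apply_apply]
      have e3 : (q : Y) * (t * ps φ m * t⁻¹) * (q : Y)⁻¹ = t * ps φ (u β * m * (u β)⁻¹) * t⁻¹ := by
        rw [hβ, map_mul, map_mul, map_inv]; group
      have e4 : y = t * ps φ (u β * m * (u β)⁻¹) * t⁻¹ := by
        have e5 : y = (κ : Y) * ((q : Y) * (t * ps φ m * t⁻¹) * (q : Y)⁻¹) * (κ : Y)⁻¹ := by
          rw [e0, e1]; group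
        rw [e5, e3, e2, ← hc]; group
      rw [hK₁, mem_conj]
      refine ⟨u β * m * (u β)⁻¹, ?_⟩
      rw [e4]; group
  have hN : N = ⊤ := by
    by_contra hN
    exact o.hyp.LM (hL.trans (o.hyp.uniqM N hT hN))
  have hy : y ∈ N := by rw [hN]; exact mem_top y
  exact hy

end Out

end Cfsg.Agent.Omega.NO1.B0

end

section


/-!
# THEOREM B0 (9), the end: two commuting conjugate `SL₂(k)` permuted by `Y` ⟹ two components
-/

set_option autoImplicit false

namespace Cfsg.Agent.Omega.NO1.B0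

open Subgroup
open scoped Pointwise

universe u

theorem two_comp {Y : Type u} [Group Y] [Finite Y] {k : Type} [Field k] [Finite k] [CharP k 2]
    (hk : 4 ≤ Nat.card k) (ψ : Matrix.SpecialLinearGroup (Fin 2) k →* Y) (hψ : Function.Injective ψ) (t : Y)
    (hcomm : ∀ g g', t * ψ g * t⁻¹ * ψ g' = ψ g' * (t * ψ g * t⁻¹))
    (hperm : ∀ y : Y, (MulAut.conj y • ψ.range = ψ.range ∧
        MulAut.conj y • MulAut.conj t • ψ.range = MulAut.conj t • ψ.range) ∨
      (MulAut.conj y • ψ.range = MulAut.conj t • ψ.range ∧ MulAut.conj y • MulAut.conj t • ψ.range = ψ.range))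
    (one : ∀ L L' : Subgroup Y, Cfsg.IsComponent L → Cfsg.IsComponent L' → L = L') : False := by
  set K₁ : Subgroup Y := ψ.range with hK₁
  set K₂ : Subgroup Y := MulAut.conj t • K₁ with hK₂
  have hq : Cfsg.IsQuasisimple (Matrix.SpecialLinearGroup (Fin 2) k) :=
    SignalizersComponents.SLQuasisimple.isQuasisimple_two hk
  have hq1 : Cfsg.IsQuasisimple K₁ :=
    SignalizersComponents.QsBasic.isQuasisimple_of_mulEquiv (MonoidHom.ofInjective hψ) hq
  have hq2 : Cfsg.IsQuasisimple K₂ :=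
    SignalizersComponents.QsBasic.isQuasisimple_of_mulEquiv (Subgroup.equivSMul (MulAut.conj t) K₁) hq1
  have hcm : ∀ x ∈ K₁, ∀ y ∈ K₂, y * x = x * y := by
    rintro _ ⟨g', rfl⟩ y hy
    rw [hK₂, Subgroup.mem_pointwise_smul_iff_inv_smul_mem] at hy
    obtain ⟨g, hg⟩ := hy
    have h1 : y = t * ψ g * t⁻¹ := by
      rw [hg, ← map_inv, MulAut.smul_def, MulAut.conj_apply]
      group
    rw [h1]
    exact hcomm g g'
  set N : Subgroup Y := K₁ ⊔ K₂ with hN
  have hNn : N.Normal := by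
    constructor
    intro n hn y
    have h1 : MulAut.conj y • N = N := by
      rw [hN, Subgroup.smul_sup]
      rcases hperm y with ⟨h1, h2⟩ | ⟨h1, h2⟩
      · rw [h1, h2]
      · rw [h1, h2, sup_comm]
    have h2 := Subgroup.smul_mem_pointwise_smul n (MulAut.conj y) N hn
    rw [h1] at h2
    exact h2
  have hNs : N.IsSubnormal := by
    refine .step N ⊤ le_top .top ?_
    infer_instance
  have hs : ∀ K K' : Subgroup Y, K ≤ N → K ⊔ K' = N → (∀ x ∈ K, ∀ y ∈ K', y * x = x * y) → K.IsSubnormal := by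
    intro K K' hle hsup hc
    refine .step K N hle hNs ?_
    have h1 : N ≤ normalizer (K : Set Y) := by
      rw [← hsup]
      refine sup_le le_normalizer ?_
      intro y hy
      rw [mem_normalizer_iff]
      intro x
      constructor
      · intro hx
        rw [hc x hx y hy, mul_inv_cancel_right]
        exact hx
      · intro hx
        have h3 := hc _ hx y hy
        have h4 : x = y * x * y⁻¹ := by
          have h5 : y * (y * x * y⁻¹) = y * x := by rw [h3]; group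
          exact (mul_left_cancel h5).symm
        rw [h4]; exact hx
    exact normal_subgroupOf_iff_le_normalizer hle |>.2 h1
  have h1 : Cfsg.IsComponent K₁ := ⟨hs K₁ K₂ le_sup_left rfl hcm, hq1⟩
  have h2 : Cfsg.IsComponent K₂ := ⟨hs K₂ K₁ le_sup_right (sup_comm _ _) fun x hx y hy => (hcm y hy x hx).symm, hq2⟩
  have h3 := one K₁ K₂ h1 h2
  have h4 : ∀ x y : K₁, x * y = y * x := by
    intro x y
    apply Subtype.ext
    have hy : (y : Y) ∈ K₂ := by rw [← h3]; exact y.2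
    exact (hcm x x.2 y hy).symm
  have h5 : center K₁ = ⊤ := by
    rw [eq_top_iff]
    intro x _
    rw [mem_center_iff]
    exact fun y => h4 y x
  have h6 := hq1.2.exists_pair_ne
  obtain ⟨x, y, hxy⟩ := h6
  apply hxy
  induction x using QuotientGroup.induction_on with
  | H x =>
    induction y using QuotientGroup.induction_on with
    | H y =>
      rw [QuotientGroup.eq, h5]
      exact mem_top _

end Cfsg.Agent.Omega.NO1.B0

end

section


/-!
# N1, one component: the BETA case of `Fin` is impossible at the top (THEOREM B0, bb OMEGA 18835, helper970)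

`false_of_beta` (socket of 406, bb OMEGA 22616).
-/

set_option autoImplicit false
set_option linter.unusedSectionVars false
set_option linter.style.haveILetI false

namespace Cfsg.Agent.Omega.NO1.TH

open Subgroup Cfsg.Agent.Omega.NO1.AB Cfsg.Agent.Omega.NO1.B0
open scoped Pointwise

universe u

variable {Y : Type u} [Group Y] {V : Type u} [AddCommGroup V] [DistribMulAction Y V]

/-- **BETA is impossible** (`a ≥ 4`, weakly irreducible, one component, (Soc5)). -/
theorem false_of_beta [Finite Y] [Finite V] {U : Set (Subgroup Y)} {T : Sylow 2 Y} {M : Subgroup Y} {a : ℕ}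
    (w : World V U T M a) (ha : 4 ≤ a)
    (one : ∀ L L' : Subgroup Y, Cfsg.IsComponent L → Cfsg.IsComponent L' → L = L') (h5 : Soc5 V U)
    {L A : Subgroup Y} {Q : Subgroup L} {R : Sylow 2 L} (hA : A ∈ U) (hAL : A ≤ L) (hLM : ¬ L ≤ M)
    (hRT : (R : Subgroup L).map L.subtype ≤ (T : Subgroup Y))
    (h0 : Loc0 (A.subgroupOf L) (Ee V A) (fx V A) Q (M.subgroupOf L) R) (hC : fx V L = ⊥)
    (hne : A.subgroupOf L ⊓ Q ≠ ⊥) : False := by
  have hoff : ∀ B : Subgroup Y, (∀ b ∈ B, b * b = 1) → B ≠ ⊥ → Nat.card B * Nat.card ↥(fx V B) < Nat.card V := by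
    intro B hB hB1
    have h1 : ∀ x ∈ B, ∀ y ∈ B, x * y = y * x := by
      intro x hx y hy
      have e1 := hB _ (mul_mem hx hy)
      have e2 : x⁻¹ = x := inv_eq_of_mul_eq_one_left (hB x hx)
      have e3 : y⁻¹ = y := inv_eq_of_mul_eq_one_left (hB y hy)
      have e4 : x * y = (x * y)⁻¹ := (inv_eq_of_mul_eq_one_left e1).symm
      rw [e4, mul_inv_rev, e2, e3]
    have h2 := w.noff B h1 hB hB1
    have h3 := (fx V B).card_mul_index
    have h4 : 0 < Nat.card ↥(fx V B) := Nat.card_pos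
    rw [← h3, mul_comm]
    exact Nat.mul_lt_mul_of_pos_left h2 h4
  obtain ⟨T', z, t, o⟩ := exists_out_of hLM hRT h0 hC hne w.faith
    (fun W hW hWE => (w.irr W hW).resolve_right fun h1 => h1 A hA hWE) hoff w.TM w.Mne w.max
  obtain ⟨k, i1, i2, i3, e, K, φ, ok, ez⟩ := o.exists_K
  have hE : 4 ≤ (Ee V A).index := by rw [w.ind A hA]; exact ha
  have hAm : (A.subgroupOf L).map L.subtype = A := by
    rw [subgroupOf_map_subtype]
    exact inf_eq_left.2 hAL
  have hz : z ∈ fx V A := o.hyp.loc.z_mem.2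
  have h6 : ∃ x : V, x ∉ fx V A ∧ ∀ y : V, y ∉ Ee V A → ∃ s ∈ (A.subgroupOf L).map L.subtype,
      s ∈ ZN.o2 (MulAction.stabilizer Y z) ∧ s • y + y + x ∈ fx V A := by
    obtain ⟨x, hx, h7⟩ := h5 A hA z o.hyp.z_ne hz
    refine ⟨x, hx, fun y hy => ?_⟩
    obtain ⟨s, hs, h8, h9⟩ := h7 y hy
    exact ⟨s, by rw [hAm]; exact hs, h8, h9⟩
  have hc := o.comm_ps ok ez hE h6
  exact two_comp (by rw [ok.card]; exact hE) (ps φ) (o.nin ok ez hE).ψ_inj' t hc (o.perm_K ok ez hE hc) one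

end Cfsg.Agent.Omega.NO1.TH

end
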