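import Cfsg.Agent.Mrg.Omega.NO1.B0.Fld
import Cfsg.Agent.Mrg.Omega.NO1.AB.Beta

section


/-!
# THEOREM B0 (bb OMEGA 18835, helper970): (S1), (S2), the 2-element `t`

`N_Y(X)` acts semilinearly on `X`; a member in `T_X = N_T(X)` centralises `X₁` (`s1`); a 2-element of `T_X` which
centralises `X₁` is a transvection (or 1) on `X` (`s2`, `s2'`).
-/

set_option autoImplicit false
set_option linter.unusedSectionVars false
set_option linter.style.haveILetI false

namespace Cfsg.Agent.Omega.NO1.B0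

open Subgroup Cfsg.Agent.Omega.NO1.AB
open scoped Pointwise MatrixGroups

universe u

/-- a proper subgroup of a 2-group -/
theorem exists_sq {P : Type*} [Group P] [Finite P] (hP : IsPGroup 2 P) (H : Subgroup P) (hH : H ≠ ⊤) :
    ∃ t, t ∉ H ∧ t * t ∈ H ∧ ∀ x, x ∈ H ↔ t * x * t⁻¹ ∈ H := by
  have : Fact (Nat.Prime 2) := ⟨Nat.prime_two⟩
  have : Group.IsNilpotent P := hP.isNilpotent
  have h1 := Group.normalizerCondition_of_isNilpotent H (lt_top_iff_ne_top.2 hH)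
  obtain ⟨t, ht1, ht2⟩ := Set.exists_of_ssubset h1
  have hex : ∃ n : ℕ, t ^ 2 ^ n ∈ H := by
    obtain ⟨n, hn⟩ := hP t
    exact ⟨n, by rw [hn]; exact one_mem _⟩
  classical
  set n := Nat.find hex with hn
  have h2 : t ^ 2 ^ n ∈ H := Nat.find_spec hex
  have h3 : n ≠ 0 := by
    intro h4
    rw [h4, pow_zero, pow_one] at h2
    exact ht2 h2
  obtain ⟨m, hm⟩ := Nat.exists_eq_succ_of_ne_zero h3
  refine ⟨t ^ 2 ^ m, ?_, ?_, ?_⟩
  · exact Nat.find_min hex (by rw [← hn, hm]; exact Nat.lt_succ_self m)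
  · rw [← pow_add]
    have e : 2 ^ m + 2 ^ m = 2 ^ n := by rw [hm, pow_succ]; ring
    rw [e]
    exact h2
  · have h4 : t ^ 2 ^ m ∈ normalizer (H : Set P) := pow_mem ht1 _
    exact mem_normalizer_iff.1 h4

variable {Y : Type u} [Group Y] {V : Type u} [AddCommGroup V] [DistribMulAction Y V]

/-- a member with (MU) -/
structure MemU (B : Subgroup Y) (E F : AddSubgroup V) : Prop extends Mem B E F where
  mu : ∀ B₀ ≤ B, Nat.card B₀ * Nat.card ↥(fx V B₀ ⊓ E) ≤ Nat.card E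

theorem MemU.conj {B : Subgroup Y} {E F : AddSubgroup V} (h : MemU B E F) (y : Y) :
    MemU (MulAut.conj y • B) (y • E) (y • F) := by
  have key : ∀ {b : Y}, b ∈ MulAut.conj y • B → ∃ c ∈ B, b = y * c * y⁻¹ := by
    intro b hb
    rw [mem_conj] at hb
    exact ⟨_, hb, by group⟩
  have hs : ∀ (c : Y) (v : V), y⁻¹ • (y * c * y⁻¹) • v = c • y⁻¹ • v := by
    intro c v
    rw [← mul_smul, ← mul_smul]
    congr 1
    group
  exact
    { comm := by
        intro b hb b' hb'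
        obtain ⟨c, hc, rfl⟩ := key hb
        obtain ⟨c', hc', rfl⟩ := key hb'
        have e1 : y * c * y⁻¹ * (y * c' * y⁻¹) = y * (c * c') * y⁻¹ := by group
        rw [e1, h.comm c hc c' hc']
        group
      sq := by
        intro b hb
        obtain ⟨c, hc, rfl⟩ := key hb
        have e1 : y * c * y⁻¹ * (y * c * y⁻¹) = y * (c * c) * y⁻¹ := by group
        rw [e1, h.sq c hc]
        group
      FE := by
        intro v hv
        rw [mem_smul_as] at hv ⊢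
        exact h.FE hv
      VB := by
        intro b hb v
        obtain ⟨c, hc, rfl⟩ := key hb
        rw [mem_smul_as, smul_add, hs]
        exact h.VB c hc _
      EB := by
        intro b hb e he
        obtain ⟨c, hc, rfl⟩ := key hb
        rw [mem_smul_as] at he ⊢
        rw [smul_add, hs]
        exact h.EB c hc _ he
      FB := by
        intro b hb f hf
        obtain ⟨c, hc, rfl⟩ := key hb
        rw [mem_smul_as] at hf
        have h1 := h.FB c hc _ hf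
        rw [← hs, smul_left_cancel_iff] at h1
        exact h1
      CB := by
        intro v hv
        rw [mem_smul_as]
        apply h.CB
        intro c hc
        rw [← hs, hv _ (conj_mem_conj hc)]
      inj := by
        intro w hw b hb hbw
        obtain ⟨c, hc, rfl⟩ := key hb
        rw [mem_smul_as] at hw hbw
        rw [smul_add, hs] at hbw
        rw [h.inj _ hw c hc hbw]
        group
      surj := by
        intro w hw e he
        rw [mem_smul_as] at hw he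
        obtain ⟨c, hc, h1⟩ := h.surj _ hw _ he
        refine ⟨_, conj_mem_conj hc, ?_⟩
        rw [mem_smul_as, smul_add, smul_add, hs]
        exact h1
      ne := by
        obtain ⟨v, hv⟩ := h.ne
        refine ⟨y • v, ?_⟩
        rwa [mem_smul_as, inv_smul_smul]
      mu := by
        intro B₀ hB₀
        have h1 := h.mu (MulAut.conj y⁻¹ • B₀) (by
          rw [conj_le_iff, inv_inv]
          exact hB₀)
        have h2 : Nat.card (MulAut.conj y⁻¹ • B₀ : Subgroup Y) = Nat.card B₀ :=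
          (Nat.card_congr (Subgroup.equivSMul (MulAut.conj y⁻¹) B₀).toEquiv).symm
        have h3 : Nat.card ↥(fx V (MulAut.conj y⁻¹ • B₀) ⊓ E) = Nat.card ↥(fx V B₀ ⊓ y • E) := by
          rw [← card_smul_as y (fx V (MulAut.conj y⁻¹ • B₀) ⊓ E)]
          congr 2
          ext v
          rw [mem_smul_as, AddSubgroup.mem_inf, AddSubgroup.mem_inf, mem_smul_as]
          refine and_congr_left fun _ => ?_
          constructor
          · intro hv b hb
            have h4 := hv (y⁻¹ * b * y⁻¹⁻¹) (conj_mem_conj hb)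
            rw [inv_inv, mul_smul, mul_smul, smul_inv_smul, smul_left_cancel_iff] at h4
            exact h4
          · intro hv b hb
            rw [mem_conj, inv_inv] at hb
            have h4 := hv _ hb
            rw [mul_smul, mul_smul] at h4
            rw [eq_inv_smul_iff]
            exact h4
        rw [h2, h3] at h1
        rwa [card_smul_as] }

/-- coordinates -/
structure Co {L : Subgroup Y} (Q : Subgroup L) (F : AddSubgroup V) (z : V) (K : Type) [Field K]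
    (e : ↥(fx V Q) ≃+ (Fin 2 → K)) : Prop where
  card : Nat.card K = Nat.card ↥(fx V Q ⊓ F)
  memF : ∀ v : ↥(fx V Q), (v : V) ∈ F ↔ e v 1 = 0
  act : ∀ l : L, ∃ s : Matrix (Fin 2) (Fin 2) K, ∀ v w : ↥(fx V Q), (w : V) = l • (v : V) → e w = s.mulVec (e v)
  ez : ∀ v : ↥(fx V Q), (v : V) = z → e v = ![1, 0]

/-- the action of `y ∈ N_Y(X)` on `X` -/
def gy {L : Subgroup Y} {Q : Subgroup L} {y : Y} (hy : y ∈ NX L V Q) : ↥(fx V Q) →+ ↥(fx V Q) where
  toFun v := ⟨y • (v : V), NX_smul hy v.2⟩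
  map_zero' := Subtype.ext (smul_zero y)
  map_add' v w := Subtype.ext (smul_add y (v : V) (w : V))

theorem gy_apply {L : Subgroup Y} {Q : Subgroup L} {y : Y} (hy : y ∈ NX L V Q) (v : ↥(fx V Q)) :
    (gy hy v : V) = y • (v : V) := rfl

/-- ... in coordinates -/
def ge {L : Subgroup Y} {Q : Subgroup L} {K : Type} [Field K] (e : ↥(fx V Q) ≃+ (Fin 2 → K)) {y : Y}
    (hy : y ∈ NX L V Q) : (Fin 2 → K) →+ (Fin 2 → K) :=
  (e.toAddMonoidHom.comp (gy hy)).comp e.symm.toAddMonoidHom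

theorem ge_apply {L : Subgroup Y} {Q : Subgroup L} {K : Type} [Field K] (e : ↥(fx V Q) ≃+ (Fin 2 → K)) {y : Y}
    (hy : y ∈ NX L V Q) (v : Fin 2 → K) : ge e hy v = e (gy hy (e.symm v)) := rfl

theorem ge_e {L : Subgroup Y} {Q : Subgroup L} {K : Type} [Field K] (e : ↥(fx V Q) ≃+ (Fin 2 → K)) {y : Y}
    (hy : y ∈ NX L V Q) (v : ↥(fx V Q)) : ge e hy (e v) = e (gy hy v) := by
  rw [ge_apply, AddEquiv.symm_apply_apply]

/-- `y` is trivial on `X` -/
theorem ge_triv {L : Subgroup Y} {Q : Subgroup L} {K : Type} [Field K] (e : ↥(fx V Q) ≃+ (Fin 2 → K)) {y : Y}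
    (hy : y ∈ NX L V Q) : (∀ v, ge e hy v = v) ↔ ∀ x ∈ fx V Q, y • x = x := by
  constructor
  · intro h1 x hx
    have h2 := h1 (e ⟨x, hx⟩)
    rw [ge_e] at h2
    exact congrArg Subtype.val (e.injective h2)
  · intro h1 v
    rw [ge_apply]
    have : gy hy (e.symm v) = e.symm v := Subtype.ext (h1 _ (e.symm v).2)
    rw [this, AddEquiv.apply_symm_apply]

namespace Hyp0

variable {T : Sylow 2 Y} {M L : Subgroup Y} {A Q L₁ : Subgroup L} {R : Sylow 2 L} {E F : AddSubgroup V}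
  {z : V} (h : Hyp0 T M L A Q L₁ R E F z)
include h

theorem exists_co [Finite Y] [Finite V] :
    ∃ (K : Type) (_ : Field K) (_ : Fintype K) (_ : CharP K 2) (e : ↥(fx V Q) ≃+ (Fin 2 → K)), Co Q F z K e := by
  obtain ⟨K, i1, i2, i3, e, h1, h2, h3, h4, h5⟩ := exists_coord' h.loc h.beta h.C0
  refine ⟨K, i1, i2, i3, e, h1, h2, fun l => ?_, fun v hv => ?_⟩
  · obtain ⟨s, hs⟩ := h3 l
    refine ⟨s.1, fun v w hw => ?_⟩
    rw [← hs v]
    congr 1
    exact Subtype.ext hw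
  · rw [← h5]
    congr 1
    exact Subtype.ext hv

theorem line [Finite Y] [Finite V] {K : Type} [Field K] {e : ↥(fx V Q) ≃+ (Fin 2 → K)} (hc : Co Q F z K e)
    {y : Y} (hy : y ∈ NX L V Q) (v : Fin 2 → K) (k : K) : ∃ k' : K, ge e hy (k • v) = k' • ge e hy v := by
  by_cases hv : v = 0
  · exact ⟨0, by rw [hv, smul_zero, zero_smul, map_zero]⟩
  set x := e.symm v with hx
  have hev : e x = v := e.apply_symm_apply v
  set x' := e.symm (k • v) with hx'
  have hev' : e x' = k • v := e.apply_symm_apply _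
  have hx0 : (x : V) ≠ 0 := by
    intro h1
    apply hv
    have : x = 0 := Subtype.ext h1
    rw [← hev, this, map_zero]
  obtain ⟨l, hl⟩ := h.trans x.2 hx0
  obtain ⟨s, hs⟩ := hc.act l⁻¹
  have hlx : l⁻¹ • (x : V) = z := by rw [← hl, inv_smul_smul]
  -- `l⁻¹ x' ∈ X₁`
  have h1 : e ⟨l⁻¹ • (x' : V), h.loc.smul_X _ x'.2⟩ = ![k, 0] := by
    rw [hs x' _ rfl, hev', Matrix.mulVec_smul, ← hev, ← hs x ⟨l⁻¹ • (x : V), h.loc.smul_X _ x.2⟩ rfl,
      hc.ez _ hlx, smul_vec, mul_one, mul_zero]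
  have h2 : l⁻¹ • (x' : V) ∈ fx V Q ⊓ F :=
    ⟨h.loc.smul_X _ x'.2, (hc.memF ⟨l⁻¹ • (x' : V), h.loc.smul_X _ x'.2⟩).2 (by rw [h1]; rfl)⟩
  have h3 : l⁻¹ • (x : V) ∈ fx V Q ⊓ F := by rw [hlx]; exact h.loc.z_mem
  obtain ⟨m, hm⟩ := h.comp hy l
  have h4 := hm _ h2
  have h5 := hm _ h3
  obtain ⟨sm, hsm⟩ := hc.act m
  set u : ↥(fx V Q) := ⟨m⁻¹ • (y • (x : V)), h5.1⟩ with hu
  set u' : ↥(fx V Q) := ⟨m⁻¹ • (y • (x' : V)), h4.1⟩ with hu'
  have h6 : e (gy hy x) = sm.mulVec (e u) := hsm u _ (by rw [gy_apply, hu, smul_inv_smul])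
  have h7 : e (gy hy x') = sm.mulVec (e u') := hsm u' _ (by rw [gy_apply, hu', smul_inv_smul])
  have hu1 : e u 1 = 0 := (hc.memF u).1 h5.2
  have hu'1 : e u' 1 = 0 := (hc.memF u').1 h4.2
  have hu0 : e u 0 ≠ 0 := by
    intro h8
    have h9 : e u = 0 := by
      ext i
      fin_cases i
      · exact h8
      · exact hu1
    rw [map_eq_zero_iff e e.injective] at h9
    have h10 : m⁻¹ • (y • (x : V)) = 0 := congrArg Subtype.val h9
    rw [smul_eq_zero_iff_eq, smul_eq_zero_iff_eq] at h10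
    exact hx0 h10
  refine ⟨e u' 0 / e u 0, ?_⟩
  have h8 : e u' = (e u' 0 / e u 0) • e u := by
    ext i
    fin_cases i
    · change e u' 0 = e u' 0 / e u 0 * e u 0
      rw [div_mul_cancel₀ _ hu0]
    · change e u' 1 = e u' 0 / e u 0 * e u 1
      rw [hu1, hu'1, mul_zero]
  rw [ge_apply, ge_apply, ← hx, ← hx', h6, h7, h8, Matrix.mulVec_smul, ← h8]

theorem semi [Finite Y] [Finite V] {K : Type} [Field K] {e : ↥(fx V Q) ≃+ (Fin 2 → K)} (hc : Co Q F z K e)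
    {y : Y} (hy : y ∈ NX L V Q) (hyz : y • z = z) :
    ∃ (α : K →+* K) (β δ : K), β ≠ 0 ∧ ∀ x y', ge e hy ![x, y'] = ![α x + δ * α y', β * α y'] := by
  haveI : Finite K := by
    have : Finite (Fin 2 → K) := Finite.of_equiv _ e.toEquiv
    exact Finite.of_injective (fun k : K => (fun _ : Fin 2 => k)) fun a b hab => congrFun hab 0
  apply B0.semi (ge e hy) _ (h.line hc hy)
  · have h1 : ![1, 0] = e ⟨z, h.loc.z_mem.1⟩ := (hc.ez _ rfl).symm
    rw [h1, ge_e]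
    congr 1
    exact Subtype.ext hyz
  · intro v w hvw
    rw [ge_apply, ge_apply] at hvw
    have h1 := congrArg Subtype.val (e.injective hvw)
    rw [gy_apply, gy_apply, smul_left_cancel_iff] at h1
    exact e.symm.injective (Subtype.ext h1)

theorem fin_K [Finite V] {K : Type} [Field K] (e : ↥(fx V Q) ≃+ (Fin 2 → K)) : Finite K := by
  have : Finite (Fin 2 → K) := Finite.of_equiv _ e.toEquiv
  exact Finite.of_injective (fun k : K => (fun _ : Fin 2 => k)) fun a b hab => congrFun hab 0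

/-- **(S1)** -/
theorem s1 [Finite Y] [Finite V] {P : Subgroup Y} {E' F' : AddSubgroup V} (hm : MemU P E' F')
    (hP : ∀ p ∈ P, p ∈ NX L V Q ∧ p • z = z) (hcard : Nat.card ↥(fx V Q) ≤ Nat.card P) :
    ∀ p ∈ P, ∀ x ∈ fx V Q ⊓ F, p • x = x := by
  classical
  obtain ⟨K, i1, i2, i3, e, hc⟩ := h.exists_co
  haveI : Finite K := h.fin_K e
  -- `X ≤ E'`
  have hXE : fx V Q ≤ E' := by
    intro x hx
    by_contra hxE
    let f : Option P → ↥(fx V Q) := fun p => p.elim 0 fun p => ⟨(p : Y) • x, NX_smul (hP p p.2).1 hx⟩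
    have hx0 : x ≠ 0 := fun h1 => hxE (h1 ▸ E'.zero_mem)
    have hf : Function.Injective f := by
      rintro (_ | p) (_ | p') hpp
      · rfl
      · exfalso
        have h1 : (0 : V) = (p' : Y) • x := congrArg Subtype.val hpp
        rw [eq_comm, smul_eq_zero_iff_eq] at h1
        exact hx0 h1
      · exfalso
        have h1 : (p : Y) • x = 0 := congrArg Subtype.val hpp
        rw [smul_eq_zero_iff_eq] at h1
        exact hx0 h1
      · have h1 : (p : Y) • x = (p' : Y) • x := congrArg Subtype.val hpp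
        have h2 := hm.inj x hxE ((p' : Y)⁻¹ * p) (mul_mem (inv_mem p'.2) p.2) (by
          rw [mul_smul, h1, inv_smul_smul, h.two]
          exact F'.zero_mem)
        congr 1
        apply Subtype.ext
        rw [inv_mul_eq_one] at h2
        exact h2.symm
    have h1 := Nat.card_le_card_of_injective f hf
    rw [Finite.card_option] at h1
    omega
  let g : P → ((Fin 2 → K) →+ (Fin 2 → K)) := fun p => ge e (hP p p.2).1
  have hg1 : ∀ v, g 1 v = v := by
    rw [ge_triv]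
    intro x _
    exact one_smul Y x
  have hgm : ∀ p q v, g (p * q) v = g p (g q v) := by
    intro p q v
    change e (gy _ (e.symm v)) = e (gy _ (e.symm (e (gy _ (e.symm v)))))
    rw [e.symm_apply_apply]
    congr 1
    exact Subtype.ext (mul_smul (p : Y) (q : Y) _)
  have key := triv_of_mu g hg1 hgm (fun p => Subtype.ext (hm.sq p p.2))
    (fun p => h.semi hc (hP p p.2).1 (hP p p.2).2) (by
      -- (MU)
      let P₀ : Subgroup Y :=
        { carrier := {p | p ∈ P ∧ ∀ x ∈ fx V Q, p • x = x}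
          mul_mem' := fun {a b} ha hb => ⟨mul_mem ha.1 hb.1, fun x hx => by rw [mul_smul, hb.2 x hx, ha.2 x hx]⟩
          one_mem' := ⟨one_mem _, fun x _ => one_smul Y x⟩
          inv_mem' := fun {a} ha => ⟨inv_mem ha.1, fun x hx => by rw [inv_smul_eq_iff, ha.2 x hx]⟩ }
      have h1 := hm.mu P₀ (fun p hp => hp.1)
      rw [hm.card_E h.two] at h1
      have h2 : fx V Q ⊔ F' ≤ fx V P₀ ⊓ E' := by
        refine sup_le (le_inf (fun x hx p hp => hp.2 x hx) hXE) (le_inf ?_ hm.FE)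
        intro f hf p hp
        exact hm.FB p hp.1 f hf
      have h3 : Nat.card ↥(fx V Q ⊔ F') ≤ Nat.card ↥(fx V P₀ ⊓ E') :=
        Nat.card_le_card_of_injective _ (AddSubgroup.inclusion_injective h2)
      have h4 := card_sup_as (fx V Q) F'
      have h5 : Nat.card {p : P | ∀ v, g p v = v} = Nat.card P₀ := by
        apply Nat.card_congr
        exact
          { toFun := fun p => ⟨p.1.1, p.1.2, (ge_triv e _).1 p.2⟩
            invFun := fun p => ⟨⟨p.1, p.2.1⟩, (ge_triv e _).2 p.2.2⟩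
            left_inv := fun p => rfl
            right_inv := fun p => rfl }
      have h6 : Nat.card {v : Fin 2 → K | ∀ p, g p v = v} = Nat.card ↥(fx V Q ⊓ F') := by
        apply Nat.card_congr
        exact
          { toFun := fun v => ⟨(e.symm v.1 : V), (e.symm v.1).2, hm.CB _ fun p hp => by
              have h7 := v.2 ⟨p, hp⟩
              have h8 : gy (hP p hp).1 (e.symm v.1) = e.symm v.1 := by
                apply e.injective
                rw [e.apply_symm_apply]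
                exact h7
              exact congrArg Subtype.val h8⟩
            invFun := fun v => ⟨e ⟨v.1, v.2.1⟩, fun p => by
              change ge e _ _ = _
              rw [ge_e]
              congr 1
              exact Subtype.ext (hm.FB p p.2 _ v.2.2)⟩
            left_inv := fun v => Subtype.ext (e.apply_symm_apply v.1)
            right_inv := fun v => Subtype.ext (by
              change ((e.symm (e ⟨v.1, v.2.1⟩) : ↥(fx V Q)) : V) = v.1
              rw [e.symm_apply_apply]) }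
      have h7 : Nat.card K ^ 2 = Nat.card ↥(fx V Q) := by
        rw [Nat.card_congr e.toEquiv, Nat.card_fun, Nat.card_fin]
      rw [h5, h6, h7]
      have hF0 : 0 < Nat.card F' := Nat.card_pos
      apply Nat.le_of_mul_le_mul_left _ hF0
      calc Nat.card F' * (Nat.card P₀ * Nat.card ↥(fx V Q))
          = Nat.card P₀ * (Nat.card ↥(fx V Q ⊔ F') * Nat.card ↥(fx V Q ⊓ F')) := by rw [h4]; ring
        _ ≤ Nat.card P₀ * (Nat.card ↥(fx V P₀ ⊓ E') * Nat.card ↥(fx V Q ⊓ F')) :=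
          Nat.mul_le_mul_left _ (Nat.mul_le_mul_right _ h3)
        _ = Nat.card P₀ * Nat.card ↥(fx V P₀ ⊓ E') * Nat.card ↥(fx V Q ⊓ F') := by ring
        _ ≤ Nat.card F' * Nat.card P * Nat.card ↥(fx V Q ⊓ F') := Nat.mul_le_mul_right _ h1
        _ = _ := by ring)
  intro p hp x hx
  have h1 := key ⟨p, hp⟩ (e ⟨x, hx.1⟩ 0)
  have h2 : e ⟨x, hx.1⟩ = ![e ⟨x, hx.1⟩ 0, 0] := by
    have h3 := vec_eq (e ⟨x, hx.1⟩)
    rw [(hc.memF ⟨x, hx.1⟩).1 hx.2] at h3
    exact h3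
  rw [← h2] at h1
  change ge e _ (e ⟨x, hx.1⟩) = _ at h1
  rw [ge_e] at h1
  exact congrArg Subtype.val (e.injective h1)

/-- **(S2)** -/
theorem s2 [Finite Y] [Finite V] {p : Y} (hp : p ∈ T) (hpX : p ∈ NX L V Q)
    (hp1 : ∀ x ∈ fx V Q ⊓ F, p • x = x) :
    (∀ x ∈ fx V Q, p • x + x ∈ fx V Q ⊓ F) ∧
      ∀ v ∈ fx V Q, v ∉ F → p • v = v → ∀ x ∈ fx V Q, p • x = x := by
  obtain ⟨K, i1, i2, i3, e, hc⟩ := h.exists_co
  haveI : Finite K := h.fin_K e
  obtain ⟨α, β, δ, hβ, hg⟩ := h.semi hc hpX (h.zT p hp)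
  have hα : ∀ x, α x = x := by
    intro x
    have h1 : (e.symm ![x, 0] : V) ∈ F := (hc.memF _).2 (by rw [e.apply_symm_apply]; rfl)
    have h2 : gy hpX (e.symm ![x, 0]) = e.symm ![x, 0] := Subtype.ext (hp1 _ ⟨(e.symm ![x, 0]).2, h1⟩)
    have h3 := hg x 0
    rw [ge_apply, h2, e.apply_symm_apply] at h3
    have h4 := (vec_inj h3).1
    rw [map_zero, mul_zero, add_zero] at h4
    exact h4.symm
  -- `β = 1`
  have hβ1 : β = 1 := by
    obtain ⟨n, hn⟩ := T.2 ⟨p, hp⟩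
    have hn' : p ^ 2 ^ n = 1 := congrArg Subtype.val hn
    have hk : ∀ (k : ℕ) (w : ↥(fx V Q)), (w : V) = p ^ k • (e.symm ![0, 1] : V) → e w 1 = β ^ k := by
      intro k
      induction k with
      | zero =>
        intro w hw
        have : w = e.symm ![0, 1] := Subtype.ext (by rw [hw, pow_zero, one_smul])
        rw [this, e.apply_symm_apply, pow_zero]; rfl
      | succ k ih =>
        intro w hw
        have hw' : p ^ k • (e.symm ![0, 1] : V) ∈ fx V Q := NX_smul (pow_mem hpX k) (e.symm ![0, 1]).2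
        have h1 : w = gy hpX ⟨_, hw'⟩ := Subtype.ext (by rw [gy_apply, hw, pow_succ', mul_smul])
        rw [h1, ← ge_e, vec_eq (e ⟨_, hw'⟩), hg, pow_succ', hα, hα]
        change β * e ⟨_, hw'⟩ 1 = _
        rw [ih _ rfl]
    have h1 := hk (2 ^ n) (e.symm ![0, 1]) (by rw [hn', one_smul])
    rw [e.apply_symm_apply] at h1
    have h3 : β ^ 2 ^ n = 1 := h1.symm
    have h4 : (β - 1) ^ 2 ^ n = 0 := by
      rw [sub_pow_char_pow, one_pow, h3, sub_self]
    exact sub_eq_zero.1 (pow_eq_zero_iff (pow_ne_zero n two_ne_zero) |>.1 h4)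
  have hg' : ∀ x y, ge e hpX ![x, y] = ![x + δ * y, y] := by
    intro x y
    rw [hg, hα, hα, hβ1, one_mul]
  constructor
  · intro x hx
    refine ⟨(fx V Q).add_mem (NX_smul hpX hx) hx, ?_⟩
    have h1 := (hc.memF (gy hpX ⟨x, hx⟩ + ⟨x, hx⟩)).2 (by
      rw [map_add, ← ge_e, vec_eq (e ⟨x, hx⟩), hg', add_vec]
      change e ⟨x, hx⟩ 1 + e ⟨x, hx⟩ 1 = 0
      exact CharTwo.add_self_eq_zero _)
    exact h1
  · intro v hv hvF hpv
    have h1 : e ⟨v, hv⟩ 1 ≠ 0 := fun h2 => hvF ((hc.memF ⟨v, hv⟩).2 h2)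
    have h2 : gy hpX ⟨v, hv⟩ = ⟨v, hv⟩ := Subtype.ext hpv
    have h3 : ge e hpX (e ⟨v, hv⟩) = e ⟨v, hv⟩ := by rw [ge_e, h2]
    rw [vec_eq (e ⟨v, hv⟩), hg'] at h3
    have h4 := (vec_inj h3).1
    have h5 : δ = 0 := by
      have h6 : δ * e ⟨v, hv⟩ 1 = 0 := by
        have := h4
        rwa [add_eq_left] at this
      exact (mul_eq_zero.1 h6).resolve_right h1
    rw [← ge_triv e hpX]
    intro w
    rw [vec_eq w, hg', h5, zero_mul, add_zero]

end Hyp0

/-- the 2-element `t` -/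
structure Tk (T : Sylow 2 Y) (L : Subgroup Y) (V : Type u) [AddCommGroup V] [DistribMulAction Y V]
    (Q : Subgroup L) (t : Y) : Prop where
  tT : t ∈ T
  tX : t ∉ NX L V Q
  tt : t * t ∈ NX L V Q
  cj : ∀ p ∈ T, p ∈ NX L V Q → t * p * t⁻¹ ∈ NX L V Q
  cj' : ∀ p ∈ T, p ∈ NX L V Q → t⁻¹ * p * t ∈ NX L V Q

namespace Hyp0

variable {T : Sylow 2 Y} {M L : Subgroup Y} {A Q L₁ : Subgroup L} {R : Sylow 2 L} {E F : AddSubgroup V}
  {z : V} (h : Hyp0 T M L A Q L₁ R E F z)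
include h

theorem not_T_le [Finite Y] [Finite V] : ¬ (T : Subgroup Y) ≤ NX L V Q := by
  intro h1
  by_cases h2 : NX L V Q = ⊤
  · have h3 := h.irr (fx V Q) (fun y w hw => NX_smul (by rw [h2]; exact mem_top y) hw) h.beta.XE
    have h4 : z ∈ fx V Q := h.loc.z_mem.1
    rw [h3, AddSubgroup.mem_bot] at h4
    exact h.z_ne h4
  · exact h.LM (h.L_le_NX.trans (h.uniqM _ h1 h2))

theorem exists_t [Finite Y] [Finite V] : ∃ t, Tk T L V Q t := by
  obtain ⟨⟨t, ht⟩, h1, h2, h3⟩ := exists_sq T.2 ((NX L V Q).subgroupOf T) (by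
    rw [Ne, subgroupOf_eq_top]
    exact h.not_T_le)
  refine ⟨t, ht, fun h4 => h1 (mem_subgroupOf.2 h4), mem_subgroupOf.1 h2, ?_, ?_⟩
  · intro p hp hpX
    exact mem_subgroupOf.1 ((h3 ⟨p, hp⟩).1 (mem_subgroupOf.2 hpX))
  · intro p hp hpX
    have h5 : (⟨t, ht⟩ : (T : Subgroup Y)) * ⟨t⁻¹ * p * t, mul_mem (mul_mem (inv_mem ht) hp) ht⟩ * (⟨t, ht⟩)⁻¹ ∈
        (NX L V Q).subgroupOf T := by
      rw [mem_subgroupOf]
      change t * (t⁻¹ * p * t) * t⁻¹ ∈ _
      have e : t * (t⁻¹ * p * t) * t⁻¹ = p := by group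
      rwa [e]
    exact mem_subgroupOf.1 ((h3 _).2 h5)

end Hyp0

end Cfsg.Agent.Omega.NO1.B0

end

section


/-!
# THEOREM B0 (bb OMEGA 18835, helper970): the conclusions of (1)-(7)

`X = C_V(Q)`, `S = Q`, `a = |V/E|`.
-/

set_option autoImplicit false
set_option linter.unusedSectionVars false
set_option linter.style.haveILetI false

namespace Cfsg.Agent.Omega.NO1.B0

open Subgroup Cfsg.Agent.Omega.NO1.AB
open scoped Pointwise

universe u

variable {Y : Type u} [Group Y] {V : Type u} [AddCommGroup V] [DistribMulAction Y V]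

/-- The conclusions of (1)-(7) (`S = Q = B₁ = B₂ = D`, `K` = `SL₂(a)`). -/
structure Out (T : Sylow 2 Y) (M L : Subgroup Y) (A Q L₁ : Subgroup L) (R : Sylow 2 L) (E F : AddSubgroup V)
    (z : V) (t : Y) : Prop where
  hyp : Hyp T M L A Q L₁ R E F z
  tk : Tk T L V Q t
  QA : Q ≤ A
  cQ : Nat.card Q = E.index
  cA : Nat.card A = E.index ^ 2
  cF : Nat.card F = E.index
  cX : Nat.card ↥(fx V Q) = E.index ^ 2
  cV : Nat.card V = E.index ^ 4
  FX : F ≤ fx V Q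
  supE : E = fx V Q ⊔ t • fx V Q
  infF : fx V Q ⊓ t • fx V Q = F
  tF : t • F = F
  tE : t • E = E
  Qz : ∀ q ∈ Q, ∀ l : L, q * l = l * q
  /-- `C_V(q) = X` -/
  Qfix : ∀ q ∈ Q, q ≠ 1 → ∀ v : V, q • v = v → v ∈ fx V Q
  /-- `[V,q] = X` -/
  QV : ∀ q ∈ Q, ∀ v : V, q • v + v ∈ fx V Q
  Qsurj : ∀ q ∈ Q, q ≠ 1 → ∀ x ∈ fx V Q, ∃ v : V, q • v + v = x
  /-- `A = S × S^t = A^t` -/
  QtA : ∀ q ∈ Q, ∃ b ∈ A, (b : Y) = t * q * t⁻¹
  tA : ∀ b ∈ A, ∃ c ∈ A, (c : Y) = t * b * t⁻¹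
  prod : ∀ b ∈ A, ∃ q ∈ Q, ∃ q' ∈ Q, (b : Y) = q * (t * q' * t⁻¹)
  inf1 : ∀ q ∈ Q, ∀ q' ∈ Q, (q : Y) = t * q' * t⁻¹ → q = 1
  /-- `C_A(X') = S^t` -/
  CAX' : ∀ b ∈ A, (∀ x ∈ t • fx V Q, b • x = x) → ∃ q ∈ Q, (b : Y) = t * q * t⁻¹
  /-- `C_Y(X) ∩ C_Y(V/X) = S` -/
  DD : ∀ y : Y, (∀ x ∈ fx V Q, y • x = x) → (∀ v : V, y • v + v ∈ fx V Q) → ∃ q ∈ Q, (q : Y) = y
  /-- `C_L(X) = S` -/
  CL : ∀ l : L, (∀ x ∈ fx V Q, l • x = x) → l ∈ Q
  /-- `C_T(X) = S`, `C_T(A) = A` -/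
  CTX : ∀ y ∈ T, (∀ x ∈ fx V Q, y • x = x) → ∃ q ∈ Q, (q : Y) = y
  CTA : ∀ y ∈ T, (∀ b ∈ A, y * (b : Y) = b * y) → ∃ b ∈ A, (b : Y) = y

/-- Gaschütz: `L = S × K` -/
structure OutK {T : Sylow 2 Y} {M L : Subgroup Y} {A Q L₁ : Subgroup L} {R : Sylow 2 L} {E F : AddSubgroup V}
    {z : V} {t : Y} (_ : Out T M L A Q L₁ R E F z t) (K : Subgroup L) (𝕂 : Type) [Field 𝕂]
    (e : ↥(fx V Q) ≃+ (Fin 2 → 𝕂)) (φ : K ≃* Matrix.SpecialLinearGroup (Fin 2) 𝕂) : Prop where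
  inf : K ⊓ Q = ⊥
  sup : K ⊔ Q = ⊤
  normal : K.Normal
  card : Nat.card 𝕂 = E.index
  act : ∀ (k : K) (v w : ↥(fx V Q)), (w : V) = (k : L) • (v : V) → e w = (φ k).1.mulVec (e v)
  memF : ∀ v : ↥(fx V Q), (v : V) ∈ F ↔ e v 1 = 0

end Cfsg.Agent.Omega.NO1.B0

end

section


/-!
# THEOREM B0 (bb OMEGA 18835, helper970): (1)-(4)

`X = C_V(Q)`, `X₁ = X ∩ F`, `X' = t X`.  `t X₁ = X₁`, `X' ≤ E`, `[X', Q] ≤ X₁`, `|A ∩ Q| = |X₁| = |V/E|`, `|A| = |V/E|²`,
`V = X' + l E`, `X' ∩ l E = X₁` for `l ∉ L₁`.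
-/

set_option autoImplicit false
set_option linter.unusedSectionVars false
set_option linter.style.haveILetI false

namespace Cfsg.Agent.Omega.NO1.B0

open Subgroup Cfsg.Agent.Omega.NO1.AB
open scoped Pointwise

universe u

variable {Y : Type u} [Group Y] {V : Type u} [AddCommGroup V] [DistribMulAction Y V]

theorem card_mono_as [Finite V] {W₁ W₂ : AddSubgroup V} (h : W₁ ≤ W₂) : Nat.card W₁ ≤ Nat.card W₂ :=
  Nat.card_le_card_of_injective _ (AddSubgroup.inclusion_injective h)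

/-- `|C_A(p)| ≥ |V/E|` for `p ∈ E - F` -/
theorem card_CA [Finite Y] [Finite V] {B : Subgroup Y} {E F : AddSubgroup V} (h2 : ∀ v : V, v + v = 0)
    (h : Mem B E F) {p : V} (hp : p ∈ E) (hpF : p ∉ F) :
    E.index ≤ Nat.card ↥(B ⊓ MulAction.stabilizer Y p) := by
  classical
  have hex : ∀ w : V, w ∉ E → ∃ b : ↥(B ⊓ MulAction.stabilizer Y p), (b : Y) • w + w + p ∈ F := by
    intro w hw
    obtain ⟨b, hb, h1⟩ := h.surj w hw p hp
    refine ⟨⟨b, hb, ?_⟩, h1⟩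
    change b • p = p
    have h3 := h.FB b hb _ h1
    rw [smul_add, smul_add, ← mul_smul, h.sq b hb, one_smul, add_comm w (b • w)] at h3
    exact add_left_cancel h3
  choose f hf using hex
  let g : V ⧸ E → ↥(B ⊓ MulAction.stabilizer Y p) := fun q =>
    if hq : q.out ∈ E then 1 else f q.out hq
  have hne1 : ∀ w hw, f w hw ≠ 1 := by
    intro w hw h1
    have h3 := hf w hw
    rw [h1, coe_one, one_smul, h2, zero_add] at h3
    exact hpF h3
  have hg : Function.Injective g := by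
    intro q q' hqq
    have hout : ∀ q : V ⧸ E, q.out ∈ E → q = 0 := by
      intro q hq
      rw [← QuotientAddGroup.out_eq' q]
      exact (QuotientAddGroup.eq_zero_iff _).2 hq
    by_cases h1 : q.out ∈ E <;> by_cases h3 : q'.out ∈ E
    · rw [hout q h1, hout q' h3]
    · exfalso
      have h4 : g q = 1 := dif_pos h1
      have h5 : g q' = f q'.out h3 := dif_neg h3
      exact hne1 _ h3 (by rw [← h5, ← hqq, h4])
    · exfalso
      have h4 : g q' = 1 := dif_pos h3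
      have h5 : g q = f q.out h1 := dif_neg h1
      exact hne1 _ h1 (by rw [← h5, hqq, h4])
    · have h4 : g q = f q.out h1 := dif_neg h1
      have h5 : g q' = f q'.out h3 := dif_neg h3
      have h6 : q.out + q'.out ∈ E := by
        by_contra h7
        have h8 := hf _ h1
        have h9 := hf _ h3
        rw [← h5, ← hqq, h4] at h9
        have h10 := h.inj _ h7 _ (f q.out h1).2.1 (by
          have h11 := F.add_mem h8 h9
          rw [smul_add]
          have e : ((f q.out h1 : ↥(B ⊓ MulAction.stabilizer Y p)) : Y) • q.out + q.out + p +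
              (((f q.out h1 : ↥(B ⊓ MulAction.stabilizer Y p)) : Y) • q'.out + q'.out + p) =
              ((f q.out h1 : ↥(B ⊓ MulAction.stabilizer Y p)) : Y) • q.out +
              ((f q.out h1 : ↥(B ⊓ MulAction.stabilizer Y p)) : Y) • q'.out + (q.out + q'.out) + (p + p) := by abel
          rwa [e, h2 p, add_zero] at h11)
        exact hne1 _ h1 (Subtype.ext h10)
      rw [← QuotientAddGroup.out_eq' q, ← QuotientAddGroup.out_eq' q', QuotientAddGroup.eq]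
      have h7 : -q.out = q.out := neg_eq_of_add_eq_zero_left (h2 _)
      rwa [h7]
  exact Nat.card_le_card_of_injective g hg

namespace Hyp0

variable {T : Sylow 2 Y} {M L : Subgroup Y} {A Q L₁ : Subgroup L} {R : Sylow 2 L} {E F : AddSubgroup V}
  {z : V} (h : Hyp0 T M L A Q L₁ R E F z)
include h

theorem AT {a : L} (ha : a ∈ A) : (a : Y) ∈ T := h.RT a (h.loc.AR ha)

theorem AN [Finite V] (a : L) : (a : Y) ∈ NX L V Q := h.L_le_NX a.2

theorem QT [Finite Y] {q : L} (hq : q ∈ Q) : (q : Y) ∈ T := h.RT q (h.loc.Q_le_R hq)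

theorem two_le_c [Finite Y] [Finite V] : 1 < Nat.card ↥(fx V Q ⊓ F) := by
  have : Nontrivial ↥(fx V Q ⊓ F) :=
    ⟨⟨⟨z, h.loc.z_mem⟩, 0, fun h2 => h.z_ne (congrArg Subtype.val h2)⟩⟩
  exact Finite.one_lt_card

theorem cX [Finite Y] [Finite V] : Nat.card ↥(fx V Q) = Nat.card ↥(fx V Q ⊓ F) ^ 2 := card_X h.loc h.beta h.C0

theorem cA [Finite Y] [Finite V] : Nat.card ↥(fx V Q ⊓ F) * Nat.card ↥(A ⊓ Q) = Nat.card A :=
  X1_card_mul h.loc h.beta h.C0

/-- `c ≤ |A ∩ Q|` -/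
theorem c_le_B [Finite Y] [Finite V] : Nat.card ↥(fx V Q ⊓ F) ≤ Nat.card ↥(A ⊓ Q) := by
  obtain ⟨w, hw⟩ := h.loc.mem.ne
  have hex : ∀ v : ↥(fx V Q ⊔ F), ∃ b : ↥(A ⊓ Q), (b : L) • w + w + (v : V) ∈ F := by
    intro v
    have hvE : (v : V) ∈ E := (sup_le h.beta.XE h.loc.mem.FE) v.2
    obtain ⟨b, hb, h1⟩ := h.loc.mem.surj w hw _ hvE
    refine ⟨⟨b, hb, ?_⟩, h1⟩
    apply h.beta.perp_mem h.loc.mem le_rfl hw hb
    have e : b • w + w = (v : V) + (b • w + w + v) := by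
      rw [add_comm (b • w + w) (v : V), ← add_assoc, h.two, zero_add]
    rw [e]
    exact AddSubgroup.add_mem _ v.2 (AddSubgroup.mem_sup_right h1)
  choose f hf using hex
  let g : ↥(fx V Q ⊔ F) → ↥(A ⊓ Q) × F := fun v => (f v, ⟨_, hf v⟩)
  have hg : Function.Injective g := by
    intro v v' hvv
    have h1 : f v = f v' := congrArg Prod.fst hvv
    have h2 : (f v : L) • w + w + (v : V) = (f v' : L) • w + w + (v' : V) :=
      congrArg (fun q : ↥(A ⊓ Q) × F => (q.2 : V)) hvv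
    rw [h1] at h2
    exact Subtype.ext (add_left_cancel h2)
  have h1 := Nat.card_le_card_of_injective g hg
  rw [Nat.card_prod] at h1
  have h2 := card_sup_as (fx V Q) F
  rw [h.cX] at h2
  have hF0 : 0 < Nat.card F := Nat.card_pos
  have hc0 : 0 < Nat.card ↥(fx V Q ⊓ F) := Nat.card_pos
  apply Nat.le_of_mul_le_mul_right _ hF0
  apply Nat.le_of_mul_le_mul_left _ hc0
  calc Nat.card ↥(fx V Q ⊓ F) * (Nat.card ↥(fx V Q ⊓ F) * Nat.card F)
      = Nat.card ↥(fx V Q ⊓ F) ^ 2 * Nat.card F := by ring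
    _ = Nat.card ↥(fx V Q ⊓ F) * Nat.card ↥(fx V Q ⊔ F) := by rw [← h2]; ring
    _ ≤ _ := Nat.mul_le_mul_left _ h1

theorem cX_le [Finite Y] [Finite V] : Nat.card ↥(fx V Q) ≤ Nat.card A := by
  rw [h.cX, ← h.cA, pow_two]
  exact Nat.mul_le_mul_left _ h.c_le_B

/-- `A` in `Y` -/
theorem memU [Finite V] : MemU (A.map L.subtype) E F where
  comm := by
    rintro _ ⟨b, hb, rfl⟩ _ ⟨c, hc, rfl⟩
    exact congrArg Subtype.val (h.loc.mem.comm b hb c hc)
  sq := by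
    rintro _ ⟨b, hb, rfl⟩
    exact congrArg Subtype.val (h.loc.mem.sq b hb)
  FE := h.loc.mem.FE
  VB := by
    rintro _ ⟨b, hb, rfl⟩ v
    exact h.loc.mem.VB b hb v
  EB := by
    rintro _ ⟨b, hb, rfl⟩ v
    exact h.loc.mem.EB b hb v
  FB := by
    rintro _ ⟨b, hb, rfl⟩ v
    exact h.loc.mem.FB b hb v
  CB := fun v hv => h.loc.mem.CB v fun b hb => hv _ ⟨b, hb, rfl⟩
  inj := by
    rintro w hw _ ⟨b, hb, rfl⟩ h1
    exact congrArg Subtype.val (h.loc.mem.inj w hw b hb h1)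
  surj := by
    intro w hw e he
    obtain ⟨b, hb, h1⟩ := h.loc.mem.surj w hw e he
    exact ⟨_, ⟨b, hb, rfl⟩, h1⟩
  ne := h.loc.mem.ne
  mu := by
    intro B₀ hB₀
    have hB₀L : B₀ ≤ L := hB₀.trans (map_subtype_le A)
    have h1 := h.loc.mu (B₀.subgroupOf L) (by
      intro b hb
      obtain ⟨a, ha, h2⟩ := hB₀ (mem_subgroupOf.1 hb)
      have : a = b := Subtype.ext h2
      rwa [← this])
    have h2 : Nat.card ↥(B₀.subgroupOf L) = Nat.card B₀ := Nat.card_congr (subgroupOfEquivOfLe hB₀L).toEquiv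
    have h3 : fx V (B₀.subgroupOf L) = fx V B₀ := by
      ext v
      constructor
      · intro hv b hb
        exact hv ⟨b, hB₀L hb⟩ (mem_subgroupOf.2 hb)
      · intro hv b hb
        exact hv b (mem_subgroupOf.1 hb)
    rw [h2, h3] at h1
    exact h1

/-- `v ∈ F`, `l⁻¹ v ∈ X + F` ⟹ `v ∈ X₁` (`l ∉ L₁`) -/
theorem F_inf [Finite Y] [Finite V] {l : L} (hl : l ∉ L₁) {x : V} (hx : x ∈ F) (hlx : l⁻¹ • x ∈ fx V Q ⊔ F) :
    x ∈ fx V Q ⊓ F := by
  rw [AddSubgroup.mem_sup] at hlx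
  obtain ⟨y, hy, f, hf, he⟩ := hlx
  have h1 : l • y ∈ fx V Q := h.loc.smul_X l hy
  have h2 := h1
  rw [h.beta.sup l hl, AddSubgroup.mem_sup] at h2
  obtain ⟨u, hu, v, hv, huv⟩ := h2
  have hx' : x = u + (v + l • f) := by
    rw [← add_assoc, huv, ← smul_add, he, smul_inv_smul]
  have h3 : x + u = v + l • f := by
    rw [hx', add_comm u, add_assoc, h.two, add_zero]
  have h4 : v + l • f ∈ fx V (⊤ : Subgroup L) := by
    apply h.loc.fix_all (x := 1) (y := l) (by simpa using hl)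
    · rw [inv_one, one_smul, ← h3]
      exact F.add_mem hx hu.2
    · rw [smul_add, inv_smul_smul]
      exact F.add_mem (mem_smul_as.1 hv).2 hf
  rw [h.C0, AddSubgroup.mem_bot] at h4
  rw [hx', h4, add_zero]
  exact hu

theorem FF [Finite Y] [Finite V] {l : L} (hl : l ∉ L₁) {x : V} (hx : x ∈ F) (hlx : l⁻¹ • x ∈ F) : x = 0 := by
  have h4 : x ∈ fx V (⊤ : Subgroup L) :=
    h.loc.fix_all (x := 1) (y := l) (by simpa using hl) (by rwa [inv_one, one_smul]) hlx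
  rwa [h.C0, AddSubgroup.mem_bot] at h4

theorem inv_nmem {l : L} (hl : l ∉ L₁) : l⁻¹ ∉ L₁ := fun h1 => hl (by simpa using inv_mem h1)

theorem Xmem {l : L} {x : V} (hx : x ∈ fx V Q) : l • x ∈ fx V Q := h.loc.smul_X l hx

section t

variable {t : Y} (k : Tk T L V Q t)
include k

theorem tz : t⁻¹ • z = z := by rw [inv_smul_eq_iff, h.zT t k.tT]

theorem zt [Finite Y] : z ∈ t • (fx V Q ⊓ F) := by
  rw [mem_smul_as, h.tz k]
  exact h.loc.z_mem

theorem cjT {p : Y} (hp : p ∈ T) : t⁻¹ * p * t ∈ T := mul_mem (mul_mem (inv_mem k.tT) hp) k.tT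

/-- the action of `T ∩ N_Y(X)` on `X' = t X` -/
theorem actX' {p : Y} (hp : p ∈ T) (hpX : p ∈ NX L V Q) {x : V} (hx : x ∈ t • (fx V Q : AddSubgroup V)) :
    p • x ∈ t • (fx V Q : AddSubgroup V) := by
  rw [mem_smul_as] at hx ⊢
  have h1 := NX_smul (k.cj' p hp hpX) hx
  rw [mul_smul, mul_smul, smul_inv_smul] at h1
  exact h1

theorem actX1' [Finite Y] [Finite V] {p : Y} (hp : p ∈ T) (hpX : p ∈ NX L V Q) {x : V}
    (hx : x ∈ t • (fx V Q ⊓ F)) : p • x ∈ t • (fx V Q ⊓ F) := by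
  rw [mem_smul_as] at hx ⊢
  have h1 := h.comp_z (k.cj' p hp hpX) (h.zT _ (h.cjT k hp)) hx
  rw [mul_smul, mul_smul, smul_inv_smul] at h1
  exact h1

/-- **(S2)** for `X' = t X` -/
theorem s2' [Finite Y] [Finite V] {p : Y} (hp : p ∈ T) (hpX : p ∈ NX L V Q)
    (hp1 : ∀ x ∈ t • (fx V Q ⊓ F), p • x = x) :
    (∀ x ∈ t • (fx V Q : AddSubgroup V), p • x + x ∈ t • (fx V Q ⊓ F)) ∧
      ∀ v ∈ t • (fx V Q : AddSubgroup V), v ∉ t • (fx V Q ⊓ F) → p • v = v →
        ∀ x ∈ t • (fx V Q : AddSubgroup V), p • x = x := by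
  have hs : ∀ x : V, (t⁻¹ * p * t) • (t⁻¹ • x) = t⁻¹ • (p • x) := by
    intro x
    rw [mul_smul, mul_smul, smul_inv_smul]
  obtain ⟨h1, h2⟩ := h.s2 (h.cjT k hp) (k.cj' p hp hpX) (by
    intro x hx
    have h1 := hs (t • x)
    rw [inv_smul_smul, hp1 _ (smul_mem_smul_as hx), inv_smul_smul] at h1
    exact h1)
  constructor
  · intro x hx
    rw [mem_smul_as] at hx ⊢
    have h3 := h1 _ hx
    rw [hs, ← smul_add] at h3
    exact h3
  · intro v hv hv1 hpv x hx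
    rw [mem_smul_as] at hv hv1 hx
    have h3 := h2 _ hv (fun h4 => hv1 ⟨hv, h4⟩) (by rw [hs, hpv]) _ hx
    rw [hs] at h3
    exact smul_left_cancel _ h3

/-- **(1)** `A` centralises `t X₁` -/
theorem one_A [Finite Y] [Finite V] {a : L} (ha : a ∈ A) {x : V} (hx : x ∈ t • (fx V Q ⊓ F)) : a • x = x := by
  have hU := (h.memU).conj t⁻¹
  have h1 := h.s1 hU (by
    intro p hp
    rw [mem_conj, inv_inv] at hp
    obtain ⟨b, hb, hbp⟩ := hp
    have hbp' : (b : Y) = t * p * t⁻¹ := hbp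
    have e : p = t⁻¹ * (b : Y) * t := by rw [hbp']; group
    rw [e]
    exact ⟨k.cj' _ (h.AT hb) (h.AN b), h.zT _ (h.cjT k (h.AT hb))⟩) (by
    have h2 : Nat.card (MulAut.conj t⁻¹ • A.map L.subtype : Subgroup Y) = Nat.card A := by
      rw [← Nat.card_congr (Subgroup.equivSMul (MulAut.conj t⁻¹) (A.map L.subtype)).toEquiv]
      exact (Nat.card_congr (A.equivMapOfInjective _ L.subtype_injective).toEquiv).symm
    rw [h2]
    exact h.cX_le) (t⁻¹ * (a : Y) * t) (by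
      rw [mem_conj, inv_inv]
      exact ⟨a, ha, by
        change (a : Y) = _
        group⟩) _ (mem_smul_as.1 hx)
  rw [mul_smul, mul_smul, smul_inv_smul] at h1
  exact smul_left_cancel _ h1

theorem tX1_le_F [Finite Y] [Finite V] {x : V} (hx : x ∈ t • (fx V Q ⊓ F)) : x ∈ F :=
  h.loc.mem.CB x fun _ ha => h.one_A k ha hx

theorem A_ne [Finite Y] [Finite V] : ∃ a ∈ A ⊓ Q, a ≠ 1 := by
  by_contra hc
  push Not at hc
  apply h.beta.ne
  rw [eq_bot_iff]
  intro b hb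
  exact hc b hb

theorem X'_le_E [Finite Y] [Finite V] {x : V} (hx : x ∈ t • (fx V Q : AddSubgroup V)) : x ∈ E := by
  by_contra hxE
  obtain ⟨a, ha, ha1⟩ := h.A_ne k
  apply ha1
  apply h.loc.mem.inj x hxE a ha.1
  exact h.tX1_le_F k ((h.s2' k (h.AT ha.1) (h.AN a) fun x hx => h.one_A k ha.1 hx).1 x hx)

theorem card_tX1 [Finite V] : Nat.card ↥(t • (fx V Q ⊓ F)) = Nat.card ↥(fx V Q ⊓ F) := card_smul_as t _

/-- conjugates of `A ∩ Q` -/
theorem conjB {l b : L} (hb : b ∈ A ⊓ Q) : l * b * l⁻¹ ∈ Q := h.loc.Qn.conj_mem b hb.2 l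

theorem conj_smul_add {l b : L} (x : V) : l⁻¹ • ((l * b * l⁻¹) • x + x) = b • (l⁻¹ • x) + l⁻¹ • x := by
  rw [smul_add, mul_smul, mul_smul, inv_smul_smul]

/-- **(2a)** `t X₁ ≤ l E` -/
theorem two_a [Finite Y] [Finite V] (l : L) {x : V} (hx : x ∈ t • (fx V Q ⊓ F)) : l⁻¹ • x ∈ E := by
  by_contra hxE
  -- the elements `(l b l⁻¹) x + x`
  have hmem : ∀ b : ↥(A ⊓ Q), (l * (b : L) * l⁻¹) • x + x ∈ t • (fx V Q ⊓ F) := by
    intro b
    have hq := h.conjB k (l := l) b.2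
    exact (t • (fx V Q ⊓ F)).add_mem (h.actX1' k (h.QT hq) (h.AN _) hx) hx
  let f : Option ↥(A ⊓ Q) → ↥(t • (fx V Q ⊓ F)) := fun b => b.elim ⟨x, hx⟩ fun b => ⟨_, hmem b⟩
  have hf : Function.Injective f := by
    have hE : ∀ b : ↥(A ⊓ Q), l⁻¹ • ((l * (b : L) * l⁻¹) • x + x) ∈ E := by
      intro b
      rw [h.conj_smul_add k]
      exact h.loc.mem.VB b b.2.1 _
    rintro (_ | b) (_ | b') hbb
    · rfl
    · exfalso
      have h1 : x = (l * (b' : L) * l⁻¹) • x + x := congrArg Subtype.val hbb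
      apply hxE
      rw [h1]
      exact hE b'
    · exfalso
      have h1 : (l * (b : L) * l⁻¹) • x + x = x := congrArg Subtype.val hbb
      apply hxE
      rw [← h1]
      exact hE b
    · have h1 : (l * (b : L) * l⁻¹) • x + x = (l * (b' : L) * l⁻¹) • x + x := congrArg Subtype.val hbb
      have h2 : (b : L) • (l⁻¹ • x) + l⁻¹ • x = (b' : L) • (l⁻¹ • x) + l⁻¹ • x := by
        rw [← h.conj_smul_add k, h1, h.conj_smul_add k]
      have h3 : (b : L) • (l⁻¹ • x) = (b' : L) • (l⁻¹ • x) := add_right_cancel h2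
      have h4 := h.loc.mem.inj _ hxE ((b' : L)⁻¹ * b) (mul_mem (inv_mem b'.2.1) b.2.1) (by
        rw [mul_smul, h3, inv_smul_smul, h.two]
        exact F.zero_mem)
      rw [inv_mul_eq_one] at h4
      congr 1
      exact Subtype.ext h4.symm
  have h1 := Nat.card_le_card_of_injective f hf
  rw [Finite.card_option, h.card_tX1 k] at h1
  have h2 := h.c_le_B
  omega

/-- `[y, B_l] = 0` for `y ∈ l E`, `[y, B_l] ≤ F` (`l ∉ L₁`) -/
theorem fix_of [Finite Y] [Finite V] {l : L} (hl : l ∉ L₁) {y : V} (hy : l⁻¹ • y ∈ E)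
    (hyF : ∀ b ∈ A ⊓ Q, (l * b * l⁻¹) • y + y ∈ F) : l⁻¹ • y ∈ fx V Q ⊔ F := by
  rw [← h.beta.CVB]
  intro b hb
  have h1 : (l * b * l⁻¹) • y + y = 0 := by
    apply h.FF hl (hyF b hb)
    rw [h.conj_smul_add k]
    exact h.loc.mem.EB b hb.1 _ hy
  have h2 : b • (l⁻¹ • y) + l⁻¹ • y = 0 := by
    rw [← h.conj_smul_add k, h1, smul_zero]
  exact h.eq_of_add h2

/-- **(2)** `t X₁ = X₁` -/
theorem tX1 [Finite Y] [Finite V] : t • (fx V Q ⊓ F) = fx V Q ⊓ F := by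
  obtain ⟨l, hl⟩ := exists_out h.loc h.beta
  apply eq_of_le_as
  · intro x hx
    apply h.F_inf hl (h.tX1_le_F k hx)
    apply h.fix_of k hl (h.two_a k l hx)
    intro b hb
    have hq := h.conjB k (l := l) hb
    exact h.tX1_le_F k ((t • (fx V Q ⊓ F)).add_mem (h.actX1' k (h.QT hq) (h.AN _) hx) hx)
  · exact (h.card_tX1 k).ge

theorem X1_le_X' [Finite Y] [Finite V] {x : V} (hx : x ∈ fx V Q ⊓ F) : x ∈ t • (fx V Q : AddSubgroup V) := by
  rw [← h.tX1 k] at hx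
  rw [mem_smul_as] at hx ⊢
  exact hx.1

/-- (S2) for the elements which centralise `X₁ = t X₁` -/
theorem s3 [Finite Y] [Finite V] {p : Y} (hp : p ∈ T) (hpX : p ∈ NX L V Q)
    (hp1 : ∀ x ∈ fx V Q ⊓ F, p • x = x) :
    (∀ x ∈ t • (fx V Q : AddSubgroup V), p • x + x ∈ fx V Q ⊓ F) ∧
      ∀ v ∈ t • (fx V Q : AddSubgroup V), v ∉ fx V Q ⊓ F → p • v = v →
        ∀ x ∈ t • (fx V Q : AddSubgroup V), p • x = x := by
  have h1 := h.s2' k hp hpX (by rw [h.tX1 k]; exact hp1)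
  rwa [h.tX1 k] at h1

theorem s3Q [Finite Y] [Finite V] {q : L} (hq : q ∈ Q) :
    (∀ x ∈ t • (fx V Q : AddSubgroup V), q • x + x ∈ fx V Q ⊓ F) ∧
      ∀ v ∈ t • (fx V Q : AddSubgroup V), v ∉ fx V Q ⊓ F → q • v = v →
        ∀ x ∈ t • (fx V Q : AddSubgroup V), q • x = x :=
  h.s3 k (h.QT hq) (h.AN q) fun _ hx => hx.1 q hq

theorem s3A [Finite Y] [Finite V] {q : L} (hq : q ∈ A) :
    (∀ x ∈ t • (fx V Q : AddSubgroup V), q • x + x ∈ fx V Q ⊓ F) ∧
      ∀ v ∈ t • (fx V Q : AddSubgroup V), v ∉ fx V Q ⊓ F → q • v = v →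
        ∀ x ∈ t • (fx V Q : AddSubgroup V), q • x = x :=
  h.s3 k (h.AT hq) (h.AN q) fun x hx => h.loc.mem.FB q hq x hx.2

theorem X'_not_le [Finite Y] [Finite V] : ∃ x ∈ t • (fx V Q : AddSubgroup V), x ∉ fx V Q := by
  by_contra hc
  push Not at hc
  apply k.tX
  rw [mem_NX]
  exact eq_of_le_as hc (card_smul_as t _).ge

theorem tX_card [Finite Y] [Finite V] : Nat.card ↥(t • (fx V Q : AddSubgroup V)) =
    Nat.card ↥(fx V Q ⊓ F) ^ 2 := by
  rw [card_smul_as, h.cX]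

/-- there is a second point `a l` over `A` -/
theorem second [Finite Y] [Finite V] {l : L} (hl : l ∉ L₁) : ∃ a ∈ A, a * l ∉ L₁ ∧ l⁻¹ * (a * l) ∉ L₁ := by
  obtain ⟨a, ha, haQ⟩ := Set.not_subset.1 h.loc.not_A_le
  refine ⟨a, ha, ?_, ?_⟩
  · intro h1
    apply hl
    have := mul_mem (inv_mem (h.loc.A_le ha)) h1
    rwa [inv_mul_cancel_left] at this
  · intro h1
    apply haQ
    apply h.beta.cap l hl a ha
    rw [mem_conj, mul_assoc]
    exact h1

/-- **(3)** `X' ≰ l E` -/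
theorem three [Finite Y] [Finite V] {l : L} (hl : l ∉ L₁) :
    ∃ x ∈ t • (fx V Q : AddSubgroup V), l⁻¹ • x ∉ E := by
  by_contra hc
  push Not at hc
  obtain ⟨x, hx, hxX⟩ := h.X'_not_le k
  apply hxX
  -- `X' ≤ X + l F`
  have key : ∀ y ∈ t • (fx V Q : AddSubgroup V), l⁻¹ • y ∈ fx V Q ⊔ F := by
    intro y hy
    apply h.fix_of k hl (hc y hy)
    intro b hb
    exact ((h.s3Q k (h.conjB k (l := l) hb)).1 y hy).2
  obtain ⟨a, ha, -, hal⟩ := h.second k hl
  have h1 := key x hx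
  have h2 := key (a⁻¹ • x) (h.actX' k (h.AT (inv_mem ha)) (h.AN a⁻¹) hx)
  rw [AddSubgroup.mem_sup] at h1 h2
  obtain ⟨y, hy, f, hf, h1⟩ := h1
  obtain ⟨y', hy', f', hf', h2⟩ := h2
  have hx1 : x = l • y + l • f := by rw [← smul_add, h1, smul_inv_smul]
  have hx2 : x = (a * l) • y' + (a * l) • f' := by
    rw [← smul_add, h2, mul_smul, smul_inv_smul, smul_inv_smul]
  have h3 : f ∈ fx V Q ⊓ F := by
    apply h.F_inf hal hf
    have e : (l⁻¹ * (a * l))⁻¹ • f = (a * l)⁻¹ • (l • f) := by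
      rw [← mul_smul]; congr 1; group
    rw [e]
    have e2 : l • f = (l • y + (a * l) • y') + (a * l) • f' := by
      have h4 : l • y + l • f = (a * l) • y' + (a * l) • f' := by rw [← hx1, ← hx2]
      have h5 : l • f = l • y + (l • y + l • f) := by rw [← add_assoc, h.two, zero_add]
      rw [h5, h4, add_assoc]
    rw [e2, smul_add, inv_smul_smul]
    exact AddSubgroup.add_mem _ (AddSubgroup.mem_sup_left (h.Xmem ((fx V Q).add_mem (h.Xmem hy) (h.Xmem hy'))))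
      (AddSubgroup.mem_sup_right hf')
  rw [hx1]
  exact (fx V Q).add_mem (h.Xmem hy) (h.Xmem h3.1)

/-- `|A ∩ Q| = c` -/
theorem cB [Finite Y] [Finite V] : Nat.card ↥(A ⊓ Q) = Nat.card ↥(fx V Q ⊓ F) := by
  apply le_antisymm _ h.c_le_B
  obtain ⟨l, hl⟩ := exists_out h.loc h.beta
  obtain ⟨x, hx, hxE⟩ := h.three k hl
  let f : ↥(A ⊓ Q) → ↥(fx V Q ⊓ F) := fun b => ⟨_, (h.s3Q k (h.conjB k (l := l) b.2)).1 x hx⟩
  apply Nat.card_le_card_of_injective f
  intro b b' hbb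
  have h1 : (l * (b : L) * l⁻¹) • x + x = (l * (b' : L) * l⁻¹) • x + x := congrArg Subtype.val hbb
  have h2 : (b : L) • (l⁻¹ • x) + l⁻¹ • x = (b' : L) • (l⁻¹ • x) + l⁻¹ • x := by
    rw [← h.conj_smul_add k, h1, h.conj_smul_add k]
  have h3 : (b : L) • (l⁻¹ • x) = (b' : L) • (l⁻¹ • x) := add_right_cancel h2
  have h4 := h.loc.mem.inj _ hxE ((b' : L)⁻¹ * b) (mul_mem (inv_mem b'.2.1) b.2.1) (by
    rw [mul_smul, h3, inv_smul_smul, h.two]
    exact F.zero_mem)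
  rw [inv_mul_eq_one] at h4
  exact Subtype.ext h4.symm

theorem cA2 [Finite Y] [Finite V] : Nat.card A = Nat.card ↥(fx V Q ⊓ F) ^ 2 := by
  rw [← h.cA, h.cB k, pow_two]

/-- a subgroup of `T ∩ N_Y(X)` which centralises `X₁`: `|P| ≤ c |C_P(X')|` -/
theorem count_X' [Finite Y] [Finite V] {P : Subgroup Y} (hP : ∀ p ∈ P, p ∈ T ∧ p ∈ NX L V Q)
    (hP1 : ∀ p ∈ P, ∀ x ∈ fx V Q ⊓ F, p • x = x) :
    ∃ P₀ : Subgroup Y, (∀ p, p ∈ P₀ ↔ p ∈ P ∧ ∀ x ∈ t • (fx V Q : AddSubgroup V), p • x = x) ∧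
      Nat.card P ≤ Nat.card ↥(fx V Q ⊓ F) * Nat.card P₀ := by
  obtain ⟨v, hv, hvX⟩ := h.X'_not_le k
  have hv1 : v ∉ fx V Q ⊓ F := fun h1 => hvX h1.1
  have hs := fun p (hp : p ∈ P) => h.s3 k (hP p hp).1 (hP p hp).2 (hP1 p hp)
  let φ : P →* Multiplicative ↥(fx V Q ⊓ F) :=
    { toFun := fun p => Multiplicative.ofAdd ⟨(p : Y) • v + v, (hs p p.2).1 v hv⟩
      map_one' := by
        apply congrArg Multiplicative.ofAdd
        apply Subtype.ext
        change (1 : Y) • v + v = 0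
        rw [one_smul, h.two]
      map_mul' := fun p p' => by
        apply congrArg Multiplicative.ofAdd
        apply Subtype.ext
        change ((p : Y) * p') • v + v = ((p : Y) • v + v) + ((p' : Y) • v + v)
        have h1 : (p : Y) • ((p' : Y) • v + v) = (p' : Y) • v + v := hP1 p p.2 _ ((hs p' p'.2).1 v hv)
        rw [mul_smul]
        have h2 : (p : Y) • (p' : Y) • v = (p' : Y) • v + v + (p : Y) • v := by
          rw [smul_add] at h1
          rw [← h1, add_assoc, h.two, add_zero]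
        rw [h2]
        abel }
  refine ⟨φ.ker.map P.subtype, ?_, ?_⟩
  · intro p
    constructor
    · rintro ⟨p', hp', rfl⟩
      refine ⟨p'.2, ?_⟩
      have h1 : (p' : Y) • v + v = 0 := congrArg (fun u : Multiplicative ↥(fx V Q ⊓ F) => ((u.toAdd : ↥(fx V Q ⊓ F)) : V)) hp'
      exact (hs p' p'.2).2 v hv hv1 (h.eq_of_add h1)
    · rintro ⟨hp, hp1⟩
      refine ⟨⟨p, hp⟩, ?_, rfl⟩
      apply congrArg Multiplicative.ofAdd
      apply Subtype.ext
      change p • v + v = 0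
      rw [hp1 v hv, h.two]
  · have h1 := Subgroup.card_mul_index φ.ker
    rw [Subgroup.index_ker] at h1
    have h2 : Nat.card φ.range ≤ Nat.card ↥(fx V Q ⊓ F) :=
      Nat.card_le_card_of_injective (fun u : φ.range => (u.1.toAdd : ↥(fx V Q ⊓ F))) fun u u' huu => Subtype.ext huu
    have h3 : Nat.card (φ.ker.map P.subtype) = Nat.card φ.ker :=
      Nat.card_congr (φ.ker.equivMapOfInjective _ P.subtype_injective).symm.toEquiv
    rw [h3, ← h1, mul_comm]
    exact Nat.mul_le_mul_right _ h2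

/-- **(4)** `X' ∩ l E = X₁` -/
theorem four [Finite Y] [Finite V] {l : L} (hl : l ∉ L₁) {y : V} (hy : y ∈ t • (fx V Q : AddSubgroup V))
    (hyE : l⁻¹ • y ∈ E) : y ∈ fx V Q ⊓ F := by
  have h1 := h.fix_of k hl hyE fun b hb => ((h.s3Q k (h.conjB k (l := l) hb)).1 y hy).2
  rw [AddSubgroup.mem_sup] at h1
  obtain ⟨w, hw, f, hf, h1⟩ := h1
  have hlw : l • w ∈ fx V Q := h.Xmem hw
  rw [h.beta.sup l hl, AddSubgroup.mem_sup] at hlw
  obtain ⟨u, hu, v, hv, huv⟩ := hlw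
  -- `y = u + g`, `g = v + l f ∈ X' ∩ l F`
  set g := v + l • f with hg
  have hyu : y = u + g := by
    rw [hg, ← add_assoc, huv, ← smul_add, h1, smul_inv_smul]
  have hgF : l⁻¹ • g ∈ F := by
    rw [hg, smul_add, inv_smul_smul]
    exact F.add_mem (mem_smul_as.1 hv).2 hf
  have hgX : g ∈ t • (fx V Q : AddSubgroup V) := by
    have : g = y + u := by rw [hyu, add_comm u g, add_assoc, h.two, add_zero]
    rw [this]
    exact AddSubgroup.add_mem _ hy (h.X1_le_X' k hu)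
  by_cases hg0 : g = 0
  · rw [hyu, hg0, add_zero]; exact hu
  exfalso
  have hgC : g ∉ fx V (⊤ : Subgroup L) := by rwa [h.C0, AddSubgroup.mem_bot]
  have hst := h.loc.stab_le hgF hgC
  -- `C_A(X')`
  obtain ⟨P₀, hP₀, hcard⟩ := h.count_X' k (P := A.map L.subtype) (by
    rintro _ ⟨a, ha, rfl⟩
    exact ⟨h.AT ha, h.AN a⟩) (by
    rintro _ ⟨a, ha, rfl⟩ x hx
    exact h.loc.mem.FB a ha x hx.2)
  have hA : Nat.card (A.map L.subtype) = Nat.card A :=
    Nat.card_congr (A.equivMapOfInjective _ L.subtype_injective).symm.toEquiv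
  rw [hA, h.cA2 k, pow_two] at hcard
  have hc0 : 0 < Nat.card ↥(fx V Q ⊓ F) := Nat.card_pos
  have hcard' := Nat.le_of_mul_le_mul_left hcard hc0
  have hP₀B : P₀ ≤ (A ⊓ Q).map L.subtype := by
    intro p hp
    obtain ⟨⟨a, ha, rfl⟩, hp1⟩ := (hP₀ p).1 hp
    refine ⟨a, ⟨ha, ?_⟩, rfl⟩
    exact h.beta.cap l hl a ha (hst (hp1 g hgX))
  have hB : Nat.card ((A ⊓ Q).map L.subtype) = Nat.card ↥(A ⊓ Q) :=
    Nat.card_congr ((A ⊓ Q).equivMapOfInjective _ L.subtype_injective).symm.toEquiv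
  have heq : P₀ = (A ⊓ Q).map L.subtype := by
    apply eq_of_le_of_card_ge hP₀B
    rw [hB, h.cB k]
    exact hcard'
  have h2 : g ∈ fx V Q ⊔ F := by
    rw [← h.beta.CVB]
    intro b hb
    have h3 : (b : Y) ∈ P₀ := by rw [heq]; exact ⟨b, hb, rfl⟩
    exact ((hP₀ _).1 h3).2 g hgX
  have h3 : l⁻¹ • g ∈ fx V Q ⊓ F := by
    apply h.F_inf (h.inv_nmem hl) hgF
    rw [inv_inv, smul_inv_smul]
    exact h2
  have h4 : g ∈ fx V Q := by
    have := h.Xmem (l := l) h3.1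
    rwa [smul_inv_smul] at this
  have h5 : g ∉ fx V Q ⊓ F := fun h6 => hg0 (h.FF hl h6.2 hgF)
  obtain ⟨x, hx, hxX⟩ := h.X'_not_le k
  apply hxX
  intro q hq
  exact (h.s3Q k hq).2 g hgX h5 (h4 q hq) x hx

/-- `c = |V/E|` -/
theorem ca [Finite Y] [Finite V] : Nat.card ↥(fx V Q ⊓ F) = E.index := by
  obtain ⟨l, hl⟩ := exists_out h.loc h.beta
  have hEi : 0 < E.index := Nat.pos_of_ne_zero AddSubgroup.index_ne_zero_of_finite
  apply le_antisymm
  · -- `X' / X₁` embeds in `V / l E`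
    set X' := t • (fx V Q : AddSubgroup V) with hX'
    have h1 : X' ⊓ (l : Y) • E = fx V Q ⊓ F := by
      apply le_antisymm
      · rintro y ⟨hy, hyE⟩
        exact h.four k hl hy (mem_smul_as.1 hyE)
      · intro y hy
        have hy' := hy
        rw [← h.tX1 k] at hy'
        exact ⟨h.X1_le_X' k hy, mem_smul_as.2 (h.two_a k l hy')⟩
    have h2 := card_sup_as X' ((l : Y) • E)
    rw [h1, h.tX_card k, card_smul_as] at h2
    have h3 := AddSubgroup.card_mul_index E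
    have h4 : Nat.card ↥(X' ⊔ (l : Y) • E) ≤ Nat.card V := Nat.card_le_card_of_injective _ Subtype.val_injective
    have hc0 : 0 < Nat.card ↥(fx V Q ⊓ F) := Nat.card_pos
    have hE0 : 0 < Nat.card E := Nat.card_pos
    apply Nat.le_of_mul_le_mul_left _ (Nat.mul_pos hE0 hc0)
    calc Nat.card E * Nat.card ↥(fx V Q ⊓ F) * Nat.card ↥(fx V Q ⊓ F)
        = Nat.card ↥(fx V Q ⊓ F) ^ 2 * Nat.card E := by ring
      _ = Nat.card ↥(X' ⊔ (l : Y) • E) * Nat.card ↥(fx V Q ⊓ F) := h2.symm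
      _ ≤ Nat.card V * Nat.card ↥(fx V Q ⊓ F) := Nat.mul_le_mul_right _ h4
      _ = Nat.card E * Nat.card ↥(fx V Q ⊓ F) * E.index := by rw [← h3]; ring
  · have h1 := pf_le h.loc.mem h.two (by
      intro h2
      apply h.beta.ne
      rw [h2, bot_inf_eq])
    rw [h.cA2 k] at h1
    exact (Nat.pow_le_pow_iff_left two_ne_zero).1 h1

/-- `V = X' + l E` -/
theorem sup_top [Finite Y] [Finite V] {l : L} (hl : l ∉ L₁) (v : V) :
    ∃ x ∈ t • (fx V Q : AddSubgroup V), l⁻¹ • (v + x) ∈ E := by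
  set X' := t • (fx V Q : AddSubgroup V) with hX'
  have h1 : X' ⊓ (l : Y) • E = fx V Q ⊓ F := by
    apply le_antisymm
    · rintro y ⟨hy, hyE⟩
      exact h.four k hl hy (mem_smul_as.1 hyE)
    · intro y hy
      have hy' := hy
      rw [← h.tX1 k] at hy'
      exact ⟨h.X1_le_X' k hy, mem_smul_as.2 (h.two_a k l hy')⟩
  have h2 := card_sup_as X' ((l : Y) • E)
  rw [h1, h.tX_card k, card_smul_as] at h2
  have h3 := AddSubgroup.card_mul_index E
  have hc0 : 0 < Nat.card ↥(fx V Q ⊓ F) := Nat.card_pos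
  have h5 : Nat.card ↥(X' ⊔ (l : Y) • E) = Nat.card V := by
    apply Nat.eq_of_mul_eq_mul_right hc0
    rw [h2, ← h3, ← h.ca k]
    ring
  have h6 : X' ⊔ (l : Y) • E = ⊤ := by
    apply AddSubgroup.eq_top_of_card_eq
    exact h5
  have h7 : v ∈ X' ⊔ (l : Y) • E := by rw [h6]; trivial
  rw [AddSubgroup.mem_sup] at h7
  obtain ⟨x, hx, e, he, rfl⟩ := h7
  refine ⟨x, hx, ?_⟩
  have e1 : x + e + x = e := by
    rw [add_comm x e, add_assoc, h.two, add_zero]
  rw [e1]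
  exact mem_smul_as.1 he

end t

end Hyp0

end Cfsg.Agent.Omega.NO1.B0

end

section


/-!
# THEOREM B0 (bb OMEGA 18835, helper970): (5), (6)

`[V, A ∩ Q] ≤ X`, `[E, A] = X₁`, `E ∩ l F ≤ X`; `F ≤ X`, `|V| = |V/E|⁴`.
-/

set_option autoImplicit false
set_option linter.unusedSectionVars false
set_option linter.style.haveILetI false

namespace Cfsg.Agent.Omega.NO1.B0

open Subgroup Cfsg.Agent.Omega.NO1.AB
open scoped Pointwise

universe u

variable {Y : Type u} [Group Y] {V : Type u} [AddCommGroup V] [DistribMulAction Y V]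

/-- `C_Y(W) ∩ C_Y(V/W)` -/
def Dx (Y : Type u) [Group Y] {V : Type u} [AddCommGroup V] [DistribMulAction Y V] (h2 : ∀ v : V, v + v = 0)
    (W : AddSubgroup V) : Subgroup Y where
  carrier := {y | (∀ x ∈ W, y • x = x) ∧ ∀ v : V, y • v + v ∈ W}
  mul_mem' := fun {a b} ha hb => by
    refine ⟨fun x hx => by rw [mul_smul, hb.1 x hx, ha.1 x hx], fun v => ?_⟩
    have h3 : a • (b • v) + v = (b • v + v) + (a • v + v) := by
      have h4 := ha.1 _ (hb.2 v)
      rw [smul_add] at h4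
      have h5 : a • b • v = b • v + v + a • v := by rw [← h4, add_assoc, h2, add_zero]
      rw [h5]
      abel
    rw [mul_smul, h3]
    exact W.add_mem (hb.2 v) (ha.2 v)
  one_mem' := ⟨fun x _ => one_smul Y x, fun v => by rw [one_smul, h2]; exact W.zero_mem⟩
  inv_mem' := fun {a} ha => by
    refine ⟨fun x hx => by rw [inv_smul_eq_iff, ha.1 x hx], fun v => ?_⟩
    have h4 := ha.1 _ (ha.2 (a⁻¹ • v))
    rw [smul_inv_smul] at h4
    have h5 := ha.2 (a⁻¹ • v)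
    rw [smul_inv_smul] at h5
    rwa [add_comm]

theorem mem_Dx {h2 : ∀ v : V, v + v = 0} {W : AddSubgroup V} {y : Y} :
    y ∈ Dx Y h2 W ↔ (∀ x ∈ W, y • x = x) ∧ ∀ v : V, y • v + v ∈ W := Iff.rfl

theorem Dx_sq (faith : ∀ y : Y, (∀ v : V, y • v = v) → y = 1) {h2 : ∀ v : V, v + v = 0} {W : AddSubgroup V} {y : Y}
    (hy : y ∈ Dx Y h2 W) : y * y = 1 := by
  apply faith
  intro v
  have h1 := hy.1 _ (hy.2 v)
  rw [smul_add, ← mul_smul, add_comm (y • v) v] at h1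
  exact add_right_cancel h1

theorem Dx_two (faith : ∀ y : Y, (∀ v : V, y • v = v) → y = 1) {h2 : ∀ v : V, v + v = 0} {W : AddSubgroup V} :
    IsPGroup 2 (Dx Y h2 W) := by
  rintro ⟨y, hy⟩
  refine ⟨1, Subtype.ext ?_⟩
  rw [pow_one]
  change y ^ 2 = 1
  rw [pow_two, Dx_sq faith hy]

theorem Dx_conj {h2 : ∀ v : V, v + v = 0} {W W' : AddSubgroup V} {y g : Y} (hy : y ∈ Dx Y h2 W)
    (hg : ∀ x, x ∈ W' ↔ g⁻¹ • x ∈ W) : g * y * g⁻¹ ∈ Dx Y h2 W' := by
  refine ⟨fun x hx => ?_, fun v => ?_⟩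
  · rw [mul_smul, mul_smul, hy.1 _ ((hg x).1 hx), smul_inv_smul]
  · rw [hg, smul_add, mul_smul, mul_smul, inv_smul_smul]
    exact hy.2 _

namespace Hyp0

variable {T : Sylow 2 Y} {M L : Subgroup Y} {A Q L₁ : Subgroup L} {R : Sylow 2 L} {E F : AddSubgroup V}
  {z : V} (h : Hyp0 T M L A Q L₁ R E F z)
include h

section t

variable {t : Y} (k : Tk T L V Q t)
include k

/-- **(5a)** `E ∩ l F ≤ X` -/
theorem five_a [Finite Y] [Finite V] {l : L} (hl : l ∉ L₁) {p : V} (hp : p ∈ E) (hlp : l⁻¹ • p ∈ F) :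
    l⁻¹ • p ∈ fx V Q ⊓ F := by
  by_cases hp0 : p = 0
  · rw [hp0, smul_zero]; exact AddSubgroup.zero_mem _
  have hpF : p ∉ F := fun h1 => hp0 (h.FF hl h1 hlp)
  have hst := h.loc.stab_le hlp (by rwa [h.C0, AddSubgroup.mem_bot])
  have h1 := card_CA h.two h.loc.mem hp hpF
  have h2 : A ⊓ MulAction.stabilizer L p ≤ A ⊓ Q := by
    rintro a ⟨ha, ha1⟩
    exact ⟨ha, h.beta.cap l hl a ha (hst ha1)⟩
  have h3 : A ⊓ MulAction.stabilizer L p = A ⊓ Q := by
    apply eq_of_le_of_card_ge h2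
    rw [h.cB k, h.ca k]
    exact h1
  have h4 : p ∈ fx V Q ⊔ F := by
    rw [← h.beta.CVB]
    intro b hb
    rw [← h3] at hb
    exact hb.2
  apply h.F_inf (h.inv_nmem hl) hlp
  rw [inv_inv, smul_inv_smul]
  exact h4

theorem five_a' [Finite Y] [Finite V] {l : L} (hl : l ∉ L₁) {p : V} (hp : p ∈ E) (hlp : l⁻¹ • p ∈ F) :
    p ∈ fx V Q := by
  have := h.Xmem (l := l) (h.five_a k hl hp hlp).1
  rwa [smul_inv_smul] at this

/-- `[[v, a], b] = [[v, b], a]` -/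
theorem comm_comm {a b : L} (ha : a ∈ A) (hb : b ∈ A) (v : V) :
    b • (a • v + v) + (a • v + v) = a • (b • v + v) + (b • v + v) := by
  simp only [smul_add]
  rw [← mul_smul, ← mul_smul, h.loc.mem.comm a ha b hb]
  abel

/-- **(5b)** `[E, A ∩ Q] ≤ X₁` -/
theorem five_b [Finite Y] [Finite V] {e : V} (he : e ∈ E) {b : L} (hb : b ∈ A ⊓ Q) : b • e + e ∈ fx V Q ⊓ F := by
  obtain ⟨l, hl⟩ := exists_out h.loc h.beta
  obtain ⟨x, hx, hxE⟩ := h.three k hl
  obtain ⟨s, hs, h1⟩ := h.loc.mem.surj _ hxE e he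
  -- `[e, b] = [[x₀, s], b]`
  set x₀ := l⁻¹ • x with hx₀
  have h2 : b • e + e = b • (s • x₀ + x₀) + (s • x₀ + x₀) := by
    have h3 := h.loc.mem.FB b hb.1 _ h1
    rw [smul_add] at h3
    have h4 : b • e = b • (s • x₀ + x₀) + (s • x₀ + x₀ + e) := by
      have h5 : b • (s • x₀ + x₀) + (b • (s • x₀ + x₀) + b • e) = b • e := by
        rw [← add_assoc, h.two, zero_add]
      rw [← h5, h3]
    rw [h4]
    have h5 : b • (s • x₀ + x₀) + (s • x₀ + x₀ + e) + e = b • (s • x₀ + x₀) + (s • x₀ + x₀) + (e + e) := by abel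
    rw [h5, h.two, add_zero]
  rw [h2, h.comm_comm k hs hb.1]
  have h3 : b • x₀ + x₀ ∈ fx V Q := by
    have h4 := h.conj_smul_add k (l := l) (b := b) x
    rw [← hx₀] at h4
    rw [← h4]
    exact h.Xmem ((h.s3Q k (h.conjB k (l := l) hb)).1 x hx).1
  exact ⟨(fx V Q).add_mem (h.Xmem h3) h3, h.loc.mem.EB s hs _ (h.beta.XE h3)⟩

/-- `[E, A] ≤ X₁` -/
theorem five_b' [Finite Y] [Finite V] {e : V} (he : e ∈ E) {a : L} (ha : a ∈ A) : a • e + e ∈ fx V Q ⊓ F := by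
  obtain ⟨s, hs, hs1⟩ := h.A_ne k
  obtain ⟨e', he', h1⟩ := pf_eq h.loc.mem h.two (by rw [h.cA2 k, h.ca k]) hs.1 hs1 ha he
  rw [h1]
  exact h.five_b k he' hs

/-- **(5c)** `[V, A ∩ Q] ≤ X` -/
theorem five_c [Finite Y] [Finite V] (v : V) {b : L} (hb : b ∈ A ⊓ Q) : b • v + v ∈ fx V Q := by
  obtain ⟨l, hl⟩ := exists_out h.loc h.beta
  -- `l v = x + e`
  obtain ⟨x, hx, he⟩ := h.sup_top k hl (l • v)
  have h1 : b • (l⁻¹ • x) + l⁻¹ • x ∈ fx V Q := by
    rw [← h.conj_smul_add k]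
    exact h.Xmem ((h.s3Q k (h.conjB k (l := l) hb)).1 x hx).1
  have h2 := (h.five_b k he hb).1
  have e1 : l⁻¹ • (l • v + x) = v + l⁻¹ • x := by rw [smul_add, inv_smul_smul]
  rw [e1] at h2
  have h3 : b • v + v = (b • (v + l⁻¹ • x) + (v + l⁻¹ • x)) + (b • (l⁻¹ • x) + l⁻¹ • x) := by
    rw [smul_add]
    have : b • v + b • l⁻¹ • x + (v + l⁻¹ • x) + (b • l⁻¹ • x + l⁻¹ • x) =
      b • v + v + (b • l⁻¹ • x + b • l⁻¹ • x) + (l⁻¹ • x + l⁻¹ • x) := by abel
    rw [this, h.two, h.two, add_zero, add_zero]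
  rw [h3]
  exact (fx V Q).add_mem h2 h1

/-- **(5d)** `C_E(b) ≤ X + F` for `b ∈ (A ∩ Q)#` -/
theorem five_d [Finite Y] [Finite V] {b : L} (hb : b ∈ A ⊓ Q) (hb1 : b ≠ 1) {e : V} (he : e ∈ E)
    (hbe : b • e = e) : e ∈ fx V Q ⊔ F := by
  obtain ⟨w, hw⟩ := h.loc.mem.ne
  obtain ⟨a, ha, h1⟩ := h.loc.mem.surj w hw e he
  have hbw := h.five_c k w hb
  have hbwF : b • w + w ∉ F := fun h2 => hb1 (h.loc.mem.inj w hw b hb.1 h2)
  have h2 : a • (b • w + w) = b • w + w := by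
    have h3 := h.loc.mem.FB b hb.1 _ h1
    rw [smul_add, hbe] at h3
    have h4 : b • (a • w + w) = a • w + w := add_right_cancel h3
    have h5 := h.comm_comm k ha hb.1 w
    rw [h4, h.two] at h5
    exact h.eq_of_add h5.symm
  have h3 := h.beta.cen _ hbw hbwF a ha h2
  have h4 := h.five_c k w ⟨ha, h3⟩
  have h5 : e = (a • w + w) + (a • w + w + e) := by rw [← add_assoc, h.two, zero_add]
  rw [h5]
  exact AddSubgroup.add_mem _ (AddSubgroup.mem_sup_left h4) (AddSubgroup.mem_sup_right h1)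

/-- `A ∩ Q ≤ D`, and its conjugates -/
theorem B_le_D [Finite Y] [Finite V] {b : L} (hb : b ∈ A ⊓ Q) (l : L) :
    ((l * b * l⁻¹ : L) : Y) ∈ Dx Y h.two (fx V Q : AddSubgroup V) := by
  refine ⟨fun x hx => hx _ (h.conjB k hb), fun v => ?_⟩
  have h1 := h.five_c k (l⁻¹ • v) hb
  rw [← h.conj_smul_add k] at h1
  have := h.Xmem (l := l) h1
  rwa [smul_inv_smul] at this

/-- `φ_v` is onto `X₁` on `A ∩ Q`, `v ∈ E - (X + F)` -/
theorem onto [Finite Y] [Finite V] {v : V} (hv : v ∈ E) (hvX : v ∉ fx V Q ⊔ F) {x : V} (hx : x ∈ fx V Q ⊓ F) :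
    ∃ b ∈ A ⊓ Q, b • v + v = x := by
  let f : ↥(A ⊓ Q) → ↥(fx V Q ⊓ F) := fun b => ⟨_, h.five_b k hv b.2⟩
  have hf : Function.Injective f := by
    intro b b' hbb
    have h1 : (b : L) • v + v = (b' : L) • v + v := congrArg Subtype.val hbb
    have h3 : (b : L) • v = (b' : L) • v := add_right_cancel h1
    by_contra hne
    apply hvX
    apply h.five_d k (b := (b' : L)⁻¹ * b) (mul_mem (inv_mem b'.2) b.2) _ hv
    · rw [mul_smul, h3, inv_smul_smul]
    · rw [Ne, inv_mul_eq_one]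
      exact fun h4 => hne (Subtype.ext h4.symm)
  have hs : Function.Surjective f := (Nat.bijective_iff_injective_and_card f).2 ⟨hf, h.cB k⟩ |>.2
  obtain ⟨b, hb⟩ := hs ⟨x, hx⟩
  exact ⟨b, b.2, congrArg Subtype.val hb⟩

end t

end Hyp0

theorem card_mul_le {G : Type*} [Group G] [Finite G] {H K W : Subgroup G} (hH : H ≤ W) (hK : K ≤ W) :
    Nat.card H * Nat.card K ≤ Nat.card W * Nat.card ↥(H ⊓ K) := by
  have h1 := relIndex_mul_relIndex ⊥ (H ⊓ K) H bot_le inf_le_left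
  have h2 := relIndex_mul_relIndex ⊥ K W bot_le hK
  rw [relIndex_bot_left, relIndex_bot_left, inf_comm, inf_relIndex_right] at h1
  rw [relIndex_bot_left, relIndex_bot_left] at h2
  have h3 : K.relIndex H ≤ K.relIndex W := relIndex_le_of_le_right hH index_ne_zero_of_finite
  rw [← h1, ← h2, inf_comm H K]
  calc Nat.card ↥(K ⊓ H) * K.relIndex H * Nat.card K
      ≤ Nat.card ↥(K ⊓ H) * K.relIndex W * Nat.card K := Nat.mul_le_mul_right _ (Nat.mul_le_mul_left _ h3)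
    _ = _ := by ring

/-- `φ_v : D → X` -/
def phi (h2 : ∀ v : V, v + v = 0) (W : AddSubgroup V) (v : V) : Dx Y h2 W →* Multiplicative W where
  toFun d := Multiplicative.ofAdd ⟨(d : Y) • v + v, d.2.2 v⟩
  map_one' := by
    apply congrArg Multiplicative.ofAdd
    apply Subtype.ext
    change (1 : Y) • v + v = 0
    rw [one_smul, h2]
  map_mul' d d' := by
    apply congrArg Multiplicative.ofAdd
    apply Subtype.ext
    change ((d : Y) * d') • v + v = ((d : Y) • v + v) + ((d' : Y) • v + v)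
    have h1 : (d : Y) • ((d' : Y) • v + v) = (d' : Y) • v + v := d.2.1 _ (d'.2.2 v)
    rw [mul_smul]
    have h3 : (d : Y) • (d' : Y) • v = (d' : Y) • v + v + (d : Y) • v := by
      rw [smul_add] at h1
      rw [← h1, add_assoc, h2, add_zero]
    rw [h3]
    abel

theorem phi_eq {h2 : ∀ v : V, v + v = 0} {W : AddSubgroup V} {v x : V} (hx : x ∈ W) (d : Dx Y h2 W) :
    phi h2 W v d = Multiplicative.ofAdd ⟨x, hx⟩ ↔ (d : Y) • v + v = x :=
  ⟨fun h => congrArg (fun u : Multiplicative W => ((u.toAdd : W) : V)) h, fun h =>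
    congrArg Multiplicative.ofAdd (Subtype.ext h)⟩

namespace Hyp

variable {T : Sylow 2 Y} {M L : Subgroup Y} {A Q L₁ : Subgroup L} {R : Sylow 2 L} {E F : AddSubgroup V}
  {z : V} (h : Hyp T M L A Q L₁ R E F z)
include h

theorem D_le_NX [Finite V] : Dx Y h.two (fx V Q : AddSubgroup V) ≤ NX L V Q := by
  intro d hd
  apply mem_NX_of
  intro x hx
  rw [hd.1 x hx]
  exact hx

theorem D_conj [Finite V] {n d : Y} (hn : n ∈ NX L V Q) (hd : d ∈ Dx Y h.two (fx V Q : AddSubgroup V)) :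
    n * d * n⁻¹ ∈ Dx Y h.two (fx V Q : AddSubgroup V) := by
  apply Dx_conj hd
  intro x
  constructor
  · exact fun hx => NX_smul (inv_mem hn) hx
  · intro hx
    have := NX_smul hn hx
    rwa [smul_inv_smul] at this

/-- `D ≤ T` -/
theorem D_le_T [Finite V] : Dx Y h.two (fx V Q : AddSubgroup V) ≤ T := by
  have h1 : IsPGroup 2 (((T : Subgroup Y) ⊓ NX L V Q) ⊔ Dx Y h.two (fx V Q : AddSubgroup V) : Subgroup Y) := by
    apply IsPGroup.to_sup_of_normal_right' (T.2.to_le inf_le_left) (Dx_two h.faith)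
    intro n hn
    rw [mem_normalizer_iff]
    intro y
    constructor
    · exact fun hy => h.D_conj hn.2 hy
    · intro hy
      have h2 := h.D_conj (inv_mem hn.2) hy
      have e : n⁻¹ * (n * y * n⁻¹) * n⁻¹⁻¹ = y := by group
      rwa [e] at h2
  exact le_sup_right.trans (h.max _ h1 (sup_le inf_le_right h.D_le_NX) le_sup_left)

theorem inf_X' [Finite Y] [Finite V] {t : Y} (k : Tk T L V Q t) {x : V} (hx : x ∈ fx V Q)
    (hx' : x ∈ t • (fx V Q : AddSubgroup V)) : x ∈ fx V Q ⊓ F := by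
  by_contra h1
  obtain ⟨y, hy, hyX⟩ := h.X'_not_le k
  apply hyX
  intro q hq
  exact (h.s3Q k hq).2 x hx' h1 (hx q hq) y hy

theorem cE [Finite Y] [Finite V] {t : Y} (k : Tk T L V Q t) :
    Nat.card E = Nat.card F * Nat.card ↥(fx V Q ⊓ F) ^ 2 := by
  rw [h.loc.mem.card_E h.two, h.cA2 k]

theorem cV [Finite Y] [Finite V] {t : Y} (k : Tk T L V Q t) :
    Nat.card V = Nat.card F * Nat.card ↥(fx V Q ⊓ F) ^ 3 := by
  rw [← AddSubgroup.card_mul_index E, h.cE k, ← h.ca k]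
  ring

/-- `|X + X'| = a³` -/
theorem cU [Finite Y] [Finite V] {t : Y} (k : Tk T L V Q t) :
    Nat.card ↥(fx V Q ⊔ t • (fx V Q : AddSubgroup V)) = Nat.card ↥(fx V Q ⊓ F) ^ 3 := by
  have h1 := card_sup_as (fx V Q : AddSubgroup V) (t • (fx V Q : AddSubgroup V))
  have h2 : (fx V Q : AddSubgroup V) ⊓ t • (fx V Q : AddSubgroup V) = fx V Q ⊓ F := by
    apply le_antisymm
    · rintro x ⟨hx, hx'⟩
      exact h.inf_X' k hx hx'
    · intro x hx
      exact ⟨hx.1, h.X1_le_X' k hx⟩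
  rw [h2, h.tX_card k, h.cX] at h1
  have hc0 : 0 < Nat.card ↥(fx V Q ⊓ F) := Nat.card_pos
  apply Nat.eq_of_mul_eq_mul_right hc0
  rw [h1]
  ring

theorem ttX [Finite V] {t : Y} (k : Tk T L V Q t) {x : V} (hx : x ∈ fx V Q) :
    t⁻¹ • x ∈ t • (fx V Q : AddSubgroup V) := by
  rw [mem_smul_as, ← mul_smul, ← mul_inv_rev]
  exact NX_smul (inv_mem k.tt) hx

/-- **(6)** `F ≤ X` -/
theorem six [Finite Y] [Finite V] {t : Y} (k : Tk T L V Q t) : F ≤ fx V Q := by
  by_contra hF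
  obtain ⟨l, hl⟩ := exists_out h.loc h.beta
  set c := Nat.card ↥(fx V Q ⊓ F) with hc
  have hc1 : 1 < c := h.two_le_c
  have hc0 : 0 < c := by omega
  -- `|F| > c`
  have hFc : c < Nat.card F := by
    by_contra h1
    push Not at h1
    apply hF
    have h2 := eq_of_le_as (W₁ := fx V Q ⊓ F) (W₂ := F) inf_le_right h1
    rw [← h2]
    exact inf_le_left
  set lE : AddSubgroup V := (l : Y) • E with hlE
  have hmE : ∀ {x : V}, x ∈ lE ↔ l⁻¹ • x ∈ E := fun {x} => mem_smul_as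
  have hcE := h.cE k
  have hcV := h.cV k
  have hclE : Nat.card lE = Nat.card E := card_smul_as _ _
  -- `V_E`
  have hVE : Nat.card ↥(E ⊓ lE) = Nat.card F * c := by
    have h1 := card_sup_as E lE
    have h2 : E ⊔ lE = ⊤ := by
      rw [eq_top_iff]
      intro v _
      obtain ⟨x, hx, he⟩ := h.sup_top k hl v
      have e : v = x + (v + x) := by
        rw [add_comm v x, ← add_assoc, h.two, zero_add]
      rw [e]
      exact AddSubgroup.add_mem _ (AddSubgroup.mem_sup_left (h.X'_le_E k hx))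
        (AddSubgroup.mem_sup_right (hmE.2 he))
    rw [h2, AddSubgroup.card_top, hclE, hcE, hcV] at h1
    have hp : 0 < Nat.card F * c ^ 3 := Nat.mul_pos Nat.card_pos (pow_pos hc0 3)
    apply Nat.eq_of_mul_eq_mul_left hp
    rw [h1]
    ring
  have hFE : F ⊓ lE ≤ fx V Q ⊓ F := by
    rintro p ⟨hp, hpE⟩
    have h1 := h.five_a k (h.inv_nmem hl) (p := l⁻¹ • p) (hmE.1 hpE) (by rwa [inv_inv, smul_inv_smul])
    rwa [inv_inv, smul_inv_smul] at h1
  have hFa : Nat.card F ≤ c ^ 2 := by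
    have h1 := card_sup_as F lE
    have h2 : Nat.card ↥(F ⊔ lE) ≤ Nat.card V := Nat.card_le_card_of_injective _ Subtype.val_injective
    have h3 := card_mono_as hFE
    rw [hclE, hcE] at h1
    rw [hcV] at h2
    have hp : 0 < Nat.card F * c ^ 2 := Nat.mul_pos Nat.card_pos (pow_pos hc0 2)
    apply Nat.le_of_mul_le_mul_right _ hp
    calc Nat.card F * (Nat.card F * c ^ 2) = Nat.card ↥(F ⊔ lE) * Nat.card ↥(F ⊓ lE) := h1.symm
      _ ≤ (Nat.card F * c ^ 3) * c := Nat.mul_le_mul h2 h3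
      _ = c ^ 2 * (Nat.card F * c ^ 2) := by ring
  -- `v`
  obtain ⟨v, ⟨hvE, hvlE⟩, hvX⟩ : ∃ v ∈ E ⊓ lE, v ∉ fx V Q := by
    by_contra h1
    push Not at h1
    have h2 := card_mono_as (W₁ := E ⊓ lE) (W₂ := fx V Q) h1
    rw [hVE, h.cX] at h2
    have h3 : c * c < Nat.card F * c := Nat.mul_lt_mul_of_pos_right hFc hc0
    rw [← pow_two] at h3
    exact absurd h2 (not_le_of_gt h3)
  have hvlE' := hmE.1 hvlE
  have hvF : v ∉ fx V Q ⊔ F := by
    intro h1
    rw [AddSubgroup.mem_sup] at h1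
    obtain ⟨x, hx, f, hf, rfl⟩ := h1
    apply hvX
    have h2 : f ∈ F ⊓ lE := by
      refine ⟨hf, hmE.2 ?_⟩
      rw [smul_add] at hvlE'
      exact (AddSubgroup.add_mem_cancel_left E (h.beta.XE (h.Xmem hx))).1 hvlE'
    exact (fx V Q).add_mem hx (hFE h2).1
  have hv'F : l⁻¹ • v ∉ fx V Q ⊔ F := by
    intro h1
    rw [AddSubgroup.mem_sup] at h1
    obtain ⟨x, hx, f, hf, he⟩ := h1
    apply hvX
    have hv : v = l • x + l • f := by rw [← smul_add, he, smul_inv_smul]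
    have h2 : l • f ∈ E := by
      rw [hv] at hvE
      exact (AddSubgroup.add_mem_cancel_left E (h.beta.XE (h.Xmem hx))).1 hvE
    have h3 := h.five_a k hl h2 (by rwa [inv_smul_smul])
    rw [inv_smul_smul] at h3
    rw [hv]
    exact (fx V Q).add_mem (h.Xmem hx) (h.Xmem h3.1)
  -- `φ_v` is onto
  set D := Dx Y h.two (fx V Q : AddSubgroup V) with hD
  set φ := phi (Y := Y) h.two (fx V Q : AddSubgroup V) v with hφ
  have hB1 : ∀ b ∈ A ⊓ Q, (b : Y) ∈ D := by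
    intro b hb
    have := h.B_le_D k hb 1
    rwa [one_mul, inv_one, mul_one] at this
  have hsurj : Function.Surjective φ := by
    intro x
    obtain ⟨x, rfl⟩ := Multiplicative.ofAdd.surjective x
    obtain ⟨x, hx⟩ := x
    have hx' := hx
    rw [h.beta.sup l hl, AddSubgroup.mem_sup] at hx'
    obtain ⟨x₁, hx₁, x₂, hx₂, he⟩ := hx'
    obtain ⟨b₁, hb₁, h1⟩ := h.onto k hvE hvF hx₁
    obtain ⟨b₂, hb₂, h2⟩ := h.onto k hvlE' hv'F (mem_smul_as.1 hx₂)
    have hd : (b₁ : Y) * ((l * b₂ * l⁻¹ : L) : Y) ∈ D := mul_mem (hB1 b₁ hb₁) (h.B_le_D k hb₂ l)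
    refine ⟨⟨_, hd⟩, ?_⟩
    have h3 : φ ⟨_, hd⟩ = φ ⟨_, hB1 b₁ hb₁⟩ * φ ⟨_, h.B_le_D k hb₂ l⟩ := by
      rw [← map_mul]; rfl
    have h4 : (l * b₂ * l⁻¹) • v + v = x₂ := by
      rw [← h.conj_smul_add k (l := l) (b := b₂) v] at h2
      exact smul_left_cancel _ h2
    have hx₂X : x₂ ∈ fx V Q := h.loc.mem_X_of hx₂
    have h5 : φ ⟨_, hB1 b₁ hb₁⟩ = Multiplicative.ofAdd ⟨x₁, hx₁.1⟩ := (phi_eq _ _).2 h1
    have h6 : φ ⟨_, h.B_le_D k hb₂ l⟩ = Multiplicative.ofAdd ⟨x₂, hx₂X⟩ := (phi_eq _ _).2 h4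
    rw [h3, h5, h6]
    apply congrArg Multiplicative.ofAdd
    exact Subtype.ext he
  -- cardinalities
  set κ := Nat.card φ.ker with hκ
  have hκ0 : 0 < κ := Nat.card_pos
  have hcD : Nat.card D = c ^ 2 * κ := by
    have h1 := Subgroup.card_mul_index φ.ker
    rw [Subgroup.index_ker, MonoidHom.range_eq_top.2 hsurj, Subgroup.card_top] at h1
    have h2 : Nat.card (Multiplicative ↥(fx V Q : AddSubgroup V)) = c ^ 2 := h.cX
    rw [← h1, h2]
    ring
  -- `D₁ = φ⁻¹(X₁)`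
  let X₁' : Subgroup (Multiplicative ↥(fx V Q : AddSubgroup V)) := AddSubgroup.toSubgroup (F.addSubgroupOf (fx V Q))
  have hX₁' : X₁'.index = c := by
    have h1 : X₁'.index = (F.addSubgroupOf (fx V Q)).index := rfl
    have h2 := AddSubgroup.card_mul_index (F.addSubgroupOf (fx V Q))
    have h3 : Nat.card ↥(F.addSubgroupOf (fx V Q)) = c := by
      apply Nat.card_congr
      exact
        { toFun := fun v => ⟨v.1.1, v.1.2, AddSubgroup.mem_addSubgroupOf.1 v.2⟩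
          invFun := fun v => ⟨⟨v.1, v.2.1⟩, AddSubgroup.mem_addSubgroupOf.2 v.2.2⟩
          left_inv := fun v => rfl
          right_inv := fun v => rfl }
    rw [h3, h.cX, pow_two] at h2
    rw [h1]
    exact Nat.eq_of_mul_eq_mul_left hc0 h2
  set D₁ : Subgroup Y := (X₁'.comap φ).map D.subtype with hD₁
  have hmD₁ : ∀ {d : Y}, d ∈ D₁ ↔ d ∈ D ∧ d • v + v ∈ F := by
    intro d
    constructor
    · rintro ⟨d', hd', rfl⟩
      exact ⟨d'.2, AddSubgroup.mem_addSubgroupOf.1 hd'⟩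
    · rintro ⟨hd, hdF⟩
      exact ⟨⟨d, hd⟩, AddSubgroup.mem_addSubgroupOf.2 hdF, rfl⟩
  have hcD₁ : Nat.card D₁ = c * κ := by
    have h1 : Nat.card D₁ = Nat.card (X₁'.comap φ) :=
      Nat.card_congr ((X₁'.comap φ).equivMapOfInjective _ D.subtype_injective).symm.toEquiv
    have h2 := Subgroup.card_mul_index (X₁'.comap φ)
    rw [Subgroup.index_comap_of_surjective _ hsurj, hX₁', hcD] at h2
    rw [h1]
    apply Nat.eq_of_mul_eq_mul_right hc0
    rw [h2]
    ring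
  -- `D₀`
  obtain ⟨D₀, hD₀, hcD₀⟩ := h.count_X' k (P := D) (fun p hp => ⟨h.D_le_T hp, h.D_le_NX hp⟩)
    (fun p hp x hx => hp.1 x hx.1)
  rw [hcD] at hcD₀
  have hcD₀' : c * κ ≤ Nat.card D₀ := by
    apply Nat.le_of_mul_le_mul_left _ hc0
    calc c * (c * κ) = c ^ 2 * κ := by ring
      _ ≤ _ := hcD₀
  set X' : AddSubgroup V := t • (fx V Q : AddSubgroup V) with hX'
  set U := (fx V Q : AddSubgroup V) ⊔ X' with hU
  have hUX : (fx V Q : AddSubgroup V) ≤ U := le_sup_left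
  have hUX' : X' ≤ U := le_sup_right
  set W := Dx Y h.two U with hW
  have htriv : ∀ d : Y, (∀ x ∈ fx V Q, d • x = x) → (∀ x ∈ X', d • x = x) → ∀ x ∈ U, d • x = x := by
    intro d h1 h2 x hx
    rw [hU, AddSubgroup.mem_sup] at hx
    obtain ⟨y, hy, w, hw, rfl⟩ := hx
    rw [smul_add, h1 y hy, h2 w hw]
  have hD₀W : D₀ ≤ W := by
    intro d hd
    obtain ⟨hd1, hd2⟩ := (hD₀ d).1 hd
    exact ⟨htriv d hd1.1 hd2, fun v => hUX (hd1.2 v)⟩
  set D₀t : Subgroup Y := MulAut.conj t • D₀ with hD₀t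
  have hD₀tmem : ∀ {d : Y}, d ∈ D₀t → (∀ x ∈ fx V Q, d • x = x) ∧ (∀ x ∈ X', d • x = x) ∧ ∀ v : V, d • v + v ∈ X' := by
    intro d hd
    rw [hD₀t, mem_conj] at hd
    obtain ⟨hd1, hd2⟩ := (hD₀ _).1 hd
    have hs : ∀ x : V, t • ((t⁻¹ * d * t) • (t⁻¹ • x)) = d • x := by
      intro x
      rw [← mul_smul, ← mul_smul]
      congr 1
      group
    refine ⟨fun x hx => ?_, fun x hx => ?_, fun v => ?_⟩
    · rw [← hs, hd2 _ (h.ttX k hx), smul_inv_smul]
    · rw [← hs, hd1.1 _ (mem_smul_as.1 hx), smul_inv_smul]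
    · rw [hX', mem_smul_as, smul_add, ← hs v, inv_smul_smul]
      exact hd1.2 _
  have hD₀tW : D₀t ≤ W := by
    intro d hd
    obtain ⟨h1, h2, h3⟩ := hD₀tmem hd
    exact ⟨htriv d h1 h2, fun v => hUX' (h3 v)⟩
  have hcD₀t : Nat.card D₀t = Nat.card D₀ :=
    (Nat.card_congr (Subgroup.equivSMul (MulAut.conj t) D₀).toEquiv).symm
  have h1 := card_mul_le hD₀W hD₀tW
  rw [hcD₀t] at h1
  -- `I`
  have hI : Nat.card ↥(D₀ ⊓ D₀t) ≤ κ := by
    have h2 : D₀ ⊓ D₀t ≤ D₁ := by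
      rintro d ⟨hd1, hd2⟩
      have h3 := ((hD₀ d).1 hd1).1
      refine hmD₁.2 ⟨h3, ?_⟩
      exact (h.inf_X' k (h3.2 v) ((hD₀tmem hd2).2.2 v)).2
    have h3 : (A ⊓ Q).map L.subtype ≤ D₁ := by
      rintro _ ⟨b, hb, rfl⟩
      exact hmD₁.2 ⟨hB1 b hb, h.loc.mem.EB b hb.1 v hvE⟩
    have h4 := card_mul_le h2 h3
    have h5 : (D₀ ⊓ D₀t) ⊓ (A ⊓ Q).map L.subtype = ⊥ := by
      rw [eq_bot_iff]
      rintro _ ⟨⟨hd1, hd2⟩, ⟨b, hb, rfl⟩⟩
      rw [mem_bot]
      obtain ⟨w, hw⟩ := h.loc.mem.ne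
      have h6 : b • w + w ∈ F :=
        (h.inf_X' k (((hD₀ _).1 hd1).1.2 w) ((hD₀tmem hd2).2.2 w)).2
      rw [h.loc.mem.inj w hw b hb.1 h6]
      rfl
    have h6 : Nat.card ↥((A ⊓ Q).map L.subtype) = c := by
      rw [hc, ← h.cB k]
      exact Nat.card_congr ((A ⊓ Q).equivMapOfInjective _ L.subtype_injective).symm.toEquiv
    rw [h5, Subgroup.card_bot, mul_one, hcD₁, h6] at h4
    apply Nat.le_of_mul_le_mul_right _ hc0
    calc Nat.card ↥(D₀ ⊓ D₀t) * c ≤ c * κ := h4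
      _ = κ * c := by ring
  -- no offender
  have hWne : W ≠ ⊥ := by
    intro h2
    have h3 : D₀ = ⊥ := by rw [eq_bot_iff, ← h2]; exact hD₀W
    rw [h3, Subgroup.card_bot] at hcD₀'
    have : c * 1 ≤ c * κ := Nat.mul_le_mul_left _ hκ0
    omega
  have h2 := h.off W (fun b hb => Dx_sq h.faith hb) hWne
  have h3 : U ≤ fx V W := fun x hx d hd => hd.1 x hx
  have h4 := card_mono_as h3
  have hcU : Nat.card U = c ^ 3 := h.cU k
  rw [hcU] at h4
  rw [hcV] at h2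
  have h5 : Nat.card W < Nat.card F := by
    apply Nat.lt_of_mul_lt_mul_right (a := c ^ 3)
    exact lt_of_le_of_lt (Nat.mul_le_mul_left _ h4) h2
  -- end
  have h6 : c * κ * (c * κ) ≤ Nat.card W * κ := by
    calc c * κ * (c * κ) ≤ Nat.card D₀ * Nat.card D₀ := Nat.mul_le_mul hcD₀' hcD₀'
      _ ≤ _ := h1
      _ ≤ _ := Nat.mul_le_mul_left _ hI
  have h7 : c ^ 2 * κ ≤ Nat.card W := by
    apply Nat.le_of_mul_le_mul_right _ hκ0
    calc c ^ 2 * κ * κ = c * κ * (c * κ) := by ring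
      _ ≤ _ := h6
  have h8 : c ^ 2 ≤ c ^ 2 * κ := Nat.le_mul_of_pos_right _ hκ0
  omega

end Hyp

end Cfsg.Agent.Omega.NO1.B0

end
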